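import Mathlib

/-!
# The numbers of elements of each order of the largest Mathieu group: the needed properties

Apart from the orders whose elements centralize an element of order 5, 7, 11 or 23, the count of
each order is even and divisible by `5 * 7 * 11 * 23`.
-/

set_option autoImplicit false

namespace Cfsg.Agent.M24Nse

/-- The order of the largest Mathieu group. -/
def ord : ℕ := 244823040

/-- The possible counts: the eleven counts of orders 1, 2, 3, 5, 10, 15, 7, 14, 21, 11, 23 and
otherwise an even multiple of `8855`. -/
def Counts (c : ℕ) : Prop :=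
  c = 1 ∨ c = 43263 ∨ c = 712448 ∨ c = 4080384 ∨ c = 12241152 ∨ c = 32643072 ∨ c = 11658240 ∨
    c = 34974720 ∨ c = 23316480 ∨ c = 22256640 ∨ c = 21288960 ∨ 17710 ∣ c

end Cfsg.Agent.M24Nse
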