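import Mathlib
import Cfsg.Agent.M24Nse.Basic

/-!
# The local facts that the counts of element orders of the largest Mathieu group give
-/

set_option autoImplicit false

namespace Cfsg.Agent.M24Nse

universe u

/-- The local data at 5, 7, 11 and 23. -/
structure Facts (G : Type u) [Group G] : Prop where
  card : Nat.card G = ord
  simple : IsSimpleGroup G
  cent_twentythree : ∀ x : G, orderOf x = 23 →
    Nat.card (Subgroup.centralizer ({x} : Set G)) = 23
  norm_twentythree : ∀ x : G, orderOf x = 23 →
    Nat.card (Subgroup.normalizer ((Subgroup.zpowers x : Subgroup G) : Set G)) = 253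
  cent_eleven : ∀ x : G, orderOf x = 11 →
    Nat.card (Subgroup.centralizer ({x} : Set G)) = 11
  norm_eleven : ∀ x : G, orderOf x = 11 →
    Nat.card (Subgroup.normalizer ((Subgroup.zpowers x : Subgroup G) : Set G)) = 110
  five : ∃ (f : Multiplicative (ZMod 5) × alternatingGroup (Fin 4) →* G) (g : G),
    Function.Injective f ∧
      f.range = Subgroup.centralizer ({f (Multiplicative.ofAdd 1, 1)} : Set G) ∧
      g * f (Multiplicative.ofAdd 1, 1) * g⁻¹ = f (Multiplicative.ofAdd 1, 1) ^ 2
  seven : ∃ (f : Multiplicative (ZMod 7) × Equiv.Perm (Fin 3) →* G) (g : G),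
    Function.Injective f ∧
      f.range = Subgroup.centralizer ({f (Multiplicative.ofAdd 1, 1)} : Set G) ∧
      g * f (Multiplicative.ofAdd 1, 1) * g⁻¹ = f (Multiplicative.ofAdd 1, 1) ^ 2 ∧
      ∀ h : G, h * f (Multiplicative.ofAdd 1, 1) * h⁻¹ ≠ (f (Multiplicative.ofAdd 1, 1))⁻¹

end Cfsg.Agent.M24Nse
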