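import Cfsg.Agent.M24Nse.Tools
import Cfsg.Agent.M24Nse.Facts
import Cfsg.Agent.Fg24.M23.BlockMore

/-!
# The columns at the elements of order eleven and twenty-three
-/

set_option autoImplicit false
set_option linter.unusedSectionVars false

namespace Cfsg.Agent.M24Nse

open scoped ComplexConjugate
open Cfsg.Agent Cfsg.Agent.Blocks

universe u

/-- The value at an element of order eleven as a function of the degree. -/
def r11 (d : ℕ) : ℤ := if d % 11 = 1 then 1 else if d % 11 = 10 then -1 else 0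

/-- The sum of the two values at elements of order twenty-three as a function of the degree. -/
def r23 (d : ℕ) : ℤ :=
  if d % 23 = 1 then 2 else if d % 23 = 22 then -2 else if d % 23 = 12 then 1
  else if d % 23 = 11 then -1 else 0

variable {G : Type u} [Group G] [Fintype G]

/-- The two large primes. -/
structure BigFacts (G : Type u) [Group G] [Fintype G] : Prop where
  res11 : ∀ χ : Cfsg.IrrCharacter G, deg χ % 11 = 0 ∨ deg χ % 11 = 1 ∨ deg χ % 11 = 10
  res23 : ∀ χ : Cfsg.IrrCharacter G, deg χ % 23 = 0 ∨ deg χ % 23 = 1 ∨ deg χ % 23 = 22 ∨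
    deg χ % 23 = 11 ∨ deg χ % 23 = 12
  col11 : InCol {11} fun χ : Cfsg.IrrCharacter G => (r11 (deg χ) : ℂ)
  col23 : InCol {23} fun χ : Cfsg.IrrCharacter G => (r23 (deg χ) : ℂ)
  count11 : (Finset.univ.filter fun χ : Cfsg.IrrCharacter G => r11 (deg χ) ≠ 0).card = 11
  count23 : (Finset.univ.filter fun χ : Cfsg.IrrCharacter G => (r23 (deg χ)).natAbs = 2).card = 11
  count23' : (Finset.univ.filter fun χ : Cfsg.IrrCharacter G => (r23 (deg χ)).natAbs = 1).card = 2
  value11 : ∀ (χ : Cfsg.IrrCharacter G) (x : G), orderOf x = 11 →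
    (χ : G → ℂ) x = (r11 (deg χ) : ℂ)
  value23 : ∀ (χ : Cfsg.IrrCharacter G) (x : G), orderOf x = 23 → 23 ∣ deg χ → (χ : G → ℂ) x = 0

/-- The setup of a cyclic Sylow subgroup of prime order. -/
theorem exists_setup {p : ℕ} [Fact p.Prime] {e : ℕ} (hcard : Nat.card G = ord)
    (hfac : ord.factorization p = 1) {x : G} (hx : orderOf x = p)
    (hC : Nat.card (Subgroup.centralizer ({x} : Set G)) = p)
    (hN : Nat.card (Subgroup.normalizer ((Subgroup.zpowers x : Subgroup G) : Set G)) = p * e) :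
    ∃ P : Sylow p G, x ∈ (P : Subgroup G) ∧ BlockThms.OrderP.Setup P e := by
  obtain ⟨P, hP⟩ := (IsPGroup.of_card (p := p) (n := 1) (by
    rw [Nat.card_zpowers, hx, pow_one]) : IsPGroup p (Subgroup.zpowers x)).exists_le_sylow
  have hPc : Nat.card (P : Subgroup G) = p := by
    rw [P.card_eq_multiplicity, hcard, hfac, pow_one]
  have hPe : (P : Subgroup G) = Subgroup.zpowers x :=
    (Subgroup.eq_of_le_of_card_ge hP (by rw [hPc, Nat.card_zpowers, hx])).symm
  have hCe : Subgroup.centralizer ((P : Subgroup G) : Set G) =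
      Subgroup.centralizer ({x} : Set G) := by
    refine le_antisymm (Subgroup.centralizer_le (Set.singleton_subset_iff.2 (hP (Subgroup.mem_zpowers x))))
      fun c hc => Subgroup.mem_centralizer_iff.2 fun v hv => ?_
    rw [SetLike.mem_coe, hPe] at hv
    obtain ⟨i, rfl⟩ := Subgroup.mem_zpowers_iff.1 hv
    exact (((show Commute c x from Subgroup.mem_centralizer_singleton_iff.1 hc).zpow_right i).eq).symm
  refine ⟨P, hP (Subgroup.mem_zpowers x), hPc, ?_⟩
  have hle : Subgroup.centralizer ((P : Subgroup G) : Set G) ≤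
      Subgroup.normalizer ((P : Subgroup G) : Set G) := Subgroup.centralizer_le_normalizer _
  have h := Subgroup.card_mul_index ((Subgroup.centralizer ((P : Subgroup G) : Set G)).subgroupOf
    (Subgroup.normalizer ((P : Subgroup G) : Set G)))
  rw [Nat.card_congr (Subgroup.subgroupOfEquivOfLe hle).toEquiv, hCe, hC] at h
  show ((Subgroup.centralizer ((P : Subgroup G) : Set G)).subgroupOf
    (Subgroup.normalizer ((P : Subgroup G) : Set G))).index = e
  rw [hCe]
  refine Nat.eq_of_mul_eq_mul_left (Fact.out : p.Prime).pos ?_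
  rw [h, hPe]
  exact hN

theorem factorization_ord {q m : ℕ} (hq : q.Prime) (hm : ¬ q ∣ m) (he : q * m = ord) :
    ord.factorization q = 1 := by
  have hm0 : m ≠ 0 := fun h => hm (h ▸ dvd_zero q)
  rw [← he, Nat.factorization_mul hq.ne_zero hm0, Finsupp.add_apply,
    Nat.Prime.factorization_self hq, Nat.factorization_eq_zero_of_not_dvd hm]

/-- With a self-centralizing subgroup each fibre is a point. -/
theorem sum_fiber_point {p : ℕ} [Fact p.Prime] {P : Sylow p G} {e : ℕ}
    (hS : BlockThms.OrderP.Setup P e) {z : G} (hz : z ∈ (P : Subgroup G)) (hz1 : z ≠ 1)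
    (hC : Nat.card (Subgroup.centralizer ({z} : Set G)) = p) (f : G → ℂ) :
    ∑ u ∈ BlockThms.OrderP.fiber p z, f u = f z := by
  classical
  have h1 := hS.card_fiber hz hz1
  rw [hC] at h1
  have hp := (Fact.out : p.Prime).pos
  have hcard : (BlockThms.OrderP.fiber p z).card = 1 := by
    rcases Nat.lt_trichotomy (BlockThms.OrderP.fiber p z).card 1 with h | h | h <;> nlinarith
  obtain ⟨u, hu⟩ := Finset.card_eq_one.1 hcard
  have := BlockThms.OrderP.self_mem_fiber (p := p) hz
  rw [hu, Finset.mem_singleton] at this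
  rw [hu, Finset.sum_singleton, this]

theorem deg_out {p : ℕ} [Fact p.Prime] {P : Sylow p G} {e : ℕ} (B : Fg24.M23.Blk P e)
    {z : G} (hz : z ∈ (P : Subgroup G)) (hz1 : z ≠ 1)
    (hC : Nat.card (Subgroup.centralizer ({z} : Set G)) = p)
    {χ : Cfsg.IrrCharacter G} (h : ¬ B.Mem χ) : (χ : G → ℂ) z = 0 ∧ p ∣ deg χ := by
  have h0 := B.sum_fiber_out h hz hz1
  rw [sum_fiber_point B.setup hz hz1 hC] at h0
  refine ⟨h0, (memLocalIdeal_natCast_iff B.hM _).1 ?_⟩
  obtain ⟨k, hk⟩ := IsPGroup.iff_orderOf.1 P.isPGroup' (⟨z, hz⟩ : (P : Subgroup G))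
  have := memLocalIdeal_neg (memLocalIdeal_char_sub_degree B.hM (Char.IsIrr.isCharacter χ.2)
    (g := z) ⟨k, by rw [← hk, Subgroup.orderOf_mk]⟩)
  rwa [h0, zero_sub, neg_neg, char_one] at this

/-- The trichotomy at eleven. -/
theorem eleven_cases (hF : Facts G) {x : G} (hx : orderOf x = 11) :
    ∃ S : Finset (Cfsg.IrrCharacter G), S.card = 11 ∧
      (∀ χ ∈ S, (χ : G → ℂ) x = (r11 (deg χ) : ℂ) ∧ r11 (deg χ) ≠ 0 ∧
        (deg χ % 11 = 1 ∨ deg χ % 11 = 10)) ∧
      ∀ χ, χ ∉ S → (χ : G → ℂ) x = 0 ∧ deg χ % 11 = 0 := by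
  classical
  haveI : Fact (Nat.Prime 11) := ⟨by norm_num⟩
  obtain ⟨P, hxP, hS⟩ := exists_setup (p := 11) (e := 10) hF.card
    (factorization_ord (m := 22256640) (by norm_num) (by norm_num) (by norm_num [ord])) hx
    (hF.cent_eleven x hx) (by rw [hF.norm_eleven x hx])
  obtain ⟨B⟩ := Fg24.M23.exists_blk hS
  have hx1 : x ≠ 1 := fun h => by rw [h, orderOf_one] at hx; omega
  have hC := hF.cent_eleven x hx
  have hY : B.Y.card = 1 := by rw [B.cardY]
  obtain ⟨θ, hθ⟩ := Finset.card_eq_one.1 hY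
  refine ⟨B.X ∪ B.Y, by rw [Finset.card_union_of_disjoint B.disj, B.cardX, hY], fun χ hχ => ?_,
    fun χ hχ => ?_⟩
  · have key : ∀ a : ℤ, (a = 1 ∨ a = -1) → (deg χ : ℤ) ≡ a [ZMOD 11] →
        r11 (deg χ) = a ∧ (deg χ % 11 = 1 ∨ deg χ % 11 = 10) := by
      intro a ha h
      have h' : (deg χ : ℤ) % 11 = a % 11 := h
      rcases ha with rfl | rfl
      · have h1 : deg χ % 11 = 1 := by omega
        exact ⟨by rw [r11, if_pos h1], Or.inl h1⟩
      · have h1 : deg χ % 11 = 10 := by omega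
        exact ⟨by rw [r11, h1]; norm_num, Or.inr h1⟩
    rcases Finset.mem_union.1 hχ with hX | hY'
    · obtain ⟨e1, e2⟩ := key (B.a χ) (B.ha χ hX) (B.modX χ hX)
      refine ⟨?_, ?_, e2⟩
      · have := B.valX χ hX x hxP hx1 1 (one_mem _) (by rw [orderOf_one]; norm_num)
        rwa [mul_one, ← e1] at this
      · rw [e1]; rcases B.ha χ hX with h | h <;> rw [h] <;> norm_num
    · have hval : (χ : G → ℂ) x = (B.s : ℂ) := by
        have h := B.sum_fiber_Y hxP hx1
        rw [hθ, Finset.sum_singleton] at h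
        rw [hθ, Finset.mem_singleton] at hY'
        subst hY'
        rw [sum_fiber_point B.setup hxP hx1 hC] at h
        have hone : (BlockThms.OrderP.fiber 11 x).card = 1 := by
          have := sum_fiber_point B.setup hxP hx1 hC (fun _ => (1 : ℂ))
          rw [Finset.sum_const, nsmul_one] at this
          exact_mod_cast this
        rwa [hone, Nat.cast_one, one_mul] at h
      have hm : (deg χ : ℤ) ≡ B.s [ZMOD 11] := by
        refine (B.modY χ hY').trans ?_
        refine Int.modEq_iff_dvd.2 ⟨B.s, ?_⟩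
        push_cast
        ring
      obtain ⟨e1, e2⟩ := key B.s B.hs hm
      refine ⟨by rw [hval, e1], ?_, e2⟩
      rw [e1]; rcases B.hs with h | h <;> rw [h] <;> norm_num
  · obtain ⟨h0, hd⟩ := deg_out B hxP hx1 hC (χ := χ) fun h => hχ (Finset.mem_union.2 h)
    exact ⟨h0, Nat.mod_eq_zero_of_dvd hd⟩

/-- The trichotomy at twenty-three. -/
theorem twentythree_cases (hF : Facts G) {x : G} (hx : orderOf x = 23) :
    ∃ S T : Finset (Cfsg.IrrCharacter G), S.card = 11 ∧ T.card = 2 ∧ Disjoint S T ∧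
      (∀ χ ∈ S, (χ : G → ℂ) x + (χ : G → ℂ) x⁻¹ = (r23 (deg χ) : ℂ) ∧
        (r23 (deg χ)).natAbs = 2 ∧ (deg χ % 23 = 1 ∨ deg χ % 23 = 22)) ∧
      (∀ χ ∈ T, (χ : G → ℂ) x + (χ : G → ℂ) x⁻¹ = (r23 (deg χ) : ℂ) ∧
        (r23 (deg χ)).natAbs = 1 ∧ (deg χ % 23 = 11 ∨ deg χ % 23 = 12)) ∧
      ∀ χ, χ ∉ S → χ ∉ T → (χ : G → ℂ) x = 0 ∧ (χ : G → ℂ) x⁻¹ = 0 ∧ deg χ % 23 = 0 := by
  classical
  haveI : Fact (Nat.Prime 23) := ⟨by norm_num⟩
  obtain ⟨P, hxP, hS⟩ := exists_setup (p := 23) (e := 11) hF.card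
    (factorization_ord (m := 10644480) (by norm_num) (by norm_num) (by norm_num [ord])) hx
    (hF.cent_twentythree x hx) (by rw [hF.norm_twentythree x hx])
  obtain ⟨B⟩ := Fg24.M23.exists_blk hS
  have hxi : x⁻¹ ∈ (P : Subgroup G) := inv_mem hxP
  have hx1 : x ≠ 1 := fun h => by rw [h, orderOf_one] at hx; omega
  have hxi1 : x⁻¹ ≠ 1 := inv_ne_one.2 hx1
  have hC := hF.cent_twentythree x hx
  have hCi : Nat.card (Subgroup.centralizer ({x⁻¹} : Set G)) = 23 :=
    hF.cent_twentythree _ (by rw [orderOf_inv, hx])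
  have hYc : B.Y.card = 2 := by rw [B.cardY]
  -- values at `x`
  have hX : ∀ χ ∈ B.X, ∀ z ∈ (P : Subgroup G), z ≠ 1 → (χ : G → ℂ) z = (B.a χ : ℂ) := by
    intro χ hχ z hz hz1
    have := B.valX χ hχ z hz hz1 1 (one_mem _) (by rw [orderOf_one]; norm_num)
    rwa [mul_one] at this
  have hsum : ∑ θ ∈ B.Y, (θ : G → ℂ) x = (B.s : ℂ) := by
    have h := B.sum_fiber_Y hxP hx1
    have hone : (BlockThms.OrderP.fiber 23 x).card = 1 := by
      have := sum_fiber_point B.setup hxP hx1 hC (fun _ => (1 : ℂ))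
      rw [Finset.sum_const, nsmul_one] at this
      exact_mod_cast this
    rwa [hone, Nat.cast_one, one_mul,
      Finset.sum_congr rfl fun (θ : Cfsg.IrrCharacter G) _ =>
        sum_fiber_point B.setup hxP hx1 hC (θ : G → ℂ)] at h
  have hnc : ¬ IsConj x x⁻¹ := fun h => by
    obtain ⟨c, hc⟩ := isConj_iff.1 h
    exact Fg24.M23.not_inverts hS (by norm_num) (by decide) hxP hx1 hc
  have hsq : ∑ θ ∈ B.Y, (θ : G → ℂ) x * (θ : G → ℂ) x = -11 := by
    have h := orth (u := x) (v := x) hnc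
    rw [B.sum_split _ fun χ hχ => by rw [(deg_out B hxP hx1 hC hχ).1, zero_mul],
      Finset.sum_congr rfl (g := fun _ => (1 : ℂ)) fun χ hχ => by
        rw [hX χ hχ x hxP hx1]
        rcases B.ha χ hχ with e | e <;> rw [e] <;> norm_num,
      Finset.sum_const, B.cardX, nsmul_one] at h
    push_cast at h
    linear_combination h
  obtain ⟨θ₁, θ₂, hne, hY⟩ := Finset.card_eq_two.1 hYc
  rw [hY, Finset.sum_pair hne] at hsum hsq
  have hpair : ∀ θ ∈ B.Y, (θ : G → ℂ) x + (θ : G → ℂ) x⁻¹ = (B.s : ℂ) := by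
    have hss : (B.s : ℂ) * B.s = 1 := by rcases B.hs with e | e <;> rw [e] <;> norm_num
    have main : ∀ t : ℂ, t * t - (B.s : ℂ) * t + 6 = 0 → t + conj t = (B.s : ℂ) := by
      intro t ht
      have hc := congrArg conj ht
      simp only [map_add, map_sub, map_mul, map_zero, map_ofNat, map_intCast] at hc
      have h0 : (conj t - t) * (conj t + t - (B.s : ℂ)) = 0 := by linear_combination hc - ht
      rcases mul_eq_zero.1 h0 with h | h
      · exfalso
        have hre : (conj t) = t := sub_eq_zero.1 h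
        obtain ⟨a, ha⟩ := Complex.conj_eq_iff_real.1 hre
        rw [ha] at ht
        have h2 := congrArg Complex.re ht
        simp at h2
        rcases B.hs with e | e <;> rw [e] at h2 <;> norm_num at h2 <;>
          nlinarith [mul_self_nonneg (a - 1 / 2), mul_self_nonneg (a + 1 / 2)]
      · linear_combination h
    intro θ hθ
    rw [char_inv]
    refine main _ ?_
    rw [hY, Finset.mem_insert, Finset.mem_singleton] at hθ
    have e1 : (θ₁ : G → ℂ) x * (θ₂ : G → ℂ) x = 6 := by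
      linear_combination (1 / 2 : ℂ) * (((θ₁ : G → ℂ) x + (θ₂ : G → ℂ) x + B.s) * hsum + hss - hsq)
    rcases hθ with rfl | rfl
    · linear_combination (θ : G → ℂ) x * hsum - e1
    · linear_combination (θ : G → ℂ) x * hsum - e1
  refine ⟨B.X, B.Y, B.cardX, hYc, B.disj, fun χ hχ => ?_, fun χ hχ => ?_, fun χ h1 h2 => ?_⟩
  · have h' : (deg χ : ℤ) % 23 = B.a χ % 23 := B.modX χ hχ
    rw [hX χ hχ x hxP hx1, hX χ hχ x⁻¹ hxi hxi1]
    rcases B.ha χ hχ with e | e <;> rw [e] at h' ⊢
    · have h1 : deg χ % 23 = 1 := by omega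
      simp [r23, h1]; norm_num
    · have h1 : deg χ % 23 = 22 := by omega
      simp [r23, h1]; norm_num
  · have h' : (deg χ : ℤ) % 23 = (-((11 : ℤ) * B.s)) % 23 := B.modY χ hχ
    rw [hpair χ hχ]
    rcases B.hs with e | e <;> rw [e] at h' ⊢
    · have h1 : deg χ % 23 = 12 := by omega
      simp [r23, h1]
    · have h1 : deg χ % 23 = 11 := by omega
      simp [r23, h1]
  · have hn : ¬ B.Mem χ := fun h => h.elim h1 h2
    obtain ⟨e1, e2⟩ := deg_out B hxP hx1 hC hn
    exact ⟨e1, (deg_out B hxi hxi1 hCi hn).1, Nat.mod_eq_zero_of_dvd e2⟩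

theorem exists_order {p : ℕ} (hp : p.Prime) (hF : Facts G) (hd : p ∣ ord) :
    ∃ x : G, orderOf x = p := by
  haveI := Fact.mk hp
  exact exists_prime_orderOf_dvd_card' p (hF.card ▸ hd)

/-- The two large primes. -/
theorem bigFacts (hF : Facts G) : BigFacts G := by
  classical
  obtain ⟨x, hx⟩ := exists_order (p := 11) (by norm_num) hF (by norm_num [ord])
  obtain ⟨y, hy⟩ := exists_order (p := 23) (by norm_num) hF (by norm_num [ord])
  have h11z : ∀ d, d % 11 = 0 → r11 d = 0 := fun d h => by simp [r11, h]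
  have h23z : ∀ d, d % 23 = 0 → r23 d = 0 := fun d h => by simp [r23, h]
  have h11 : ∀ (χ : Cfsg.IrrCharacter G) (x : G), orderOf x = 11 →
      (χ : G → ℂ) x = (r11 (deg χ) : ℂ) := fun χ x hx => by
    obtain ⟨S, -, hin, hout⟩ := eleven_cases hF hx
    by_cases h : χ ∈ S
    · exact (hin χ h).1
    · rw [(hout χ h).1, h11z _ (hout χ h).2, Int.cast_zero]
  obtain ⟨S, hSc, hin, hout⟩ := eleven_cases hF hx
  obtain ⟨S', T', hS'c, hT'c, hd, hinS, hinT, hout'⟩ := twentythree_cases hF hy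
  have h23 : ∀ χ : Cfsg.IrrCharacter G,
      (χ : G → ℂ) y + (χ : G → ℂ) y⁻¹ = (r23 (deg χ) : ℂ) := fun χ => by
    by_cases h : χ ∈ S'
    · exact (hinS χ h).1
    by_cases h' : χ ∈ T'
    · exact (hinT χ h').1
    obtain ⟨e1, e2, e3⟩ := hout' χ h h'
    rw [e1, e2, h23z _ e3, Int.cast_zero, add_zero]
  refine ⟨fun χ => ?_, fun χ => ?_, (InCol.base (u := x) (by simp [hx])).congr fun χ => (h11 χ x hx).symm,
    ((InCol.base (u := y) (by simp [hy])).add (InCol.base (u := y⁻¹) (by simp [hy]))).congr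
      fun χ => (h23 χ).symm, ?_, ?_, ?_, h11, fun χ z hz hd => ?_⟩
  · by_cases h : χ ∈ S
    · exact Or.inr (hin χ h).2.2
    · exact Or.inl (hout χ h).2
  · by_cases h : χ ∈ S'
    · rcases (hinS χ h).2.2 with e | e <;> omega
    by_cases h' : χ ∈ T'
    · rcases (hinT χ h').2.2 with e | e <;> omega
    exact Or.inl (hout' χ h h').2.2
  · rw [← hSc]
    congr 1
    ext χ
    simp only [Finset.mem_filter, Finset.mem_univ, true_and]
    exact ⟨fun h => by_contra fun h' => h (h11z _ (hout χ h').2), fun h => (hin χ h).2.1⟩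
  · rw [← hS'c]
    congr 1
    ext χ
    simp only [Finset.mem_filter, Finset.mem_univ, true_and]
    refine ⟨fun h => by_contra fun h' => ?_, fun h => (hinS χ h).2.1⟩
    by_cases h'' : χ ∈ T'
    · rw [(hinT χ h'').2.1] at h; omega
    · rw [h23z _ (hout' χ h' h'').2.2] at h; norm_num at h
  · rw [← hT'c]
    congr 1
    ext χ
    simp only [Finset.mem_filter, Finset.mem_univ, true_and]
    refine ⟨fun h => by_contra fun h' => ?_, fun h => (hinT χ h).2.1⟩
    by_cases h'' : χ ∈ S'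
    · rw [(hinS χ h'').2.1] at h; omega
    · rw [h23z _ (hout' χ h'' h').2.2] at h; norm_num at h
  · obtain ⟨A, C, -, -, -, hA, hB, hD⟩ := twentythree_cases hF hz
    by_cases h : χ ∈ A
    · rcases (hA χ h).2.2 with e | e <;> omega
    by_cases h' : χ ∈ C
    · rcases (hB χ h').2.2 with e | e <;> omega
    exact (hD χ h h').1

end Cfsg.Agent.M24Nse
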