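import Cfsg.Agent.M24Nse.Tools

/-!
# An element of prime order with centralizer a direct product
-/

set_option autoImplicit false
set_option linter.unusedSectionVars false

namespace Cfsg.Agent.M24Nse

open Cfsg.Agent Cfsg.Agent.Blocks

universe u

variable {G : Type u} [Group G] [Fintype G] {p : ℕ} [Fact p.Prime] {H : Type} [Group H] [Fintype H]

/-- An element of order `p` whose centralizer is a direct product with the group `H`. -/
structure Cent (G : Type u) [Group G] (p : ℕ) (H : Type) [Group H] where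
  /-- The embedding. -/
  f : Multiplicative (ZMod p) × H →* G
  inj : Function.Injective f
  range : f.range = Subgroup.centralizer ({f (Multiplicative.ofAdd 1, 1)} : Set G)
  /-- An exponent of `H` congruent to one modulo `p`. -/
  m : ℕ
  hm : m % p = 1
  hexp : ∀ a : H, a ^ m = 1

namespace Cent

variable (L : Cent G p H)

/-- The element of order `p`. -/
def x : G := L.f (Multiplicative.ofAdd 1, 1)

/-- An element of `H` inside the centralizer. -/
def em (a : H) : G := L.f (1, a)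

/-- The product of `x` with an element of `H`. -/
def el (a : H) : G := L.f (Multiplicative.ofAdd 1, a)

theorem el_one : L.el 1 = L.x := rfl

theorem el_eq (a : H) : L.el a = L.x * L.em a := by
  rw [el, x, em, ← map_mul, Prod.mk_mul_mk, mul_one, one_mul]

theorem mul_el (a b : H) : L.em b * L.el a = L.el (b * a) := by
  rw [el, el, em, ← map_mul, Prod.mk_mul_mk, one_mul]

theorem pow_pair (k : Multiplicative (ZMod p)) (a : H) (j : ℕ) :
    L.f (k, a) ^ j = L.f (k ^ j, a ^ j) := by rw [← map_pow, Prod.pow_mk]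

theorem orderOf_x : orderOf L.x = p := by
  rw [x, orderOf_injective _ L.inj, Prod.orderOf_mk, orderOf_one, Nat.lcm_one_right,
    orderOf_ofAdd_eq_addOrderOf, ZMod.addOrderOf_one]

theorem x_ne_one : L.x ≠ 1 := fun h => by
  have := L.orderOf_x
  rw [h, orderOf_one] at this
  exact (Fact.out : p.Prime).one_lt.ne this

theorem isPGroup_x : IsPGroup p (Subgroup.zpowers L.x) :=
  IsPGroup.of_card (n := 1) (by rw [Nat.card_zpowers, L.orderOf_x, pow_one])

theorem orderOf_em (a : H) : orderOf (L.em a) = orderOf a := by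
  rw [em, orderOf_injective _ L.inj, Prod.orderOf_mk, orderOf_one, Nat.lcm_one_left]

include L in
theorem not_dvd_orderOf (a : H) : ¬ p ∣ orderOf a := fun h => by
  have h1 := h.trans (orderOf_dvd_of_pow_eq_one (L.hexp a))
  have h2 := L.hm
  rw [Nat.mod_eq_zero_of_dvd h1] at h2
  omega

theorem orderOf_el (a : H) : orderOf (L.el a) = p * orderOf a := by
  rw [el, orderOf_injective _ L.inj, Prod.orderOf_mk, orderOf_ofAdd_eq_addOrderOf,
    ZMod.addOrderOf_one]
  exact (((Fact.out : p.Prime).coprime_iff_not_dvd).2 (L.not_dvd_orderOf a)).lcm_eq_mul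

theorem commute_em (a : H) : Commute L.x (L.em a) := by
  rw [Commute, SemiconjBy, x, em, ← map_mul, ← map_mul, Prod.mk_mul_mk, Prod.mk_mul_mk]
  simp

theorem commute_el (a : H) : Commute L.x (L.el a) := by
  rw [el_eq]
  exact (Commute.refl _).mul_right (L.commute_em a)

theorem exists_pair {k : G} (hk : Commute L.x k) :
    ∃ z : Multiplicative (ZMod p) × H, L.f z = k := by
  have : k ∈ Subgroup.centralizer ({L.x} : Set G) :=
    Subgroup.mem_centralizer_singleton_iff.2 hk.symm.eq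
  rw [x, ← L.range] at this
  exact this

theorem exists_em {k : G} (hk : Commute L.x k) (hord : ¬ p ∣ orderOf k) :
    ∃ a, L.em a = k := by
  obtain ⟨⟨z, a⟩, rfl⟩ := L.exists_pair hk
  refine ⟨a, ?_⟩
  rw [orderOf_injective _ L.inj, Prod.orderOf_mk] at hord
  have hz : orderOf z ∣ p := by
    refine (orderOf_dvd_natCard z).trans ?_
    rw [show Nat.card (Multiplicative (ZMod p)) = p by
      rw [Nat.card_congr Multiplicative.toAdd, Nat.card_zmod]]
  rcases (Nat.dvd_prime (Fact.out : p.Prime)).1 hz with h | h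
  · rw [em, orderOf_eq_one_iff.1 h]
  · exact absurd ((dvd_of_eq h.symm).trans (Nat.dvd_lcm_left (orderOf z) (orderOf a))) hord

theorem pow_el (a : H) : L.el a ^ L.m = L.x := by
  rw [el, x, pow_pair, L.hexp, ← ofAdd_nsmul, nsmul_one, ← ZMod.natCast_mod, L.hm, Nat.cast_one]

theorem isConj_el {a b : H} (h : IsConj a b) : IsConj (L.el a) (L.el b) := by
  obtain ⟨c, rfl⟩ := isConj_iff.1 h
  refine isConj_iff.2 ⟨L.em c, ?_⟩
  rw [el, el, em, ← map_inv, ← map_mul, ← map_mul, Prod.inv_mk, Prod.mk_mul_mk, Prod.mk_mul_mk]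
  simp

theorem isConj_em {a b : H} (h : IsConj a b) : IsConj (L.em a) (L.em b) := by
  obtain ⟨c, rfl⟩ := isConj_iff.1 h
  exact isConj_iff.2 ⟨L.em c, by simp [em, ← map_inv, ← map_mul]⟩

theorem isConj_of_el {a b : H} (h : IsConj (L.el a) (L.el b)) : IsConj a b := by
  obtain ⟨c, hc⟩ := isConj_iff.1 h
  have hx : c * L.x * c⁻¹ = L.x := by
    calc c * L.x * c⁻¹ = c * (L.el a ^ L.m) * c⁻¹ := by rw [L.pow_el]
      _ = (c * L.el a * c⁻¹) ^ L.m := conj_pow.symm
      _ = L.x := by rw [hc, L.pow_el]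
  obtain ⟨⟨z, c'⟩, rfl⟩ := L.exists_pair (mul_inv_eq_iff_eq_mul.1 hx).symm
  rw [el, el, ← map_inv, ← map_mul, ← map_mul] at hc
  exact isConj_iff.2 ⟨c', congrArg Prod.snd (L.inj hc)⟩

theorem card_cent_el (a : H) :
    Nat.card (Subgroup.centralizer ({L.el a} : Set G)) =
      p * Nat.card {b : H // b * a = a * b} := by
  have e : {z : Multiplicative (ZMod p) × H // z.2 * a = a * z.2} ≃
      Multiplicative (ZMod p) × {b : H // b * a = a * b} :=
    { toFun := fun z => (z.1.1, ⟨z.1.2, z.2⟩)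
      invFun := fun z => ⟨(z.1, z.2.1), z.2.2⟩
      left_inv := fun _ => rfl
      right_inv := fun _ => rfl }
  rw [← show Nat.card {z : Multiplicative (ZMod p) × H // z.2 * a = a * z.2} =
      p * Nat.card {b : H // b * a = a * b} by
    rw [Nat.card_congr e, Nat.card_prod, Nat.card_congr Multiplicative.toAdd, Nat.card_zmod]]
  symm
  refine Nat.card_congr (Equiv.ofBijective (fun z => ⟨L.f z.1, ?_⟩) ⟨?_, ?_⟩)
  · rw [Subgroup.mem_centralizer_singleton_iff, el, ← map_mul, ← map_mul]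
    congr 1
    exact Prod.ext (mul_comm _ _) z.2
  · intro z z' h
    exact Subtype.ext (L.inj (congrArg Subtype.val h))
  · rintro ⟨k, hk⟩
    rw [Subgroup.mem_centralizer_singleton_iff] at hk
    obtain ⟨z, rfl⟩ := L.exists_pair (k := k) (by
      have : Commute (L.el a) k := hk.symm
      exact L.pow_el a ▸ this.pow_left L.m)
    refine ⟨⟨z, ?_⟩, rfl⟩
    rw [el, ← map_mul, ← map_mul] at hk
    exact congrArg Prod.snd (L.inj hk)

/-- The congruences from a union of classes of elements of order prime to `p`. -/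
theorem omega_congr [DecidableEq H] {M : Ideal Cfsg.AlgInt} (hM : Cfsg.IsPModular p M)
    (χ : Cfsg.IrrCharacter G) (S : G → Prop) (hS : ∀ k c, S k → S (c * k * c⁻¹))
    (hord : ∀ k, S k → ¬ p ∣ orderOf k) (T : Finset H) (hT : ∀ a, a ∈ T ↔ S (L.em a)) :
    ∃ ω : ℂ, Cfsg.MemLocalRing M ω ∧ ∀ a : H, Cfsg.MemLocalIdeal M
      (ω * (χ : G → ℂ) (L.el a) - ∑ b ∈ T, (χ : G → ℂ) (L.el (b * a))) := by
  classical
  obtain ⟨ω, hω, h⟩ := exists_omega_congr hM χ S hS L.isPGroup_x (T.image L.em) (fun k => by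
    simp only [Finset.mem_image]
    constructor
    · rintro ⟨b, hb, rfl⟩
      exact ⟨(hT b).1 hb, L.commute_em b⟩
    · rintro ⟨hk, hc⟩
      obtain ⟨b, rfl⟩ := L.exists_em hc (hord k hk)
      exact ⟨b, (hT b).2 hk, rfl⟩)
  refine ⟨ω, hω, fun a => ?_⟩
  have h1 := h (L.el a) (L.commute_el a)
  rw [Finset.sum_image (show Set.InjOn L.em T from fun b _ b' _ e => congrArg Prod.snd (L.inj e))] at h1
  simpa only [L.mul_el] using h1

/-- Modulo an ideal over `p` the value at `x * a` is the value at `a`. -/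
theorem el_congr {M : Ideal Cfsg.AlgInt} (hM : Cfsg.IsPModular p M)
    (χ : Cfsg.IrrCharacter G) (a : H) :
    Cfsg.MemLocalIdeal M ((χ : G → ℂ) (L.el a) - (χ : G → ℂ) (L.em a)) := by
  have h := memLocalIdeal_char_sub_pPrimePart hM (Char.IsIrr.isCharacter χ.2) (L.el a)
  rw [el_eq, (parts_mul hM.1 (L.commute_em a) ⟨1, by rw [L.orderOf_x, pow_one]⟩
    (by rw [L.orderOf_em]; exact L.not_dvd_orderOf a)).2] at h
  have h2 := memLocalIdeal_neg h
  rw [neg_sub] at h2
  rw [el_eq]
  exact h2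

/-- Modulo an ideal over `r` the value at `x * a` is the value at `x`, for an `r`-element `a`. -/
theorem el_congr_x {r : ℕ} {M : Ideal Cfsg.AlgInt} (hM : Cfsg.IsPModular r M) (hrp : r ≠ p)
    (χ : Cfsg.IrrCharacter G) {a : H} (ha : ∃ k, orderOf a = r ^ k) :
    Cfsg.MemLocalIdeal M ((χ : G → ℂ) (L.el a) - (χ : G → ℂ) L.x) := by
  have h := memLocalIdeal_char_sub_pPrimePart hM (Char.IsIrr.isCharacter χ.2) (L.el a)
  have e : L.el a = L.em a * L.x := (L.el_eq a).trans (L.commute_em a).eq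
  rw [e, (parts_mul hM.1 (L.commute_em a).symm (by rw [L.orderOf_em]; exact ha) (by
    rw [L.orderOf_x]
    exact fun hd => hrp ((Nat.prime_dvd_prime_iff_eq hM.1 (Fact.out : p.Prime)).1 hd))).2] at h
  have h2 := memLocalIdeal_neg h
  rw [neg_sub] at h2
  rw [e]
  exact h2

/-- Conjugation by an element taking `x` to its `r`-th power, followed back. -/
theorem exists_step {g : G} {r : ℕ} (hr : r.Coprime p) (hg : g * L.x * g⁻¹ = L.x ^ r) :
    ∃ θ : H → H, (∀ a, orderOf (θ a) = orderOf a) ∧ (∀ a, θ a⁻¹ = (θ a)⁻¹) ∧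
      ∀ (k : ℕ) (a : H), IsConj (L.f (Multiplicative.ofAdd ((r * k : ℕ) : ZMod p), a))
        (L.f (Multiplicative.ofAdd (k : ZMod p), θ a)) := by
  have hcm : ∀ a, Commute L.x (g⁻¹ * L.em a * g) := by
    intro a
    obtain ⟨s, hs⟩ := exists_pow_eq_self_of_coprime (x := L.x) (n := r) (by rwa [L.orderOf_x])
    have h1 : Commute (L.x ^ r) (L.em a) := (L.commute_em a).pow_left r
    rw [← hg] at h1
    have h2 : Commute (g⁻¹ * (g * L.x * g⁻¹) * g⁻¹⁻¹) (g⁻¹ * L.em a * g⁻¹⁻¹) :=
      h1.map (MulAut.conj g⁻¹).toMonoidHom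
    simpa [mul_assoc] using h2
  have hex : ∀ a, ∃ b, L.em b = g⁻¹ * L.em a * g := fun a => L.exists_em (hcm a) (by
    rw [show g⁻¹ * L.em a * g = MulAut.conj g⁻¹ (L.em a) by simp, MulEquiv.orderOf_eq,
      L.orderOf_em]
    exact L.not_dvd_orderOf a)
  choose θ hθ using hex
  have hinj : Function.Injective L.em := fun b b' e => congrArg Prod.snd (L.inj e)
  refine ⟨θ, fun a => ?_, fun a => hinj ?_, fun k a => ?_⟩
  · rw [← L.orderOf_em, hθ, show g⁻¹ * L.em a * g = MulAut.conj g⁻¹ (L.em a) by simp,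
      MulEquiv.orderOf_eq, L.orderOf_em]
  · have hinv : ∀ b, L.em b⁻¹ = (L.em b)⁻¹ := fun b => by
      rw [em, em, ← map_inv, Prod.inv_mk, inv_one]
    rw [hθ, hinv, hinv, hθ]
    group
  · have hp : ∀ (j : ℕ) (b : H),
        L.f (Multiplicative.ofAdd (j : ZMod p), b) = L.x ^ j * L.em b := fun j b => by
      rw [x, pow_pair, em, ← map_mul, Prod.mk_mul_mk, one_pow, one_mul, mul_one, ← ofAdd_nsmul,
        nsmul_one]
    refine isConj_iff.2 ⟨g⁻¹, ?_⟩
    rw [hp, hp, hθ, pow_mul, ← hg, conj_pow]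
    group

end Cent

end Cfsg.Agent.M24Nse

namespace Cfsg.Agent.M24Nse

universe u

variable {G : Type u} [Group G] [Fintype G] {p : ℕ} [Fact p.Prime] {H : Type} [Group H] [Fintype H]

open Cfsg.Agent Cfsg.Agent.Blocks

/-- The same congruences also at the inverses, with one central character value. -/
theorem Cent.omega_congr_pair [DecidableEq H] (L : Cent G p H) {M : Ideal Cfsg.AlgInt}
    (hM : Cfsg.IsPModular p M) (χ : Cfsg.IrrCharacter G) (S : G → Prop)
    (hS : ∀ k c, S k → S (c * k * c⁻¹)) (hord : ∀ k, S k → ¬ p ∣ orderOf k) (T : Finset H)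
    (hT : ∀ a, a ∈ T ↔ S (L.em a)) :
    ∃ ω : ℂ, Cfsg.MemLocalRing M ω ∧ ∀ a : H,
      Cfsg.MemLocalIdeal M (ω * (χ : G → ℂ) (L.el a) - ∑ b ∈ T, (χ : G → ℂ) (L.el (b * a))) ∧
      Cfsg.MemLocalIdeal M
        (ω * (χ : G → ℂ) (L.el a)⁻¹ - ∑ b ∈ T, (χ : G → ℂ) (L.el (a * b⁻¹))⁻¹) := by
  classical
  obtain ⟨ω, hω, h⟩ := exists_omega_congr hM χ S hS L.isPGroup_x (T.image L.em) (fun k => by
    simp only [Finset.mem_image]
    constructor
    · rintro ⟨b, hb, rfl⟩
      exact ⟨(hT b).1 hb, L.commute_em b⟩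
    · rintro ⟨hk, hc⟩
      obtain ⟨b, rfl⟩ := L.exists_em hc (hord k hk)
      exact ⟨b, (hT b).2 hk, rfl⟩)
  refine ⟨ω, hω, fun a => ⟨?_, ?_⟩⟩
  · have h1 := h (L.el a) (L.commute_el a)
    rw [Finset.sum_image (show Set.InjOn L.em T from
      fun b _ b' _ e => congrArg Prod.snd (L.inj e))] at h1
    simpa only [L.mul_el] using h1
  · have h1 := h (L.el a)⁻¹ (L.commute_el a).inv_right
    rw [Finset.sum_image (show Set.InjOn L.em T from
      fun b _ b' _ e => congrArg Prod.snd (L.inj e))] at h1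
    have e : ∀ b, L.em b * (L.el a)⁻¹ = (L.el (a * b⁻¹))⁻¹ := fun b => by
      rw [Cent.el, Cent.el, Cent.em, ← map_inv, ← map_mul, ← map_inv]
      congr 1
      simp
    simpa only [e] using h1

end Cfsg.Agent.M24Nse
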