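import Cfsg.Agent.M24Nse.Seven
import Cfsg.Agent.M24Nse.Big
import Cfsg.Agent.M24Nse.Search.Gen
import Cfsg.Agent.S4429

/-!
# The degree lists of the six components
-/

set_option autoImplicit false
set_option linter.unusedSectionVars false

namespace Cfsg.Agent.M24Nse

open Cfsg.Agent Cfsg.Agent.Blocks

universe u

variable {G : Type u} [Group G] [Fintype G]

/-- The trivial character. -/
noncomputable def trivChar (G : Type u) [Group G] [Fintype G] : Cfsg.IrrCharacter G :=
  triv G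

theorem trivChar_apply (g : G) : (trivChar G : G → ℂ) g = 1 := rfl

theorem deg_trivChar : deg (trivChar G) = 1 := charDegree_eq (n := 1) (by simp [trivChar_apply])

theorem eq_trivChar (hF : Facts G) {χ : Cfsg.IrrCharacter G} (h : deg χ = 1) :
    χ = trivChar G := by
  have := hF.simple
  have hna : ¬ IsMulCommutative G := fun hc => by
    letI : CommGroup G := { ‹Group G› with mul_comm := fun a b => hc.is_comm.comm a b }
    have hp := IsSimpleGroup.prime_card (α := G)
    rw [hF.card] at hp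
    norm_num [ord] at hp
  exact Subtype.ext (S4429.deg_one hna (Char.IsIrr.isCharacter χ.2)
    (by rw [char_one, h, Nat.cast_one]))

theorem mem_degs_of (hF : Facts G) (hB : BigFacts G) (χ : Cfsg.IrrCharacter G) :
    deg χ ∈ Search.degs := by
  have hO : Nat.card G = 244823040 := hF.card
  have h1 := hO ▸ deg_dvd χ
  have h2 := Finset.single_le_sum (f := fun ψ : Cfsg.IrrCharacter G => deg ψ * deg ψ)
    (fun _ _ => Nat.zero_le _) (Finset.mem_univ χ)
  rw [sum_sq_deg, hO] at h2
  refine Search.mem_degs ?_ ?_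
  · by_contra h
    have : 15647 * 15647 ≤ deg χ * deg χ := Nat.mul_le_mul (by omega) (by omega)
    omega
  · have := (deg_pos χ).ne'
    simp only [Search.degOK, Bool.and_eq_true, Bool.or_eq_true, beq_iff_eq, bne_iff_ne]
    refine ⟨⟨⟨this, Nat.mod_eq_zero_of_dvd h1⟩, ?_⟩, ?_⟩
    · rcases hB.res11 χ with h | h | h <;> tauto
    · rcases hB.res23 χ with h | h | h | h | h <;> tauto

/-- The degrees of a set of characters. -/
noncomputable def degsOf (X : Finset (Cfsg.IrrCharacter G)) : Multiset ℕ := X.val.map deg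

theorem degsOf_sum (X : Finset (Cfsg.IrrCharacter G)) (g : ℕ → ℤ) :
    ((degsOf X).map g).sum = ∑ χ ∈ X, g (deg χ) := by
  rw [degsOf, Multiset.map_map]
  rfl

/-- The nontrivial members of a component of a given weight. -/
noncomputable def part (v : Cfsg.IrrCharacter G → ℤ) (w : ℕ) : Finset (Cfsg.IrrCharacter G) :=
  open Classical in Finset.univ.filter fun χ => χ ≠ trivChar G ∧ (v χ).natAbs = w

/-- The nontrivial members of a component. -/
noncomputable def supp (v : Cfsg.IrrCharacter G → ℤ) : Finset (Cfsg.IrrCharacter G) :=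
  open Classical in Finset.univ.filter fun χ => χ ≠ trivChar G ∧ v χ ≠ 0

theorem mem_part {v : Cfsg.IrrCharacter G → ℤ} {w : ℕ} {χ : Cfsg.IrrCharacter G} :
    χ ∈ part v w ↔ χ ≠ trivChar G ∧ (v χ).natAbs = w := by
  simp [part]

theorem mem_supp {v : Cfsg.IrrCharacter G → ℤ} {χ : Cfsg.IrrCharacter G} :
    χ ∈ supp v ↔ χ ≠ trivChar G ∧ v χ ≠ 0 := by
  simp [supp]

/-- The number of members of each weight. -/
theorem count_eq {v : Cfsg.IrrCharacter G → ℤ} (hb : ∀ χ, (v χ).natAbs ≤ 3) {n : ℤ}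
    (h : ∑ χ, v χ * v χ = n) :
    ((part v 1).card : ℤ) + 4 * (part v 2).card + 9 * (part v 3).card =
      n - v (trivChar G) * v (trivChar G) := by
  classical
  rw [← h, ← Finset.add_sum_erase _ _ (Finset.mem_univ (trivChar G)), add_sub_cancel_left]
  have e : ∀ χ, v χ * v χ = (if (v χ).natAbs = 1 then (1 : ℤ) else 0) +
      (if (v χ).natAbs = 2 then 4 else 0) + (if (v χ).natAbs = 3 then 9 else 0) := fun χ => by
    have h3 := hb χ
    rw [← Int.natAbs_mul_self]
    interval_cases (v χ).natAbs <;> simp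
  rw [Finset.sum_congr rfl fun χ _ => e χ, Finset.sum_add_distrib, Finset.sum_add_distrib]
  have e2 : ∀ (w : ℕ) (c : ℤ),
      ∑ χ ∈ Finset.univ.erase (trivChar G), (if (v χ).natAbs = w then c else 0) =
        c * (part v w).card := fun w c => by
    rw [← Finset.sum_filter, Finset.sum_const, nsmul_eq_mul, mul_comm]
    congr 2
    refine congrArg Finset.card ?_
    ext χ
    simp [part, and_comm]
  rw [e2, e2, e2]
  ring

theorem degsOf_supp {v : Cfsg.IrrCharacter G → ℤ}
    (hb : ∀ χ, χ ≠ trivChar G → (v χ).natAbs ≤ 2) :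
    degsOf (supp v) = degsOf (part v 1) + degsOf (part v 2) := by
  classical
  have hd : Disjoint (part v 1) (part v 2) := Finset.disjoint_left.2 fun χ h1 h2 => by
    rw [mem_part] at h1 h2
    omega
  have : supp v = (part v 1).disjUnion (part v 2) hd := by
    ext χ
    rw [Finset.mem_disjUnion, mem_supp, mem_part, mem_part]
    constructor
    · rintro ⟨h1, h2⟩
      have := hb χ h1
      by_cases e : (v χ).natAbs = 1
      · exact Or.inl ⟨h1, e⟩
      · exact Or.inr ⟨h1, by omega⟩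
    · rintro (⟨h1, h2⟩ | ⟨h1, h2⟩) <;> exact ⟨h1, by omega⟩
  rw [this, degsOf, Finset.disjUnion_val, Multiset.map_add]
  rfl

/-- Whatever is permuted without fixed points by the conjugation has even size. -/
theorem even_card {X : Finset (Cfsg.IrrCharacter G)}
    (h : ∀ χ ∈ X, conjIrr χ ≠ χ ∧ conjIrr χ ∈ X) : Even X.card := by
  have : ((X.card : ℕ) : ZMod 2) = 0 := by
    rw [Finset.card_eq_sum_ones, Nat.cast_sum]
    exact Finset.sum_involution (fun χ _ => conjIrr χ) (fun _ _ => by decide)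
      (fun χ hχ _ => (h χ hχ).1) (fun χ hχ => (h χ hχ).2) (fun χ _ => conjIrr_conjIrr χ)
  exact ZMod.natCast_eq_zero_iff_even.1 this

theorem conj_ne_triv {χ : Cfsg.IrrCharacter G} (h : χ ≠ trivChar G) :
    conjIrr χ ≠ trivChar G := fun e => h (by
  rw [← conjIrr_conjIrr χ, e]
  exact Subtype.ext (funext fun g => by
    show (starRingEnd ℂ) ((trivChar G : G → ℂ) g) = _
    rw [trivChar_apply, map_one]))

theorem two_dvd_count {v : Cfsg.IrrCharacter G → ℤ} {w : ℕ}
    (h : ∀ χ ∈ part v w, conjIrr χ ≠ χ ∧ v (conjIrr χ) = v χ) (d : ℕ) :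
    2 ∣ (degsOf (part v w)).count d := by
  classical
  rw [degsOf, Multiset.count_map, ← Finset.filter_val, Finset.card_val]
  refine (even_card fun χ hχ => ?_).two_dvd
  rw [Finset.mem_filter] at hχ
  obtain ⟨h1, h2⟩ := h χ hχ.1
  refine ⟨h1, Finset.mem_filter.2 ⟨mem_part.2 ⟨conj_ne_triv (mem_part.1 hχ.1).1, ?_⟩, ?_⟩⟩
  · rw [h2]; exact (mem_part.1 hχ.1).2
  · rw [deg_conjIrr]; exact hχ.2

theorem exists_half {v : Cfsg.IrrCharacter G → ℤ} {w : ℕ}
    (h : ∀ χ ∈ part v w, conjIrr χ ≠ χ ∧ v (conjIrr χ) = v χ) :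
    ∃ u : Multiset ℕ, degsOf (part v w) = u + u := by
  classical
  obtain ⟨u, hu⟩ := Multiset.exists_smul_of_dvd_count (k := 2) (degsOf (part v w))
    fun d _ => two_dvd_count h d
  exact ⟨u, by rw [hu, two_nsmul]⟩

/-- A pair of conjugate members. -/
theorem exists_pair {v : Cfsg.IrrCharacter G → ℤ} {w : ℕ}
    (h : ∀ χ ∈ part v w, conjIrr χ ≠ χ ∧ v (conjIrr χ) = v χ) (hc : (part v w).card = 2) :
    ∃ a, degsOf (part v w) = a ::ₘ a ::ₘ 0 := by
  obtain ⟨u, hu⟩ := exists_half h
  have h1 := congrArg Multiset.card hu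
  rw [degsOf, Multiset.card_map, Finset.card_val, hc, Multiset.card_add] at h1
  obtain ⟨a, rfl⟩ := Multiset.card_eq_one.1 (show Multiset.card u = 1 by omega)
  exact ⟨a, hu⟩

/-- The relation of a component with its coefficient, class length and orthogonality. -/
structure Comp (v : Cfsg.IrrCharacter G → ℤ) (c : ℕ → ℤ) (base : ℕ) : Prop where
  le_two : ∀ χ, (v χ).natAbs ≤ 2
  coef : ∀ χ, v χ ≠ 0 → v χ = c (deg χ)
  dvd : ∀ χ, v χ ≠ 0 → deg χ ∣ base * (v χ).natAbs
  orth : ∀ g : ℕ → ℤ, g = (fun d : ℕ => (d : ℤ)) ∨ g = r11 ∨ g = r23 → ∑ χ, v χ * g (deg χ) = 0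

variable {v : Cfsg.IrrCharacter G → ℤ} {c : ℕ → ℤ} {base : ℕ}

theorem Comp.ok (hC : Comp v c base) :
    Search.OK c (v (trivChar G)) (degsOf (supp v)) := by
  classical
  have key : ∀ g : ℕ → ℤ, (g = (fun d : ℕ => (d : ℤ)) ∨ g = r11 ∨ g = r23) →
      g 1 * v (trivChar G) + ((degsOf (supp v)).map fun d => c d * g d).sum = 0 := by
    intro g hg
    rw [degsOf_sum, ← hC.orth g hg, ← Finset.add_sum_erase _ _ (Finset.mem_univ (trivChar G)),
      deg_trivChar, mul_comm (g 1)]
    congr 1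
    have e : supp v = (Finset.univ.erase (trivChar G)).filter fun χ => v χ ≠ 0 := by
      ext χ; simp [supp]
    rw [e, Finset.sum_filter]
    refine Finset.sum_congr rfl fun χ _ => ?_
    split_ifs with h
    · rw [hC.coef χ h]
    · rw [not_not.1 h, zero_mul]
  refine ⟨?_, ?_, ?_⟩
  · simpa using key _ (Or.inl rfl)
  · simpa [r11] using key _ (Or.inr (Or.inl rfl))
  · simpa [r23] using key _ (Or.inr (Or.inr rfl))

theorem Comp.mem_cands (hF : Facts G) (hB : BigFacts G) (hC : Comp v c base) {w : ℕ}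
    (hw : w ≠ 0) {d : ℕ} (h : d ∈ degsOf (part v w)) :
    d ∈ Search.cands c base w ∧ (c d).natAbs = w := by
  obtain ⟨χ, hχ, rfl⟩ := Multiset.mem_map.1 h
  obtain ⟨hne, hvw⟩ := mem_part.1 hχ
  have hv : v χ ≠ 0 := fun e => hw (by rw [← hvw, e]; rfl)
  have hc : (c (deg χ)).natAbs = w := by rw [← hC.coef χ hv, hvw]
  refine ⟨Search.mem_cands (mem_degs_of hF hB χ) (fun e => hne (eq_trivChar hF e)) hc ?_, hc⟩
  rw [← hvw]
  exact hC.dvd χ hv

theorem Comp.ones_mem (hF : Facts G) (hB : BigFacts G) (hC : Comp v c base) {k : ℕ}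
    (h1 : (part v 1).card = k + 1) (h2 : (part v 2).card = 0) :
    ∃ l ∈ Search.genOnes c (v (trivChar G)) k (Search.cands c base 1),
      (l : Multiset ℕ) = degsOf (supp v) := by
  have e : degsOf (supp v) = degsOf (part v 1) := by
    rw [degsOf_supp fun χ _ => hC.le_two χ, Finset.card_eq_zero.1 h2]
    simp [degsOf]
  exact Search.ones_complete (by rw [e, degsOf, Multiset.card_map]; exact h1)
    (fun x hx => hC.mem_cands hF hB one_ne_zero (e ▸ hx)) hC.ok

theorem Comp.pair_mem (hF : Facts G) (hB : BigFacts G) (hC : Comp v c base) {k : ℕ}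
    (hp : ∀ χ ∈ part v 1, conjIrr χ ≠ χ ∧ v (conjIrr χ) = v χ)
    (h1 : (part v 1).card = 2) (h2 : (part v 2).card = k + 1) :
    ∃ l ∈ Search.genPair c (v (trivChar G)) k (Search.cands c base 1) (Search.cands c base 2),
      (l : Multiset ℕ) = degsOf (supp v) := by
  obtain ⟨a, ha⟩ := exists_pair hp h1
  have e : degsOf (supp v) = a ::ₘ a ::ₘ degsOf (part v 2) := by
    rw [degsOf_supp fun χ _ => hC.le_two χ, ha]
    simp
  rw [e]
  exact Search.pair_complete (hC.mem_cands hF hB one_ne_zero (by simp [ha])).1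
    (by rw [degsOf, Multiset.card_map]; exact h2)
    (fun x hx => hC.mem_cands hF hB two_ne_zero hx) (e ▸ hC.ok)

theorem Comp.two_mem (hF : Facts G) (hB : BigFacts G) (hC : Comp v c base)
    (h0 : v (trivChar G) = 0) (h1 : (part v 1).card = 1) (h2 : (part v 2).card = 1) :
    ∃ l ∈ Search.genTwo c (Search.cands c base 1) (Search.cands c base 2),
      (l : Multiset ℕ) = degsOf (supp v) := by
  obtain ⟨χ, hχ⟩ := Finset.card_eq_one.1 h1
  obtain ⟨ψ, hψ⟩ := Finset.card_eq_one.1 h2
  have ma : deg χ ∈ degsOf (part v 1) := by simp [degsOf, hχ]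
  have mn : deg ψ ∈ degsOf (part v 2) := by simp [degsOf, hψ]
  have e : degsOf (supp v) = deg ψ ::ₘ deg χ ::ₘ 0 := by
    rw [degsOf_supp fun χ _ => hC.le_two χ, hχ, hψ, add_comm]
    simp [degsOf]
  refine ⟨_, Search.two_complete (hC.mem_cands hF hB one_ne_zero ma).1
    (hC.mem_cands hF hB two_ne_zero mn).1 (hC.mem_cands hF hB two_ne_zero mn).2 ?_, e.symm⟩
  have := e ▸ hC.ok
  rwa [h0] at this

end Cfsg.Agent.M24Nse
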