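import Cfsg.Agent.M24Nse.Shapes
import Cfsg.Agent.M24Nse.Search.Main
import Cfsg.Agent.S0840

/-!
# A character of degree twenty-three
-/

set_option autoImplicit false
set_option linter.unusedSectionVars false

namespace Cfsg.Agent.M24Nse

open scoped ComplexConjugate
open Cfsg.Agent Search

universe u

variable {G : Type u} [Group G] [Fintype G]

theorem code_coe (p : ℕ) : ∀ l : List ℕ,
    code p l = (((l : Multiset ℕ).filter fun d => ¬ p ∣ d).map dcode).sum
  | [] => by simp [code]
  | d :: l => by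
    rw [code, code_coe p l, ← Multiset.cons_coe]
    by_cases h : p ∣ d
    · simp [h, Nat.mod_eq_zero_of_dvd h]
    · have h' : d % p ≠ 0 := fun e => h (Nat.dvd_of_mod_eq_zero e)
      simp [h, h']

theorem lsum_coe (g : ℕ → ℤ) : ∀ l : List ℕ, lsum g l = ((l : Multiset ℕ).map g).sum
  | [] => by simp [lsum]
  | d :: l => by rw [lsum, lsum_coe g l, ← Multiset.cons_coe, Multiset.map_cons, Multiset.sum_cons]

theorem lcount_eq (g : ℕ → Bool) : ∀ l : List ℕ,
    (lcount g l : ℤ) = lsum (fun d => if g d then 1 else 0) l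
  | [] => rfl
  | d :: l => by
    rw [lcount, lsum, ← lcount_eq g l]
    split_ifs <;> push_cast <;> ring

/-- The characters split by three components. -/
theorem degsOf_split {a b c : Cfsg.IrrCharacter G → ℤ} {p : ℕ} (hp : p ≠ 1)
    (hab : ∀ χ, a χ * b χ = 0 ∧ a χ * c χ = 0 ∧ b χ * c χ = 0)
    (hiff : ∀ χ, ¬ p ∣ deg χ ↔ a χ ≠ 0 ∨ b χ ≠ 0 ∨ c χ ≠ 0) :
    degsOf (Finset.univ.filter fun χ : Cfsg.IrrCharacter G => ¬ p ∣ deg χ) =
      1 ::ₘ (degsOf (supp a) + degsOf (supp b) + degsOf (supp c)) := by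
  classical
  have hd1 : Disjoint (supp a) (supp b) := Finset.disjoint_left.2 fun χ h1 h2 =>
    mul_ne_zero (mem_supp.1 h1).2 (mem_supp.1 h2).2 (hab χ).1
  have hd2 : Disjoint ((supp a).disjUnion (supp b) hd1) (supp c) :=
    Finset.disjoint_left.2 fun χ h1 h2 => by
      rcases Finset.mem_disjUnion.1 h1 with h1 | h1
      · exact mul_ne_zero (mem_supp.1 h1).2 (mem_supp.1 h2).2 (hab χ).2.1
      · exact mul_ne_zero (mem_supp.1 h1).2 (mem_supp.1 h2).2 (hab χ).2.2
  have hn : trivChar G ∉ ((supp a).disjUnion (supp b) hd1).disjUnion (supp c) hd2 := by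
    simp [mem_supp]
  have : (Finset.univ.filter fun χ : Cfsg.IrrCharacter G => ¬ p ∣ deg χ) =
      Finset.cons (trivChar G) _ hn := by
    ext χ
    simp only [Finset.mem_filter, Finset.mem_univ, true_and, Finset.mem_cons, Finset.mem_disjUnion,
      mem_supp]
    constructor
    · intro h
      by_cases e : χ = trivChar G
      · exact Or.inl e
      · have := (hiff χ).1 h; tauto
    · rintro (rfl | h)
      · rw [deg_trivChar, Nat.dvd_one]; exact hp
      · exact (hiff χ).2 (by tauto)
  rw [this]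
  simp only [degsOf, Finset.cons_val, Finset.disjUnion_val, Multiset.map_cons, Multiset.map_add,
    deg_trivChar]

/-- The sum of a function of the degree over all characters. -/
theorem total (hF : Facts G) (hB : BigFacts G) {al : List ℕ}
    (hal : (al : Multiset ℕ) =
      degsOf (Finset.univ.filter fun χ : Cfsg.IrrCharacter G => ¬ 35 ∣ deg χ))
    (g : ℕ → ℤ) (hg : ∀ d ∈ degs, 35 ∣ d → d ∉ [4830, 12880, 770, 1540, 10395] → g d = 0) :
    ∑ χ : Cfsg.IrrCharacter G, g (deg χ) = lsum g al +
      ([4830, 12880, 770, 1540, 10395].map fun d =>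
        ((Finset.univ.filter fun χ : Cfsg.IrrCharacter G => deg χ = d).card : ℤ) * g d).sum := by
  classical
  rw [lsum_coe, hal, degsOf_sum,
    ← Finset.sum_filter_add_sum_filter_not Finset.univ (fun χ : Cfsg.IrrCharacter G => ¬ 35 ∣ deg χ)]
  congr 1
  simp only [not_not]
  have h5 : ∀ χ : Cfsg.IrrCharacter G, (if 35 ∣ deg χ then g (deg χ) else 0) =
      ([4830, 12880, 770, 1540, 10395].map fun d => if deg χ = d then g d else 0).sum := by
    intro χ
    by_cases h : deg χ ∈ [4830, 12880, 770, 1540, 10395]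
    · simp only [List.mem_cons, List.not_mem_nil, or_false] at h
      rcases h with h | h | h | h | h <;> simp [h]
    · have h' := h
      simp only [List.mem_cons, List.not_mem_nil, or_false, not_or] at h'
      obtain ⟨n1, n2, n3, n4, n5⟩ := h'
      simp only [List.map_cons, List.map_nil, if_neg n1, if_neg n2, if_neg n3, if_neg n4,
        if_neg n5, List.sum_cons, List.sum_nil, add_zero]
      split_ifs with h35
      · exact hg _ (mem_degs_of hF hB χ) h35 h
      · rfl
  rw [Finset.sum_filter, Finset.sum_congr rfl fun χ _ => h5 χ]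
  simp only [List.map_cons, List.map_nil, List.sum_cons, List.sum_nil, add_zero,
    Finset.sum_add_distrib, ← Finset.sum_filter, Finset.sum_const, nsmul_eq_mul]

theorem u7_eq (P : SevenParts G) (χ : Cfsg.IrrCharacter G) :
    u7 (deg χ) = P.c1 χ + P.cs χ + 2 * P.c2 χ := by
  obtain ⟨k1, ks, k2⟩ := P.coef χ
  obtain ⟨b1, bs, b2⟩ := P.bounds χ
  have hd := P.deg7 χ
  have hn := P.not_dvd_iff χ
  unfold u7
  by_cases h1 : P.c1 χ = 0
  · by_cases hs : P.cs χ = 0
    · by_cases h2 : P.c2 χ = 0
      · split_ifs <;> omega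
      · obtain ⟨e, -, -⟩ := k2 h2
        unfold cT at e
        split_ifs at e <;> split_ifs <;> omega
    · obtain ⟨e, -, h2⟩ := ks hs
      unfold cS at e
      split_ifs at e <;> split_ifs <;> omega
  · obtain ⟨e, hs, h2⟩ := k1 h1
    unfold cS at e
    split_ifs at e <;> split_ifs <;> omega

/-- The class multiplication coefficient of two classes of order seven at eleven. -/
theorem seven_eleven (hF : Facts G) (hB : BigFacts G) (P : SevenParts G) :
    (1764 : ℤ) ∣ ∑ χ : Cfsg.IrrCharacter G,
      u7 (deg χ) * u7 (deg χ) * r11 (deg χ) * ((244823040 / deg χ : ℕ) : ℤ) := by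
  classical
  obtain ⟨x, hx⟩ := exists_order (p := 11) (by norm_num) hF (by norm_num [ord])
  have hO : (Nat.card G : ℂ) = 244823040 := by rw [hF.card]; norm_num [ord]
  have hi : ∀ a, a = P.z ∨ a = P.z⁻¹ → (Nat.card {y : G // IsConj a y} : ℂ) = 5829120 := by
    intro a ha
    rw [Char.card_isConj_eq_index]
    rcases ha with rfl | rfl
    · rw [P.z_index]; norm_num
    · rw [show Subgroup.centralizer ({P.z⁻¹} : Set G) = Subgroup.centralizer ({P.z} : Set G) from
        Subgroup.ext fun c => by
          rw [Subgroup.mem_centralizer_singleton_iff, Subgroup.mem_centralizer_singleton_iff]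
          exact ⟨fun h => Commute.inv_right_iff.1 h, fun h => Commute.inv_right_iff.2 h⟩, P.z_index]
      norm_num
  have hN : ∀ a b, (a = P.z ∨ a = P.z⁻¹) → (b = P.z ∨ b = P.z⁻¹) →
      (Nat.card {p : G × G // IsConj a p.1 ∧ IsConj b p.2 ∧ p.1 * p.2 = x} : ℂ) * 1764 =
        ∑ χ : Cfsg.IrrCharacter G, (χ : G → ℂ) a * (χ : G → ℂ) b * (r11 (deg χ) : ℂ) *
          ((244823040 / deg χ : ℕ) : ℂ) := by
    intro a b ha hb
    rw [S0840.result, finsum_eq_sum_of_fintype, hi a ha, hi b hb, hO, Finset.mul_sum,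
      Finset.sum_mul]
    refine Finset.sum_congr rfl fun χ _ => ?_
    have hd := deg_dvd χ
    rw [hF.card] at hd
    have hd0 : (deg χ : ℂ) ≠ 0 := Nat.cast_ne_zero.2 (deg_pos χ).ne'
    rw [Nat.cast_div (by simpa [ord] using hd) hd0, hB.value11 χ x hx, map_intCast, char_one]
    push_cast
    field_simp
    ring
  refine ⟨((Nat.card {p : G × G // IsConj P.z p.1 ∧ IsConj P.z p.2 ∧ p.1 * p.2 = x} +
    Nat.card {p : G × G // IsConj P.z p.1 ∧ IsConj P.z⁻¹ p.2 ∧ p.1 * p.2 = x} +
    Nat.card {p : G × G // IsConj P.z⁻¹ p.1 ∧ IsConj P.z p.2 ∧ p.1 * p.2 = x} +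
    Nat.card {p : G × G // IsConj P.z⁻¹ p.1 ∧ IsConj P.z⁻¹ p.2 ∧ p.1 * p.2 = x} : ℕ) : ℤ), ?_⟩
  rw [← Int.cast_inj (α := ℂ), mul_comm (1764 : ℤ)]
  simp only [Int.cast_sum, Int.cast_mul, Int.cast_natCast, Nat.cast_add, Int.cast_add, Int.cast_ofNat]
  rw [add_mul, add_mul, add_mul, hN _ _ (Or.inl rfl) (Or.inl rfl), hN _ _ (Or.inl rfl) (Or.inr rfl),
    hN _ _ (Or.inr rfl) (Or.inl rfl), hN _ _ (Or.inr rfl) (Or.inr rfl), ← Finset.sum_add_distrib,
    ← Finset.sum_add_distrib, ← Finset.sum_add_distrib]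
  refine Finset.sum_congr rfl fun χ _ => ?_
  have hv : (u7 (deg χ) : ℂ) = (χ : G → ℂ) P.z + (χ : G → ℂ) P.z⁻¹ := by
    rw [P.z_value, u7_eq P]
  rw [hv]
  ring

/-- The two first components are known. -/
theorem first_known (F5 : FiveParts G) (F7 : SevenParts G) (hB : BigFacts G) {p t : List ℕ}
    (hp : p ∈ tblP) (hpe : (p : Multiset ℕ) = degsOf (supp F5.a1))
    (ht : t ∈ tblT0) (hte : (t : Multiset ℕ) = degsOf (supp F7.c1)) :
    (p : Multiset ℕ) = {1771, 2024, 5544, 5796} ∧ (t : Multiset ℕ) = {1035, 2024, 990, 990} := by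
  classical
  have hc := List.all_eq_true.1 (List.all_eq_true.1 pOK_eq p hp) t ht
  obtain ⟨χ, hχ⟩ : ∃ χ, χ ≠ trivChar G ∧ F5.a1 χ * F7.c1 χ < 0 := by
    by_contra hcon
    push Not at hcon
    have h := InCol.int_sum_eq_zero (by simp [ords5, ords7]) F5.col1 F7.col1
    rw [← Finset.add_sum_erase _ _ (Finset.mem_univ (trivChar G)), F5.triv_vals.1,
      F7.triv_vals.1] at h
    have := Finset.sum_nonneg (s := Finset.univ.erase (trivChar G))
      (f := fun χ => F5.a1 χ * F7.c1 χ) fun χ hχ => hcon χ (Finset.ne_of_mem_erase hχ)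
    omega
  have h5 : F5.a1 χ ≠ 0 := fun e => by simp [e] at hχ
  have h7 : F7.c1 χ ≠ 0 := fun e => by simp [e] at hχ
  have hany : (p.any fun d => t.contains d && decide (cW d * cS d < 0)) = true := by
    refine List.any_eq_true.2 ⟨deg χ, ?_, ?_⟩
    · rw [← Multiset.mem_coe, hpe]
      exact Multiset.mem_map.2 ⟨χ, mem_supp.2 ⟨hχ.1, h5⟩, rfl⟩
    · simp only [Bool.and_eq_true, List.contains_iff_mem, decide_eq_true_eq]
      refine ⟨?_, ?_⟩
      · rw [← Multiset.mem_coe, hte]
        exact Multiset.mem_map.2 ⟨χ, mem_supp.2 ⟨hχ.1, h7⟩, rfl⟩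
      · rw [← ((F5.coef χ).1 h5).1, ← ((F7.coef χ).1 h7).1]
        exact hχ.2
  rw [hany] at hc
  simpa using hc

set_option maxHeartbeats 1000000 in
/-- A character of degree twenty-three. -/
theorem exists_deg (hF : Facts G) : ∃ χ : Cfsg.IrrCharacter G, deg χ = 23 := by
  classical
  obtain ⟨F5⟩ := exists_fiveParts hF
  obtain ⟨F7⟩ := exists_sevenParts hF
  have hB := bigFacts hF
  obtain ⟨p, hp, hpe⟩ := F5.listP hF hB
  obtain ⟨q, hq, hqe⟩ := F5.listQ hF hB
  obtain ⟨w, hw, hwe⟩ := F5.listW hF hB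
  obtain ⟨t0, ht0, ht0e⟩ := F7.listT0 hF hB
  obtain ⟨s, hs, hse⟩ := F7.listS hF hB
  obtain ⟨t, ht, hte⟩ := F7.listT hF hB
  obtain ⟨hP, hT0⟩ := first_known F5 F7 hB hp hpe ht0 ht0e
  have h5 := degsOf_split (p := 5) (by norm_num) F5.excl F5.not_dvd_iff
  have h7 := degsOf_split (p := 7) (by norm_num) F7.excl F7.not_dvd_iff
  rw [← hpe, ← hqe, ← hwe, hP] at h5
  rw [← ht0e, ← hse, ← hte, hT0] at h7
  -- the members prime to thirty-five
  have hcomm : ((degsOf (Finset.univ.filter fun χ : Cfsg.IrrCharacter G => ¬ 5 ∣ deg χ)).filter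
      fun d => ¬ 7 ∣ d) =
      (degsOf (Finset.univ.filter fun χ : Cfsg.IrrCharacter G => ¬ 7 ∣ deg χ)).filter
        fun d => ¬ 5 ∣ d := by
    simp only [degsOf, Multiset.filter_map, Finset.filter_val, Multiset.filter_filter]
    congr 1
    refine Multiset.filter_congr fun χ _ => ?_
    exact and_comm
  rw [h5, h7] at hcomm
  simp only [← Multiset.singleton_add, Multiset.filter_add] at hcomm
  have eP : Multiset.filter (fun d => ¬ 7 ∣ d) ({1} : Multiset ℕ) +
      Multiset.filter (fun d => ¬ 7 ∣ d) ({1771, 2024, 5544, 5796} : Multiset ℕ) =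
        ({1, 2024} : Multiset ℕ) := by decide +kernel
  have eT : Multiset.filter (fun d => ¬ 5 ∣ d) ({1} : Multiset ℕ) +
      Multiset.filter (fun d => ¬ 5 ∣ d) ({1035, 2024, 990, 990} : Multiset ℕ) =
        ({1, 2024} : Multiset ℕ) := by decide +kernel
  rw [← add_assoc, ← add_assoc, eP, ← add_assoc, ← add_assoc, eT, add_assoc, add_assoc,
    add_left_cancel_iff] at hcomm
  -- the lookup
  obtain ⟨i, hi, hsi⟩ := List.getElem_of_mem hs
  obtain ⟨j, hj, htj⟩ := List.getElem_of_mem ht
  have hsd : tblS.getD i [] = s := by rw [List.getD_eq_getElem _ _ hi, hsi]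
  have htd : tblT.getD j [] = t := by rw [List.getD_eq_getElem _ _ hj, htj]
  have hj128 : j < 128 := lt_of_lt_of_le hj (by decide +kernel)
  have hcode : code 7 w + code 7 q = code 5 (tblS.getD i []) + code 5 (tblT.getD j []) := by
    rw [hsd, htd, code_coe, code_coe, code_coe, code_coe, ← Multiset.sum_add, ← Multiset.map_add,
      ← Multiset.sum_add, ← Multiset.map_add, ← hcomm, add_comm]
  have hmem := List.all_eq_true.1 (List.all_eq_true.1 tableOK_eq i (List.mem_range.2 hi)) j
    (List.mem_range.2 hj)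
  rw [List.contains_iff_mem, ← hcode] at hmem
  have hfin := List.all_eq_true.1 (List.all_eq_true.1 (List.all_eq_true.1 searchOK_eq w hw) q hq)
    (128 * i + j) hmem
  rw [show (128 * i + j) / 128 = i by omega, show (128 * i + j) % 128 = j by omega, hsd, htd] at hfin
  -- all members not divisible by thirty-five
  set al := allDegs w q s t with haldef
  have hal : (al : Multiset ℕ) =
      degsOf (Finset.univ.filter fun χ : Cfsg.IrrCharacter G => ¬ 35 ∣ deg χ) := by
    have e35 : (Finset.univ.filter fun χ : Cfsg.IrrCharacter G => ¬ 35 ∣ deg χ).val =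
        (Finset.univ.filter fun χ : Cfsg.IrrCharacter G => ¬ 7 ∣ deg χ).val +
          (Finset.univ.filter fun χ : Cfsg.IrrCharacter G => ¬ 5 ∣ deg χ ∧ 7 ∣ deg χ).val := by
      rw [← Finset.disjUnion_val _ _ (Finset.disjoint_filter.2 fun χ _ h h' => h h'.2)]
      congr 1
      ext χ
      simp only [Finset.mem_disjUnion, Finset.mem_filter, Finset.mem_univ, true_and]
      omega
    have e57 : degsOf (Finset.univ.filter fun χ : Cfsg.IrrCharacter G => ¬ 5 ∣ deg χ ∧ 7 ∣ deg χ) =
        (degsOf (Finset.univ.filter fun χ : Cfsg.IrrCharacter G => ¬ 5 ∣ deg χ)).filter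
          fun d => 7 ∣ d := by
      simp only [degsOf, Multiset.filter_map, Finset.filter_val, Multiset.filter_filter]
      congr 1
      refine Multiset.filter_congr fun χ _ => ?_
      exact and_comm
    rw [degsOf, e35, Multiset.map_add]
    change _ = degsOf _ + degsOf _
    rw [e57, h5, h7, haldef, allDegs]
    simp only [← Multiset.singleton_add, Multiset.filter_add, ← Multiset.coe_add,
      ← Multiset.filter_coe]
    have e1 : Multiset.filter (fun d => 7 ∣ d) ({1} : Multiset ℕ) = 0 := by decide +kernel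
    have e2 : Multiset.filter (fun d => 7 ∣ d) ({1771, 2024, 5544, 5796} : Multiset ℕ) =
        ({1771, 5544, 5796} : Multiset ℕ) := by decide +kernel
    have e3 : ((fixedDegs : List ℕ) : Multiset ℕ) = ({1771, 5544, 5796} : Multiset ℕ) +
        ({1} + ({1035, 2024, 990, 990} : Multiset ℕ)) := by decide +kernel
    have e4 : (((w ++ q).filter fun d => d % 7 == 0 : List ℕ) : Multiset ℕ) =
        Multiset.filter (fun d => 7 ∣ d) (w : Multiset ℕ) +
          Multiset.filter (fun d => 7 ∣ d) (q : Multiset ℕ) := by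
      rw [← Multiset.filter_add, Multiset.coe_add, Multiset.filter_coe]
      congr 1
      exact List.filter_congr fun d _ => by rw [Bool.eq_iff_iff]; simp [Nat.dvd_iff_mod_eq_zero]
    rw [e1, e2, e3, e4]
    abel
  have htot := total hF hB hal
  -- the numbers of the five degrees
  set n1 := (Finset.univ.filter fun χ : Cfsg.IrrCharacter G => deg χ = 4830).card with hn1
  set n2 := (Finset.univ.filter fun χ : Cfsg.IrrCharacter G => deg χ = 12880).card with hn2
  set n3 := (Finset.univ.filter fun χ : Cfsg.IrrCharacter G => deg χ = 770).card with hn3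
  set n4 := (Finset.univ.filter fun χ : Cfsg.IrrCharacter G => deg χ = 1540).card with hn4
  set n5 := (Finset.univ.filter fun χ : Cfsg.IrrCharacter G => deg χ = 10395).card with hn5
  have hlist : ∀ d ∈ degs, 35 ∣ d → d ∉ [4830, 12880, 770, 1540, 10395] →
      r11 d = 0 ∧ r23 d = 0 := by
    have : degs.all (fun d => d % 35 != 0 || [4830, 12880, 770, 1540, 10395].contains d ||
        (r11 d == 0 && r23 d == 0)) = true := by decide +kernel
    intro d hd h35 hne
    simpa [Nat.mod_eq_zero_of_dvd h35, hne] using List.all_eq_true.1 this d hd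
  simp only [List.map_cons, List.map_nil, List.sum_cons, List.sum_nil, add_zero, ← hn1, ← hn2,
    ← hn3, ← hn4, ← hn5] at htot
  have hcount : ∀ (g : ℕ → Bool), ∑ χ : Cfsg.IrrCharacter G, (if g (deg χ) then (1 : ℤ) else 0) =
      ((Finset.univ.filter fun χ : Cfsg.IrrCharacter G => g (deg χ) = true).card : ℤ) := fun g => by
    rw [← Finset.sum_filter, Finset.sum_const, nsmul_one]
  -- the six equations
  have E0 : lsum (fun d => r11 d * r23 d) al = 0 := by
    have h := htot (fun d => r11 d * r23 d) fun d hd h35 hne => by simp [hlist d hd h35 hne]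
    rw [show ∑ χ : Cfsg.IrrCharacter G, r11 (deg χ) * r23 (deg χ) = 0 from
      InCol.int_sum_eq_zero (by simp) hB.col11 hB.col23] at h
    simp [r11, r23] at h
    simpa [r11, r23] using h.symm
  have Ea : lcount (fun d => r11 d != 0) al + n1 + n2 = 11 := by
    have h := htot (fun d => if r11 d != 0 then 1 else 0) fun d hd h35 hne => by
      simp [hlist d hd h35 hne]
    rw [hcount fun d => r11 d != 0, ← lcount_eq fun d => r11 d != 0] at h
    simp only [bne_iff_ne] at h
    rw [hB.count11] at h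
    simp [r11] at h
    simp [r11]
    omega
  have Eb : lcount (fun d => (r23 d).natAbs == 2) al + n4 + n5 = 11 := by
    have h := htot (fun d => if (r23 d).natAbs == 2 then 1 else 0) fun d hd h35 hne => by
      simp [hlist d hd h35 hne]
    rw [hcount fun d => (r23 d).natAbs == 2, ← lcount_eq fun d => (r23 d).natAbs == 2] at h
    simp only [beq_iff_eq] at h
    rw [hB.count23] at h
    simp [r23] at h
    simp [r23]
    omega
  have Ec : lcount (fun d => (r23 d).natAbs == 1) al + n3 = 2 := by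
    have h := htot (fun d => if (r23 d).natAbs == 1 then 1 else 0) fun d hd h35 hne => by
      simp [hlist d hd h35 hne]
    rw [hcount fun d => (r23 d).natAbs == 1, ← lcount_eq fun d => (r23 d).natAbs == 1] at h
    simp only [beq_iff_eq] at h
    rw [hB.count23'] at h
    simp [r23] at h
    simp [r23]
    omega
  have EA : lsum (fun d => (d : ℤ) * r11 d) al + 4830 * n1 - 12880 * n2 = 0 := by
    have h := htot (fun d => (d : ℤ) * r11 d) fun d hd h35 hne => by simp [hlist d hd h35 hne]
    rw [InCol.int_sum_eq_zero (by simp) (a := fun χ => (deg χ : ℤ))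
      (InCol.deg.congr fun χ => by simp) hB.col11] at h
    simp [r11] at h
    simp [r11]
    linarith
  have EB : lsum (fun d => (d : ℤ) * r23 d) al - 770 * n3 - 3080 * n4 - 20790 * n5 = 0 := by
    have h := htot (fun d => (d : ℤ) * r23 d) fun d hd h35 hne => by simp [hlist d hd h35 hne]
    rw [InCol.int_sum_eq_zero (by simp) (a := fun χ => (deg χ : ℤ))
      (InCol.deg.congr fun χ => by simp) hB.col23] at h
    simp [r23] at h
    simp [r23]
    linarith
  have ES : lsum (fun d => (d : ℤ) * d) al + 4830 ^ 2 * n1 + 12880 ^ 2 * n2 + 770 ^ 2 * n3 +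
      1540 ^ 2 * n4 + 10395 ^ 2 * n5 ≤ 244823040 := by
    let g : ℕ → ℤ := fun d =>
      if 35 ∣ d ∧ d ∉ [4830, 12880, 770, 1540, 10395] then 0 else (d : ℤ) * d
    have h := htot g fun d _ h35 hne => if_pos ⟨h35, hne⟩
    have hle : ∑ χ : Cfsg.IrrCharacter G, g (deg χ) ≤ 244823040 := by
      refine le_trans (Finset.sum_le_sum (g := fun χ => (deg χ : ℤ) * deg χ) fun χ _ => ?_) ?_
      · simp only [g]
        split_ifs
        · positivity
        · exact le_rfl
      · have h := sum_sq_deg (G := G)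
        rw [hF.card] at h
        exact_mod_cast h.le
    have e : lsum g al = lsum (fun d => (d : ℤ) * d) al := by
      rw [lsum_coe, lsum_coe]
      congr 1
      refine Multiset.map_congr rfl fun d hd => ?_
      rw [hal] at hd
      obtain ⟨χ, hχ, rfl⟩ := Multiset.mem_map.1 hd
      exact if_neg fun h' => (Finset.mem_filter.1 hχ).2 h'.1
    rw [e] at h
    simp [g] at h hle
    linarith
  have E7 : lsum (fun d => u7 d * u7 d * r11 d * ((244823040 / d : ℕ) : ℤ)) al % 1764 = 0 := by
    have h := htot (fun d => u7 d * u7 d * r11 d * ((244823040 / d : ℕ) : ℤ))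
      fun d hd h35 hne => by simp [hlist d hd h35 hne]
    have h' := seven_eleven hF hB F7
    rw [h] at h'
    simp [u7] at h'
    simpa [u7] using Int.emod_eq_zero_of_dvd h'
  -- conclusion
  simp only [final, Bool.or_eq_true, bne_iff_ne, ne_eq, E0, not_true, false_or,
    List.all_eq_true, List.mem_range, decide_eq_true_eq, List.contains_iff_mem] at hfin
  generalize lcount (fun d => r11 d != 0) al = a at *
  generalize lcount (fun d => (r23 d).natAbs == 2) al = b at *
  generalize lcount (fun d => (r23 d).natAbs == 1) al = c at *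
  have hh := (hfin n1 (by omega)).resolve_left (by rw [show 11 - a - n1 = n2 by omega]; exact fun h => h EA)
  have hh2 := hh n4 (by omega)
  rw [show 11 - b - n4 = n5 by omega, show 2 - c = n3 by omega,
    show 11 - a - n1 = n2 by omega] at hh2
  have h23 : 23 ∈ al := by
    rcases hh2 with (((h | h) | h) | h) | h
    · omega
    · exact absurd EB h
    · linarith
    · exact h
    · exact absurd E7 h
  have : (23 : ℕ) ∈ degsOf (Finset.univ.filter fun χ : Cfsg.IrrCharacter G => ¬ 35 ∣ deg χ) := by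
    rw [← hal]; exact h23
  obtain ⟨χ, -, hχ⟩ := Multiset.mem_map.1 this
  exact ⟨χ, hχ⟩

end Cfsg.Agent.M24Nse
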