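import Cfsg.Agent.M24Nse.FiveClasses
import Cfsg.Agent.M24Nse.Facts
import Cfsg.Agent.Char.Linear

/-!
# The columns at the elements with 5-part `x`, split into three integral components
-/

set_option autoImplicit false
set_option linter.unusedSectionVars false

namespace Cfsg.Agent.M24Nse

open scoped ComplexConjugate
open Cfsg.Agent Cfsg.Agent.Blocks

universe u

variable {G : Type u} [Group G] [Fintype G]

/-- A character twisted by a linear character sums to a multiple of the order. -/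
theorem twisted_sum {K : Type} [Group K] [Fintype K] (χ : Cfsg.IrrCharacter G) (φ : K →* G)
    (μ : K →* ℂˣ) :
    ∃ m : ℕ, ∑ k, (χ : G → ℂ) (φ k) * (μ k : ℂ) = ((Fintype.card K * m : ℕ) : ℂ) := by
  have hψ := Char.isCharacter_hom μ⁻¹
  obtain ⟨m, hm⟩ := Char.classInner_isCharacter_eq_natCast
    (Char.isCharacter_comp φ (Char.IsIrr.isCharacter χ.2)) hψ
  refine ⟨m, ?_⟩
  rw [Cfsg.classInner, inv_mul_eq_iff_eq_mul₀ Char.card_ne_zero, Nat.card_eq_fintype_card] at hm
  push_cast
  rw [← hm]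
  refine Finset.sum_congr rfl fun k _ => ?_
  rw [← Char.IsChar.inv_eq_conj hψ k]
  simp

/-- The complex conjugate character. -/
noncomputable def conjIrr (χ : Cfsg.IrrCharacter G) : Cfsg.IrrCharacter G :=
  ⟨fun g => conj ((χ : G → ℂ) g), Char.isIrr_map (starRingEnd ℂ) χ.2⟩

theorem conjIrr_apply (χ : Cfsg.IrrCharacter G) (g : G) :
    (conjIrr χ : G → ℂ) g = (χ : G → ℂ) g⁻¹ := (char_inv χ g).symm

theorem deg_conjIrr (χ : Cfsg.IrrCharacter G) : deg (conjIrr χ) = deg χ :=
  charDegree_eq (by rw [conjIrr_apply, inv_one, char_one])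

theorem sum_intCast_eq {a : Cfsg.IrrCharacter G → ℤ} {n : ℤ}
    (h : ∑ χ, (a χ : ℂ) = (n : ℂ)) : ∑ χ, a χ = n := by exact_mod_cast h

/-- The element orders on the side of five. -/
def ords5 : Set ℕ := {5, 10, 15}

/-- The three components of the columns at elements with 5-part `x`. -/
structure FiveParts (G : Type u) [Group G] [Fintype G] where
  /-- The first component. -/
  a1 : Cfsg.IrrCharacter G → ℤ
  /-- The second component. -/
  a3 : Cfsg.IrrCharacter G → ℤ
  /-- The third component. -/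
  s : Cfsg.IrrCharacter G → ℤ
  /-- The square of the irrational part. -/
  r : Cfsg.IrrCharacter G → ℤ
  col1 : InCol ords5 fun χ => (a1 χ : ℂ)
  col3 : InCol ords5 fun χ => (a3 χ : ℂ)
  colS : InCol ords5 fun χ => (s χ : ℂ)
  sum1 : ∑ χ, a1 χ * a1 χ = 5
  sum3 : ∑ χ, a3 χ * a3 χ = 5
  sumS : ∑ χ, s χ * s χ = 10
  sumR : ∑ χ, r χ = 30
  excl : ∀ χ, a1 χ * a3 χ = 0 ∧ a1 χ * s χ = 0 ∧ a3 χ * s χ = 0
  deg5 : ∀ χ, (5 : ℤ) ∣ (a1 χ + 3 * a3 χ + s χ) - deg χ
  dvdP : ∀ χ, (deg χ : ℤ) ∣ 4080384 * (a1 χ + s χ + 3 * a3 χ)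
  dvdQ : ∀ χ, (deg χ : ℤ) ∣ 12241152 * (a1 χ + s χ - a3 χ)
  r_nonneg : ∀ χ, 0 ≤ r χ
  r3 : ∀ χ, (3 : ℤ) ∣ r χ
  r_par : ∀ χ, (2 : ℤ) ∣ r χ - s χ * s χ
  r_case : (∀ χ, (5 : ℤ) ∣ r χ) ∨ ∀ χ, s χ ≠ 0 → r χ ≠ 0
  r_conj : ∀ χ, r χ ≠ 0 → conjIrr χ ≠ χ ∧ a1 (conjIrr χ) = a1 χ ∧ a3 (conjIrr χ) = a3 χ ∧
    s (conjIrr χ) = s χ ∧ r (conjIrr χ) = r χ
  triv : ∀ χ : Cfsg.IrrCharacter G, (∀ g, (χ : G → ℂ) g = 1) → a1 χ = 1 ∧ a3 χ = 0 ∧ s χ = 0

namespace Five

/-- The Klein group. -/
abbrev Four : Type := Multiplicative (ZMod 2) × Multiplicative (ZMod 2)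

/-- The second involution. -/
def y2 : Alt := ⟨Equiv.swap 0 2 * Equiv.swap 1 3, Equiv.Perm.mem_alternatingGroup.2 (by decide +kernel)⟩

/-- The values of the embedding of the Klein group. -/
def fourVal (v : Four) : Alt :=
  (if v.1 = 1 then 1 else y) * (if v.2 = 1 then 1 else y2)

theorem fourVal_mul : ∀ a b : Four, fourVal (a * b) = fourVal a * fourVal b := by decide +kernel

/-- The embedding of the Klein group. -/
def fourHom : Four →* Alt := MonoidHom.mk' fourVal fourVal_mul

/-- The sign of the first coordinate. -/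
def signVal (v : Four) : ℤˣ := if v.1 = 1 then 1 else -1

theorem signVal_mul : ∀ a b : Four, signVal (a * b) = signVal a * signVal b := by decide +kernel

/-- The sign character. -/
noncomputable def signHom : Four →* ℂˣ :=
  (Units.map (Int.castRingHom ℂ).toMonoidHom).comp (MonoidHom.mk' signVal signVal_mul)

theorem four_enum : (Finset.univ : Finset Four) =
    {(1, 1), (1, Multiplicative.ofAdd 1), (Multiplicative.ofAdd 1, 1),
      (Multiplicative.ofAdd 1, Multiplicative.ofAdd 1)} := by decide +kernel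

theorem cls_four : cls (fourVal (1, 1)) = 0 ∧ cls (fourVal (1, Multiplicative.ofAdd 1)) = 1 ∧
    cls (fourVal (Multiplicative.ofAdd 1, 1)) = 1 ∧
    cls (fourVal (Multiplicative.ofAdd 1, Multiplicative.ofAdd 1)) = 1 := by decide +kernel

theorem counts_y :
    (∀ i, ((Finset.univ.filter fun b : Alt => cls b = 1).filter fun b => cls (b * 1) = i).card
      = ![0, 3, 0, 0] i) ∧
    (∀ i, ((Finset.univ.filter fun b : Alt => cls b = 1).filter fun b => cls (b * y) = i).card
      = ![1, 2, 0, 0] i) ∧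
    (∀ i, ((Finset.univ.filter fun b : Alt => cls b = 1).filter fun b => cls (b * w) = i).card
      = ![0, 0, 3, 0] i) ∧
    ∀ i, ((Finset.univ.filter fun b : Alt => cls b = 1).filter fun b => cls (b * w⁻¹) = i).card
      = ![0, 0, 0, 3] i := by decide +kernel

theorem counts_eight :
    (∀ i, ((Finset.univ.filter fun b : Alt => cls b = 2 ∨ cls b = 3).filter
      fun b => cls (b * 1) = i).card = ![0, 0, 4, 4] i) ∧
    (∀ i, ((Finset.univ.filter fun b : Alt => cls b = 2 ∨ cls b = 3).filter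
      fun b => cls (b * y) = i).card = ![0, 0, 4, 4] i) ∧
    (∀ i, ((Finset.univ.filter fun b : Alt => cls b = 2 ∨ cls b = 3).filter
      fun b => cls (b * w) = i).card = ![1, 3, 0, 4] i) ∧
    ∀ i, ((Finset.univ.filter fun b : Alt => cls b = 2 ∨ cls b = 3).filter
      fun b => cls (b * w⁻¹) = i).card = ![1, 3, 4, 0] i := by decide +kernel

theorem counts_four :
    (∀ i, ((Finset.univ.filter fun b : Alt => cls b = 2).filter fun b => cls (b * 1) = i).card
      = ![0, 0, 4, 0] i) ∧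
    ∀ i, ((Finset.univ.filter fun b : Alt => cls b = 2).filter fun b => cls (b * w) = i).card
      = ![0, 0, 0, 4] i := by decide +kernel

theorem card_commute : Nat.card {b : Alt // b * 1 = 1 * b} = 12 ∧
    Nat.card {b : Alt // b * y = y * b} = 4 ∧ Nat.card {b : Alt // b * w = w * b} = 3 := by
  simp only [Nat.card_eq_fintype_card]
  decide +kernel

variable [Fact (Nat.Prime 5)] (L : Cent G 5 Alt) {g : G} (hg : g * L.x * g⁻¹ = L.x ^ 2)
include hg

/-- The difference of the values at `x` and `x * y` is divisible by four. -/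
theorem four_dvd (χ : Cfsg.IrrCharacter G) {A B : ℤ} (hA : (χ : G → ℂ) (L.el 1) = A)
    (hB : (χ : G → ℂ) (L.el y) = B) : (4 : ℤ) ∣ A - B := by
  obtain ⟨ζ, hζ⟩ : ∃ ζ : ℂ, IsPrimitiveRoot ζ 5 :=
    ⟨_, Complex.isPrimitiveRoot_exp 5 (by norm_num)⟩
  let zh : Multiplicative (ZMod 5) →* ℂˣ :=
    MonoidHom.toHomUnits (AddChar.zmodChar 5 hζ.pow_eq_one).toMonoidHom
  obtain ⟨m, hm⟩ := twisted_sum χ
    (L.f.comp (MonoidHom.prodMap (MonoidHom.id (Multiplicative (ZMod 5))) fourHom))
    ((zh.comp (MonoidHom.fst _ Four)) * (signHom.comp (MonoidHom.snd _ _)))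
  obtain ⟨m', hm'⟩ := twisted_sum χ ((L.f.comp (MonoidHom.inr _ _)).comp fourHom) signHom
  rw [Fintype.sum_prod_type] at hm
  have hcard : Fintype.card (Multiplicative (ZMod 5) × Four) = 20 := by decide +kernel
  have hcard' : Fintype.card Four = 4 := by decide +kernel
  rw [hcard] at hm
  rw [hcard'] at hm'
  -- the inner sums
  have hinner : ∀ z : Multiplicative (ZMod 5), z ≠ 1 →
      ∑ v : Four, (χ : G → ℂ) (L.f (z, fourVal v)) * (signHom v : ℂ) = (A : ℂ) - B := by
    intro z hz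
    obtain ⟨k, hk, rfl⟩ : ∃ k : ℕ, k % 5 ≠ 0 ∧ z = Multiplicative.ofAdd (k : ZMod 5) := by
      refine ⟨(Multiplicative.toAdd z).val, fun h => hz ?_, ?_⟩
      · rw [Nat.mod_eq_of_lt (ZMod.val_lt _), ZMod.val_eq_zero] at h
        exact Multiplicative.toAdd.injective h
      · rw [ZMod.natCast_zmod_val]; rfl
    have hv : ∀ v, cls (fourVal v) = 0 ∨ cls (fourVal v) = 1 →
        (χ : G → ℂ) (L.f (Multiplicative.ofAdd (k : ZMod 5), fourVal v)) =
          (χ : G → ℂ) (L.el (rep (cls (fourVal v)))) := fun v h => by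
      rw [char_isConj χ (isConj_pair L _ (conj_rep (fourVal v)))]
      refine char_isConj χ (conj_small L hg ?_ hk)
      rcases h with h | h <;> rw [h]
      · exact Or.inl rfl
      · exact Or.inr rfl
    obtain ⟨c0, c1, c2, c3⟩ := cls_four
    rw [four_enum, Finset.sum_insert (by decide +kernel), Finset.sum_insert (by decide +kernel),
      Finset.sum_insert (by decide +kernel), Finset.sum_singleton, hv _ (Or.inl c0),
      hv _ (Or.inr c1), hv _ (Or.inr c2), hv _ (Or.inr c3), c0, c1, c2, c3]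
    simp [rep, signHom, signVal, hA, hB]
    ring
  have hz : ∑ z : Multiplicative (ZMod 5), (zh z : ℂ) = 0 := by
    have h5 := hζ.geom_sum_eq_zero (by norm_num)
    rw [← h5, ← Fin.sum_univ_eq_sum_range]
    refine Fintype.sum_equiv Multiplicative.toAdd _ _ fun z => ?_
    rfl
  simp only [MonoidHom.coe_comp, Function.comp_apply, MonoidHom.inr_apply] at hm'
  simp only [MonoidHom.coe_comp, Function.comp_apply, MonoidHom.coe_prodMap, Prod.map_apply,
    MonoidHom.id_apply, MonoidHom.mul_apply, MonoidHom.coe_fst, MonoidHom.coe_snd,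
    Units.val_mul] at hm
  have hrow : ∀ z : Multiplicative (ZMod 5),
      ∑ v : Four, (χ : G → ℂ) (L.f (z, fourHom v)) * ((zh z : ℂ) * (signHom v : ℂ)) =
        (zh z : ℂ) * ∑ v : Four, (χ : G → ℂ) (L.f (z, fourVal v)) * (signHom v : ℂ) := by
    intro z
    rw [Finset.mul_sum]
    exact Finset.sum_congr rfl fun v _ => mul_left_comm _ _ _
  rw [Finset.sum_congr rfl fun z _ => hrow z,
    ← Finset.add_sum_erase _ _ (Finset.mem_univ (1 : Multiplicative (ZMod 5)))] at hm
  have he : ∑ z ∈ Finset.univ.erase (1 : Multiplicative (ZMod 5)),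
      (zh z : ℂ) * ∑ v : Four, (χ : G → ℂ) (L.f (z, fourVal v)) * (signHom v : ℂ) =
        -((A : ℂ) - B) := by
    rw [Finset.sum_congr rfl fun z hz' =>
        congrArg ((zh z : ℂ) * ·) (hinner z (Finset.ne_of_mem_erase hz')),
      ← Finset.sum_mul, Finset.sum_erase_eq_sub (Finset.mem_univ _), hz, map_one, Units.val_one]
    ring
  rw [he] at hm
  simp only [map_one, Units.val_one, one_mul] at hm
  change (∑ v : Four, (χ : G → ℂ) (L.f (1, fourVal v)) * (signHom v : ℂ)) = _ at hm'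
  rw [hm'] at hm
  refine ⟨(m' : ℤ) - 5 * m, ?_⟩
  rw [← Int.cast_inj (α := ℂ)]
  push_cast at hm ⊢
  linear_combination -hm

end Five

open Five in
/-- The components exist. -/
theorem exists_fiveParts (hF : Facts G) : Nonempty (FiveParts G) := by
  haveI : Fact (Nat.Prime 5) := ⟨Nat.prime_five⟩
  obtain ⟨f, g, hinj, hrange, hgx⟩ := hF.five
  let L : Cent G 5 Alt := ⟨f, hinj, hrange, 36, by norm_num, pow_six⟩
  have hg : g * L.x * g⁻¹ = L.x ^ 2 := hgx
  have hO : Nat.card G = 244823040 := hF.card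
  have hco5 : ∀ k : ℕ, k.Coprime (Nat.card G) → k % 5 ≠ 0 ∧ k.Coprime 15 := fun k hk => by
    rw [hO] at hk
    have h15 : k.Coprime 15 := hk.coprime_dvd_right (by norm_num)
    refine ⟨fun h => ?_, h15⟩
    have := Nat.dvd_gcd (Nat.dvd_of_mod_eq_zero h) (show 5 ∣ 15 by norm_num)
    rw [h15] at this
    norm_num at this
  -- the rational values
  have hAi : ∀ χ : Cfsg.IrrCharacter G, ∀ a, (a = 1 ∨ a = y) →
      ∃ n : ℤ, (χ : G → ℂ) (L.el a) = n := fun χ a ha =>
    exists_int_value χ _ fun k hk => by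
      rw [el_pow]
      rcases ha with rfl | rfl
      · rw [one_pow]; exact conj_small L hg (Or.inl rfl) (hco5 k hk).1
      · have hodd : y ^ k = y := by
          rw [← pow_mod_orderOf, orderOf_y]
          have : k % 2 = 1 := by
            rw [hO] at hk
            exact Nat.odd_iff.1 (Nat.Coprime.odd_of_right (hk.coprime_dvd_right
              (show 2 ∣ 244823040 by norm_num)))
          rw [this, pow_one]
        rw [hodd]; exact conj_small L hg (Or.inr rfl) (hco5 k hk).1
  choose A hA using fun χ => hAi χ 1 (Or.inl rfl)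
  choose B hB using fun χ => hAi χ y (Or.inr rfl)
  have hpair := fun χ : Cfsg.IrrCharacter G =>
    exists_int_pair χ (L.el w) (L.el w⁻¹) fun k hk => conj_pair L hg (hco5 k hk).2
  choose T hT using fun χ => (hpair χ).1
  choose N hN using fun χ => (hpair χ).2
  obtain ⟨M, hM⟩ := Blocks.exists_isPModular 5 Nat.prime_five
  obtain ⟨M3, hM3⟩ := Blocks.exists_isPModular 3 Nat.prime_three
  set W : Cfsg.IrrCharacter G → ℂ := fun χ => (χ : G → ℂ) (L.el w) with hW
  set W' : Cfsg.IrrCharacter G → ℂ := fun χ => (χ : G → ℂ) (L.el w⁻¹) with hW'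
  have hTW : ∀ χ, W χ + W' χ = T χ := hT
  have hNW : ∀ χ, W χ * W' χ = N χ := hN
  have hw3 : orderOf w = 3 := orderOf_w
  have hWc : ∀ χ, conj (W χ) = W' χ := fun χ => by
    rw [hW, hW', ← char_inv]
    exact char_isConj χ (el_inv_conj L hg (Or.inr (Or.inr hw3)))
  -- the fourth part
  choose a3 ha3 using fun χ => four_dvd L hg χ (hA χ) (hB χ)
  -- congruences modulo three
  have h3W : ∀ χ, Cfsg.MemLocalIdeal M3 (W χ - A χ) ∧ Cfsg.MemLocalIdeal M3 (W' χ - A χ) :=
    fun χ => by
      refine ⟨?_, ?_⟩ <;> rw [← hA χ, L.el_one]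
      · exact L.el_congr_x hM3 (by norm_num) χ ⟨1, by rw [hw3, pow_one]⟩
      · exact L.el_congr_x hM3 (by norm_num) χ ⟨1, by rw [orderOf_inv, hw3, pow_one]⟩
  have hT3 : ∀ χ, (3 : ℤ) ∣ T χ - 2 * A χ := fun χ => by
    refine (memLocalIdeal_intCast_iff hM3 _).1 ?_
    have := memLocalIdeal_add hM3 (h3W χ).1 (h3W χ).2
    push_cast
    rw [← hTW]
    convert this using 1
    ring
  have ha1ex : ∀ χ, ∃ a1 : ℤ, A χ - 3 * a3 χ + T χ = 3 * a1 := fun χ => by
    obtain ⟨k, hk⟩ := hT3 χ
    exact ⟨A χ + k - a3 χ, by linarith⟩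
  choose a1 ha1 using ha1ex
  set s : Cfsg.IrrCharacter G → ℤ := fun χ => A χ - 3 * a3 χ - a1 χ with hs
  set r : Cfsg.IrrCharacter G → ℤ := fun χ => 4 * N χ - T χ * T χ with hr
  have hAs : ∀ χ, A χ = a1 χ + s χ + 3 * a3 χ := fun χ => by simp only [hs]; ring
  have hBs : ∀ χ, B χ = a1 χ + s χ - a3 χ := fun χ => by
    have := ha3 χ
    simp only [hs]
    linarith
  have hTs : ∀ χ, T χ = 2 * a1 χ - s χ := fun χ => by
    have := ha1 χ
    simp only [hs]
    linarith
  have hrW : ∀ χ, (r χ : ℂ) = -((W χ - W' χ) * (W χ - W' χ)) := fun χ => by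
    simp only [hr]
    push_cast
    rw [← hTW, ← hNW]
    ring
  -- integrality
  have hR : ∀ (χ : Cfsg.IrrCharacter G) (a : Alt), Cfsg.MemLocalRing M ((χ : G → ℂ) (L.el a)) :=
    fun χ a => memLocalRing_of_isIntegral hM (value_integral χ _)
  have hZ : ∀ z : ℤ, Cfsg.MemLocalRing M (z : ℂ) :=
    fun z => memLocalRing_of_isIntegral hM (Blocks.isIntegral_intCast z)
  have hem : ∀ {a b : Alt}, cls b = cls a → IsConj (L.em a) (L.em b) := fun {a b} h => by
    refine L.isConj_em ((conj_rep a).trans ?_)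
    rw [← h]
    exact (conj_rep b).symm
  have hsum : ∀ (χ : Cfsg.IrrCharacter G) (n : Fin 4 → ℕ),
      ∑ i, (n i : ℂ) * (χ : G → ℂ) (L.el (rep i)) =
        n 0 * (A χ : ℂ) + n 1 * (B χ : ℂ) + n 2 * W χ + n 3 * W' χ := fun χ n => by
    rw [Fin.sum_univ_four, ← hA, ← hB]
    rfl
  -- the products
  have hprod : ∀ χ, (5 : ℤ) ∣ a3 χ * (a1 χ + s χ) ∧ (5 : ℤ) ∣ a3 χ * T χ ∧
      (5 : ℤ) ∣ a1 χ * s χ := by
    intro χ
    obtain ⟨ω, hω, h⟩ := L.omega_congr hM χ (fun k => IsConj (L.em y) k)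
      (fun k c h => h.trans (isConj_iff.2 ⟨c, rfl⟩))
      (fun k h => by rw [← orderOf_eq_of_isConj h, L.orderOf_em, orderOf_y]; norm_num)
      (Finset.univ.filter fun b : Alt => cls b = 1) (fun a => by
        simp only [Finset.mem_filter, Finset.mem_univ, true_and]
        refine ⟨fun ha => hem (by rw [ha]; decide +kernel), fun ha => cls_of_orderOf_two ?_⟩
        rw [← L.orderOf_em, ← orderOf_eq_of_isConj ha, L.orderOf_em, orderOf_y])
    obtain ⟨c1, c2, c3, c4⟩ := counts_y
    have e1 := h 1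
    have e2 := h y
    have e3 := h w
    have e4 := h w⁻¹
    rw [sum_cls L χ _ _ _ c1, hsum, hA] at e1
    rw [sum_cls L χ _ _ _ c2, hsum, hB] at e2
    rw [sum_cls L χ _ _ _ c3, hsum] at e3
    rw [sum_cls L χ _ _ _ c4, hsum] at e4
    change Cfsg.MemLocalIdeal M (ω * W χ - _) at e3
    change Cfsg.MemLocalIdeal M (ω * W' χ - _) at e4
    simp at e1 e2 e3 e4
    obtain ⟨ω8, hω8, h8⟩ := L.omega_congr hM χ
      (fun k => IsConj (L.em w) k ∨ IsConj (L.em w⁻¹) k)
      (fun k c h => h.imp (fun h => h.trans (isConj_iff.2 ⟨c, rfl⟩))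
        fun h => h.trans (isConj_iff.2 ⟨c, rfl⟩))
      (fun k h => by
        rcases h with h | h <;> rw [← orderOf_eq_of_isConj h, L.orderOf_em] <;>
          simp [hw3])
      (Finset.univ.filter fun b : Alt => cls b = 2 ∨ cls b = 3) (fun a => by
        simp only [Finset.mem_filter, Finset.mem_univ, true_and]
        constructor
        · rintro (ha | ha)
          · exact Or.inl (hem (by rw [ha]; decide +kernel))
          · exact Or.inr (hem (by rw [ha]; decide +kernel))
        · intro ha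
          refine cls_of_orderOf_three ?_
          rw [← L.orderOf_em]
          rcases ha with ha | ha <;> rw [← orderOf_eq_of_isConj ha, L.orderOf_em] <;> simp [hw3])
    obtain ⟨d1, d2, d3, d4⟩ := counts_eight
    have g1 := h8 1
    have g2 := h8 y
    have g3 := h8 w
    have g4 := h8 w⁻¹
    rw [sum_cls L χ _ _ _ d1, hsum, hA] at g1
    rw [sum_cls L χ _ _ _ d2, hsum, hB] at g2
    rw [sum_cls L χ _ _ _ d3, hsum] at g3
    rw [sum_cls L χ _ _ _ d4, hsum] at g4
    change Cfsg.MemLocalIdeal M (ω8 * W χ - _) at g3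
    change Cfsg.MemLocalIdeal M (ω8 * W' χ - _) at g4
    simp at g1 g2 g3 g4
    have hfin : ∀ (c v : ℤ), ¬ (5 : ℤ) ∣ c → Cfsg.MemLocalIdeal M ((c : ℂ) * v) → (5 : ℤ) ∣ v := by
      intro c v hc hv
      rw [← Int.cast_mul, memLocalIdeal_intCast_iff hM] at hv
      exact ((Nat.prime_iff_prime_int.1 Nat.prime_five).dvd_or_dvd hv).resolve_left hc
    have cA : (A χ : ℂ) = (a1 χ : ℂ) + s χ + 3 * a3 χ := by rw [hAs χ]; push_cast; ring
    have cB : (B χ : ℂ) = (a1 χ : ℂ) + s χ - a3 χ := by rw [hBs χ]; push_cast; ring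
    have cT : W χ + W' χ = 2 * (a1 χ : ℂ) - s χ := by rw [hTW, hTs χ]; push_cast; ring
    have i1 := memLocalIdeal_sub hM e1 e2
    refine ⟨hfin 16 _ (by norm_num) ?_, hfin 16 _ (by norm_num) ?_, hfin 144 _ (by norm_num) ?_⟩
    · have := memLocalIdeal_sub hM
        (memLocalIdeal_mul_left hM (hZ (a1 χ + s χ)) i1)
        (memLocalIdeal_mul_left hM (hZ (a3 χ)) (memLocalIdeal_add hM e1
          (memLocalIdeal_mul_left hM (hZ 3) e2)))
      convert this using 1
      push_cast
      rw [cA, cB]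
      ring
    · have := memLocalIdeal_sub hM
        (memLocalIdeal_mul_left hM (hZ (T χ)) i1)
        (memLocalIdeal_mul_left hM (hZ (4 * a3 χ)) (memLocalIdeal_add hM e3 e4))
      convert this using 1
      push_cast
      rw [cA, cB, ← hTW]
      ring
    · have i2 := memLocalIdeal_add hM g1 (memLocalIdeal_mul_left hM (hZ 3) g2)
      have i3 := memLocalIdeal_mul_left hM (hZ 4) (memLocalIdeal_add hM g3 g4)
      have := memLocalIdeal_sub hM
        (memLocalIdeal_mul_left hM (hZ (a1 χ))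
          (memLocalIdeal_sub hM (memLocalIdeal_mul_left hM (hZ 2) i2) i3))
        (memLocalIdeal_mul_left hM (hZ (s χ)) (memLocalIdeal_add hM i2 i3))
      convert this using 1
      push_cast
      rw [cA, cB]
      linear_combination (4 * (a1 χ : ℂ) * (ω8 + 4) + 4 * (s χ : ℂ) * (ω8 - 8)) * cT
  -- orders
  have ho1 : orderOf (L.el 1) ∈ ords5 := by simp [L.orderOf_el, ords5]
  have hoy : orderOf (L.el y) ∈ ords5 := by simp [L.orderOf_el, orderOf_y, ords5]
  have how : orderOf (L.el w) ∈ ords5 := by simp [L.orderOf_el, hw3, ords5]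
  have how' : orderOf (L.el w⁻¹) ∈ ords5 := by simp [L.orderOf_el, hw3, ords5]
  have colA : InCol ords5 fun χ => (A χ : ℂ) := (InCol.base ho1).congr fun χ => (hA χ).symm
  have colB : InCol ords5 fun χ => (B χ : ℂ) := (InCol.base hoy).congr fun χ => (hB χ).symm
  have colT : InCol ords5 fun χ => (T χ : ℂ) :=
    ((InCol.base how).add (InCol.base how')).congr fun χ => (hT χ).symm
  have c3 : InCol ords5 fun χ => (a3 χ : ℂ) := ((colA.sub colB).smul (1 / 4)).congr fun χ => by
    have : ((A χ - B χ : ℤ) : ℂ) = ((4 * a3 χ : ℤ) : ℂ) := by rw [ha3 χ]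
    push_cast at this
    rw [this]; ring
  have c1 : InCol ords5 fun χ => (a1 χ : ℂ) :=
    (((colA.sub (c3.smul 3)).add colT).smul (1 / 3)).congr fun χ => by
      have : ((A χ - 3 * a3 χ + T χ : ℤ) : ℂ) = ((3 * a1 χ : ℤ) : ℂ) := by rw [ha1 χ]
      push_cast at this
      rw [this]; ring
  have cS : InCol ords5 fun χ => (s χ : ℂ) := ((colA.sub (c3.smul 3)).sub c1).congr fun χ => by
    simp [hs]
  -- the orthogonality sums
  have hinv1 : ∀ a, (a = 1 ∨ a = y ∨ orderOf a = 3) → IsConj (L.el a) (L.el a⁻¹)⁻¹ := by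
    intro a ha
    have h := el_inv_conj L hg ha
    obtain ⟨c, hc⟩ := isConj_iff.1 h
    exact isConj_iff.2 ⟨c, by rw [← hc]; group⟩
  have hne : ∀ a b, (b = 1 ∨ b = y ∨ orderOf b = 3) → ¬ IsConj a b⁻¹ →
      ¬ IsConj (L.el a) (L.el b)⁻¹ := fun a b hb h h' => h (L.isConj_of_el
        (h'.trans (el_inv_conj L hg hb)))
  have hself : ∀ a, (a = 1 ∨ a = y ∨ orderOf a = 3) →
      ∑ χ : Cfsg.IrrCharacter G, (χ : G → ℂ) (L.el a) * (χ : G → ℂ) (L.el a⁻¹) =
        ((5 * Nat.card {b : Alt // b * a = a * b} : ℕ) : ℂ) := fun a ha => by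
    rw [orth_self (hinv1 a ha), L.card_cent_el]
  obtain ⟨k1, ky, kw⟩ := card_commute
  have sAA : ∑ χ, (A χ : ℂ) * A χ = 60 := by
    have h := hself 1 (Or.inl rfl)
    rw [k1, inv_one] at h
    simpa [hA] using h
  have sBB : ∑ χ, (B χ : ℂ) * B χ = 20 := by
    have h := hself y (Or.inr (Or.inl rfl))
    rw [ky, show y⁻¹ = y by decide +kernel] at h
    simpa [hB] using h
  have sWW' : ∑ χ, W χ * W' χ = 15 := by
    have h := hself w (Or.inr (Or.inr hw3))
    rw [kw] at h
    simpa [hW, hW'] using h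
  have hwi : orderOf w⁻¹ = 3 := by rw [orderOf_inv, hw3]
  have hnot : ∀ {a b : Alt}, orderOf a ≠ orderOf b → ¬ IsConj a b⁻¹ := fun {a b} h h' =>
    h ((orderOf_eq_of_isConj h').trans (orderOf_inv b))
  have sAB : ∑ χ, (A χ : ℂ) * B χ = 0 := by
    have h := orth (hne 1 y (Or.inr (Or.inl rfl)) (hnot (by simp [orderOf_y])))
    simpa [hA, hB] using h
  have sAT : ∑ χ, (A χ : ℂ) * T χ = 0 := by
    have h := orth (hne 1 w (Or.inr (Or.inr hw3)) (hnot (by simp [hw3])))
    have h' := orth (hne 1 w⁻¹ (Or.inr (Or.inr hwi)) (hnot (by simp [hw3])))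
    simp only [hA] at h h'
    simp only [← hT, mul_add, Finset.sum_add_distrib, h, h', add_zero]
  have sBT : ∑ χ, (B χ : ℂ) * T χ = 0 := by
    have h := orth (hne y w (Or.inr (Or.inr hw3)) (hnot (by simp [hw3, orderOf_y])))
    have h' := orth (hne y w⁻¹ (Or.inr (Or.inr hwi)) (hnot (by simp [hw3, orderOf_y])))
    simp only [hB] at h h'
    simp only [← hT, mul_add, Finset.sum_add_distrib, h, h', add_zero]
  have sTT : ∑ χ, (T χ : ℂ) * T χ = 30 := by
    have hww : ¬ IsConj w w⁻¹ := fun h => by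
      obtain ⟨c, hc⟩ := isConj_iff.1 h
      exact not_conj_inv c hc
    have h := orth (hne w w (Or.inr (Or.inr hw3)) hww)
    have h' := orth (hne w⁻¹ w⁻¹ (Or.inr (Or.inr hwi)) (by rw [inv_inv]; exact fun e => hww e.symm))
    change ∑ χ, W χ * W χ = 0 at h
    change ∑ χ, W' χ * W' χ = 0 at h'
    have e : ∀ χ, (T χ : ℂ) * T χ = W χ * W χ + W' χ * W' χ + 2 * (W χ * W' χ) := fun χ => by
      rw [← hTW]; ring
    simp only [e, Finset.sum_add_distrib, ← Finset.mul_sum, h, h', sWW']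
    norm_num
  have hquad : ∀ (p q t : ℂ),
      ∑ χ, (p * A χ + q * B χ + t * T χ) * (p * A χ + q * B χ + t * T χ) =
        60 * p * p + 20 * q * q + 30 * t * t := by
    intro p q t
    have e : ∀ χ, (p * A χ + q * B χ + t * T χ) * (p * A χ + q * B χ + t * T χ) =
        p * p * ((A χ : ℂ) * A χ) + q * q * ((B χ : ℂ) * B χ) + t * t * ((T χ : ℂ) * T χ) +
          2 * p * q * ((A χ : ℂ) * B χ) + 2 * p * t * ((A χ : ℂ) * T χ) +
          2 * q * t * ((B χ : ℂ) * T χ) := fun χ => by ring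
    simp only [e, Finset.sum_add_distrib, ← Finset.mul_sum, sAA, sBB, sTT, sAB, sAT, sBT]
    ring
  have s1 : ∑ χ, a1 χ * a1 χ = 5 := sum_intCast_eq (a := fun χ => a1 χ * a1 χ) (by
    have h := hquad (1 / 12) (1 / 4) (1 / 3)
    norm_num at h
    rw [Int.cast_ofNat, ← h]
    refine Finset.sum_congr rfl fun χ _ => ?_
    rw [hAs χ, hBs χ, hTs χ]
    push_cast; ring)
  have s3 : ∑ χ, a3 χ * a3 χ = 5 := sum_intCast_eq (a := fun χ => a3 χ * a3 χ) (by
    have h := hquad (1 / 4) (-1 / 4) 0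
    norm_num at h
    rw [Int.cast_ofNat, ← h]
    refine Finset.sum_congr rfl fun χ _ => ?_
    rw [hAs χ, hBs χ]
    push_cast; ring)
  have sS : ∑ χ, s χ * s χ = 10 := sum_intCast_eq (a := fun χ => s χ * s χ) (by
    have h := hquad (1 / 6) (1 / 2) (-1 / 3)
    norm_num at h
    rw [Int.cast_ofNat, ← h]
    refine Finset.sum_congr rfl fun χ _ => ?_
    rw [hAs χ, hBs χ, hTs χ]
    push_cast; ring)
  have sR : ∑ χ, r χ = 30 := sum_intCast_eq (by
    simp only [hr]
    push_cast
    simp only [Finset.sum_sub_distrib, ← Finset.mul_sum, sTT, ← hN]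
    rw [show ∑ χ : Cfsg.IrrCharacter G, (χ : G → ℂ) (L.el w) * (χ : G → ℂ) (L.el w⁻¹) = 15 from
      sWW']
    norm_num)
  have small : ∀ (v : Cfsg.IrrCharacter G → ℤ) (n : ℤ), ∑ χ, v χ * v χ = n → n < 25 →
      ∀ χ, -4 ≤ v χ ∧ v χ ≤ 4 := fun v n h hn χ => by
    have := Finset.single_le_sum (f := fun χ => v χ * v χ) (fun i _ => mul_self_nonneg _)
      (Finset.mem_univ χ)
    simp only [h] at this
    constructor <;> nlinarith
  have hexcl : ∀ χ, a1 χ * a3 χ = 0 ∧ a1 χ * s χ = 0 ∧ a3 χ * s χ = 0 := by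
    intro χ
    obtain ⟨p1, p2, p3⟩ := hprod χ
    rw [hTs χ] at p2
    have q1 : (5 : ℤ) ∣ a1 χ * a3 χ := by
      have h : (5 : ℤ) ∣ 3 * (a1 χ * a3 χ) := by
        rw [show 3 * (a1 χ * a3 χ) = a3 χ * (a1 χ + s χ) + a3 χ * (2 * a1 χ - s χ) by ring]
        exact dvd_add p1 p2
      exact (Int.Prime.dvd_mul' (p := 5) (by norm_num) h).resolve_left (by norm_num)
    have q2 : (5 : ℤ) ∣ a3 χ * s χ := by
      rw [show a3 χ * s χ = a3 χ * (a1 χ + s χ) - a1 χ * a3 χ by ring]
      exact dvd_sub p1 q1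
    have key : ∀ u v : ℤ, (-4 ≤ u ∧ u ≤ 4) → (-4 ≤ v ∧ v ≤ 4) → (5 : ℤ) ∣ u * v → u * v = 0 := by
      intro u v hu hv h
      rcases Int.Prime.dvd_mul' (p := 5) (by norm_num) h with h | h
      · rw [show u = 0 by omega, zero_mul]
      · rw [show v = 0 by omega, mul_zero]
    have b1 := small a1 5 s1 (by norm_num) χ
    have b3 := small a3 5 s3 (by norm_num) χ
    have bS := small s 10 sS (by norm_num) χ
    exact ⟨key _ _ b1 b3 q1, key _ _ b1 bS p3, key _ _ b3 bS q2⟩
  have hidx : ∀ a, (Subgroup.centralizer ({L.el a} : Set G)).index *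
      (5 * Nat.card {b : Alt // b * a = a * b}) = 244823040 := fun a => by
    rw [← L.card_cent_el, mul_comm, Subgroup.card_mul_index, hO]
  have hrnn : ∀ χ, 0 ≤ r χ := fun χ => by
    have h := hrW χ
    rw [← hWc χ] at h
    have h2 := congrArg Complex.re h
    simp [Complex.mul_re, Complex.sub_re, Complex.sub_im] at h2
    have : (0 : ℝ) ≤ (r χ : ℝ) := by rw [h2]; exact mul_self_nonneg _
    exact_mod_cast this
  refine ⟨{ a1 := a1, a3 := a3, s := s, r := r, col1 := c1, col3 := c3, colS := cS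
            sum1 := s1, sum3 := s3, sumS := sS, sumR := sR, excl := hexcl
            deg5 := fun χ => ?_, dvdP := fun χ => ?_, dvdQ := fun χ => ?_
            r_nonneg := hrnn, r3 := fun χ => ?_, r_par := fun χ => ?_
            r_case := ?_, r_conj := fun χ hrχ => ?_, triv := fun χ hχ => ?_ }⟩
  · refine (memLocalIdeal_intCast_iff hM _).1 ?_
    have h := memLocalIdeal_char_sub_degree hM (Char.IsIrr.isCharacter χ.2) (g := L.x)
      ⟨1, by rw [L.orderOf_x, pow_one]⟩
    rw [← L.el_one, hA, char_one] at h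
    rw [show a1 χ + 3 * a3 χ + s χ = A χ by rw [hAs χ]; ring]
    push_cast
    exact h
  · have h := deg_dvd_index_mul χ (L.el 1) (hA χ)
    have hi := hidx 1
    rw [k1] at hi
    rw [show (Subgroup.centralizer ({L.el 1} : Set G)).index = 4080384 by omega] at h
    rw [← hAs χ]
    exact_mod_cast h
  · have h := deg_dvd_index_mul χ (L.el y) (hB χ)
    have hi := hidx y
    rw [ky] at hi
    rw [show (Subgroup.centralizer ({L.el y} : Set G)).index = 12241152 by omega] at h
    rw [← hBs χ]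
    exact_mod_cast h
  · refine (memLocalIdeal_intCast_iff hM3 _).1 ?_
    rw [hrW]
    refine memLocalIdeal_neg (memLocalIdeal_mul_right hM3 ?_ ?_)
    · have := memLocalIdeal_sub hM3 (h3W χ).1 (h3W χ).2
      convert this using 1
      ring
    · exact memLocalRing_of_isIntegral hM3 ((value_integral χ _).sub (value_integral χ _))
  · refine ⟨2 * N χ - 2 * a1 χ * a1 χ + 2 * a1 χ * s χ - s χ * s χ, ?_⟩
    simp only [hr, hTs χ]
    ring
  · by_cases hc : IsConj (L.em w) (L.em w⁻¹)
    · refine Or.inl fun χ => (memLocalIdeal_intCast_iff hM _).1 ?_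
      rw [hrW]
      refine memLocalIdeal_neg (memLocalIdeal_mul_right hM ?_
        (memLocalRing_of_isIntegral hM ((value_integral χ _).sub (value_integral χ _))))
      have := memLocalIdeal_sub hM (L.el_congr hM χ w) (L.el_congr hM χ w⁻¹)
      rw [char_isConj χ hc] at this
      convert this using 1
      simp [hW, hW']
    · refine Or.inr fun χ hsχ h0 => ?_
      obtain ⟨ω, hω, h⟩ := L.omega_congr hM χ (fun k => IsConj (L.em w) k)
        (fun k c h => h.trans (isConj_iff.2 ⟨c, rfl⟩))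
        (fun k h => by rw [← orderOf_eq_of_isConj h, L.orderOf_em, hw3]; norm_num)
        (Finset.univ.filter fun b : Alt => cls b = 2) (fun a => by
          simp only [Finset.mem_filter, Finset.mem_univ, true_and]
          refine ⟨fun ha => hem (by rw [ha]; decide +kernel), fun ha => ?_⟩
          refine (cls_of_orderOf_three (by
            rw [← L.orderOf_em, ← orderOf_eq_of_isConj ha, L.orderOf_em, hw3])).resolve_right
            fun h3 => hc (ha.trans (hem (a := a) (b := w⁻¹) (by rw [h3]; decide +kernel))))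
      obtain ⟨d1, d3⟩ := counts_four
      have f1 := h 1
      have f3 := h w
      rw [sum_cls L χ _ _ _ d1, hsum, hA] at f1
      rw [sum_cls L χ _ _ _ d3, hsum] at f3
      change Cfsg.MemLocalIdeal M (ω * W χ - _) at f3
      simp at f1 f3
      obtain ⟨q1, q2, q3⟩ := hexcl χ
      have z1 : a1 χ = 0 := (mul_eq_zero.1 q2).resolve_right hsχ
      have z3 : a3 χ = 0 := (mul_eq_zero.1 q3).resolve_right hsχ
      have cA : (A χ : ℂ) = (s χ : ℂ) := by rw [hAs χ, z1, z3]; simp
      have cT : W χ + W' χ = -(s χ : ℂ) := by rw [hTW, hTs χ, z1]; simp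
      have i := memLocalIdeal_sub hM (memLocalIdeal_mul_left hM (hR χ w) f1)
        (memLocalIdeal_mul_left hM (hZ (s χ)) f3)
      have i' : Cfsg.MemLocalIdeal M (((4 * (N χ - s χ * s χ) : ℤ)) : ℂ) := by
        convert i using 1
        push_cast
        rw [cA, ← hNW]
        change 4 * (W χ * W' χ - (s χ : ℂ) * s χ) = W χ * _ - (s χ : ℂ) * _
        linear_combination (4 * W χ - 4 * (s χ : ℂ)) * cT
      rw [memLocalIdeal_intCast_iff hM] at i'
      simp only [hr, hTs χ, z1] at h0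
      have h5 : (5 : ℤ) ∣ s χ * s χ := by
        obtain ⟨k, hk⟩ := i'
        exact ⟨-2 * k - s χ * s χ, by
          push_cast at hk
          linear_combination (-2 : ℤ) * hk + 2 * h0⟩
      rcases Int.Prime.dvd_mul' (p := 5) (by norm_num) h5 with h5 | h5 <;>
        (have bS := small s 10 sS (by norm_num) χ; omega)
  · refine ⟨fun e => hrχ ?_, ?_⟩
    · have h : (conjIrr χ : G → ℂ) (L.el w) = W χ := by rw [e]
      rw [conjIrr_apply, char_isConj χ (el_inv_conj L hg (Or.inr (Or.inr hw3)))] at h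
      have h2 : (r χ : ℂ) = 0 := by rw [hrW, show W' χ = W χ from h]; ring
      exact_mod_cast h2
    · have eA : A (conjIrr χ) = A χ := by
        apply Int.cast_injective (α := ℂ)
        rw [← hA, ← hA, conjIrr_apply, char_isConj χ (el_inv_conj L hg (Or.inl rfl)), inv_one]
      have eB : B (conjIrr χ) = B χ := by
        apply Int.cast_injective (α := ℂ)
        rw [← hB, ← hB, conjIrr_apply, char_isConj χ (el_inv_conj L hg (Or.inr (Or.inl rfl))),
          show y⁻¹ = y by decide +kernel]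
      have e1 : W (conjIrr χ) = W' χ := by
        simp only [hW, hW']
        rw [conjIrr_apply]
        exact char_isConj χ (el_inv_conj L hg (Or.inr (Or.inr hw3)))
      have e2 : W' (conjIrr χ) = W χ := by
        simp only [hW, hW']
        rw [conjIrr_apply, char_isConj χ (el_inv_conj L hg (Or.inr (Or.inr hwi))), inv_inv]
      have eT : T (conjIrr χ) = T χ := by
        apply Int.cast_injective (α := ℂ)
        rw [← hTW, ← hTW, e1, e2, add_comm]
      have eN : N (conjIrr χ) = N χ := by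
        apply Int.cast_injective (α := ℂ)
        rw [← hNW, ← hNW, e1, e2, mul_comm]
      have := hAs χ
      have := hAs (conjIrr χ)
      have := hBs χ
      have := hBs (conjIrr χ)
      have := hTs χ
      have := hTs (conjIrr χ)
      refine ⟨by omega, by omega, by omega, ?_⟩
      simp only [hr, eT, eN]
  · have e1 : A χ = 1 := by exact_mod_cast (hA χ).symm.trans (hχ _)
    have e2 : B χ = 1 := by exact_mod_cast (hB χ).symm.trans (hχ _)
    have e3 : T χ = 2 := by
      have := hT χ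
      rw [hχ, hχ] at this
      norm_num at this
      exact_mod_cast this.symm
    have := hAs χ
    have := hBs χ
    have := hTs χ
    omega

end Cfsg.Agent.M24Nse

namespace Cfsg.Agent.M24Nse

universe u

theorem conjIrr_conjIrr {G : Type u} [Group G] [Fintype G] (χ : Cfsg.IrrCharacter G) :
    conjIrr (conjIrr χ) = χ :=
  Subtype.ext (funext fun g => Complex.conj_conj _)

end Cfsg.Agent.M24Nse
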