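import Cfsg.Agent.M24Nse.Cent

/-!
# The classes of elements with 5-part `x`, for a centralizer of shape `5 × A₄`
-/

set_option autoImplicit false
set_option linter.unusedSectionVars false

namespace Cfsg.Agent.M24Nse.Five

open Cfsg.Agent Cfsg.Agent.Blocks

/-- The alternating group on four letters. -/
abbrev Alt : Type := alternatingGroup (Fin 4)

/-- An involution. -/
def y : Alt := ⟨Equiv.swap 0 1 * Equiv.swap 2 3, Equiv.Perm.mem_alternatingGroup.2 (by decide +kernel)⟩

/-- An element of order three. -/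
def w : Alt := ⟨Equiv.swap 0 1 * Equiv.swap 1 2, Equiv.Perm.mem_alternatingGroup.2 (by decide +kernel)⟩

/-- Representatives of the classes. -/
def rep : Fin 4 → Alt := ![1, y, w, w⁻¹]

/-- The class of an element. -/
def cls (a : Alt) : Fin 4 :=
  if a = 1 then 0 else if a * a = 1 then 1
  else if (∃ c : Alt, c * w * c⁻¹ = a) then 2 else 3

theorem cls_spec : ∀ a : Alt, ∃ c : Alt, c * a * c⁻¹ = rep (cls a) := by decide +kernel

theorem pow_six : ∀ a : Alt, a ^ 36 = 1 := by decide +kernel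

theorem cls_of_three : ∀ a : Alt, a * a * a = 1 → a ≠ 1 → cls a = 2 ∨ cls a = 3 := by
  decide +kernel

theorem cls_of_two : ∀ a : Alt, a * a = 1 → a ≠ 1 → cls a = 1 := by decide +kernel

theorem not_conj_inv : ∀ c : Alt, c * w * c⁻¹ ≠ w⁻¹ := by decide +kernel

theorem orderOf_y : orderOf y = 2 :=
  orderOf_eq_prime (by decide +kernel) (by decide +kernel)

theorem orderOf_w : orderOf w = 3 :=
  orderOf_eq_prime (hp := ⟨Nat.prime_three⟩) (by decide +kernel) (by decide +kernel)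

theorem three_of_cls : ∀ a : Alt, cls a = 2 ∨ cls a = 3 → a * a * a = 1 ∧ a ≠ 1 := by
  decide +kernel

theorem two_of_cls : ∀ a : Alt, cls a = 1 → a * a = 1 ∧ a ≠ 1 := by decide +kernel

theorem orderOf_three {a : Alt} (h : cls a = 2 ∨ cls a = 3) : orderOf a = 3 :=
  orderOf_eq_prime (hp := ⟨Nat.prime_three⟩)
    (by rw [pow_succ, pow_two]; exact (three_of_cls a h).1) (three_of_cls a h).2

theorem cls_of_orderOf_three {a : Alt} (h : orderOf a = 3) : cls a = 2 ∨ cls a = 3 :=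
  cls_of_three a (by rw [← pow_two, ← pow_succ]; simpa [h] using pow_orderOf_eq_one a)
    fun e => by rw [e, orderOf_one] at h; omega

theorem cls_of_orderOf_two {a : Alt} (h : orderOf a = 2) : cls a = 1 :=
  cls_of_two a (by rw [← pow_two, ← h, pow_orderOf_eq_one])
    fun e => by rw [e, orderOf_one] at h; omega

universe u

variable {G : Type u} [Group G] [Fintype G] [Fact (Nat.Prime 5)] (L : Cent G 5 Alt)

theorem conj_rep (a : Alt) : IsConj a (rep (cls a)) := isConj_iff.2 (cls_spec a)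

theorem el_conj_rep (a : Alt) : IsConj (L.el a) (L.el (rep (cls a))) :=
  L.isConj_el (conj_rep a)

theorem value (χ : Cfsg.IrrCharacter G) (a : Alt) :
    (χ : G → ℂ) (L.el a) = (χ : G → ℂ) (L.el (rep (cls a))) :=
  char_isConj χ (el_conj_rep L a)

/-- A sum of values from the class multiplicities. -/
theorem sum_cls (χ : Cfsg.IrrCharacter G) (T : Finset Alt) (a : Alt) (n : Fin 4 → ℕ)
    (hn : ∀ i, (T.filter fun b => cls (b * a) = i).card = n i) :
    ∑ b ∈ T, (χ : G → ℂ) (L.el (b * a)) = ∑ i, (n i : ℂ) * (χ : G → ℂ) (L.el (rep i)) := by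
  rw [← Finset.sum_fiberwise T (fun b => cls (b * a))]
  refine Finset.sum_congr rfl fun i _ => ?_
  rw [Finset.sum_congr rfl fun b hb => ?_, Finset.sum_const, hn, nsmul_eq_mul]
  rw [value L χ, (Finset.mem_filter.1 hb).2]

theorem isConj_pair (k : Multiplicative (ZMod 5)) {a b : Alt} (h : IsConj a b) :
    IsConj (L.f (k, a)) (L.f (k, b)) := by
  obtain ⟨c, rfl⟩ := isConj_iff.1 h
  refine isConj_iff.2 ⟨L.f (1, c), ?_⟩
  rw [← map_inv, ← map_mul, ← map_mul]
  congr 1
  simp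

/-- The element with first coordinate `k`. -/
def at' (k : ℕ) (a : Alt) : G := L.f (Multiplicative.ofAdd (k : ZMod 5), a)

theorem at_one (a : Alt) : at' L 1 a = L.el a := by simp [at', Cent.el]

theorem el_pow (a : Alt) (k : ℕ) : L.el a ^ k = at' L k (a ^ k) := by
  rw [Cent.el, L.pow_pair, at', ← ofAdd_nsmul, nsmul_one]

theorem at_mod (k : ℕ) (a : Alt) : at' L k a = at' L (k % 5) a := by
  rw [at', at', ZMod.natCast_mod]

theorem el_inv (a : Alt) : (L.el a)⁻¹ = at' L 4 a⁻¹ := by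
  rw [Cent.el, ← map_inv, at', Prod.inv_mk]
  congr 2

variable {g : G} (hg : g * L.x * g⁻¹ = L.x ^ 2)
include hg

theorem exists_twist :
    ∃ θ : Alt → Alt, (∀ a, orderOf (θ a) = orderOf a) ∧ (∀ a, θ a⁻¹ = (θ a)⁻¹) ∧
      ∀ (k : ℕ) (a : Alt), IsConj (at' L (2 * k) a) (at' L k (θ a)) :=
  L.exists_step (r := 2) (by norm_num) hg

/-- The generators of a cyclic subgroup through `x` or `x * y` are conjugate. -/
theorem conj_small {a : Alt} (ha : a = 1 ∨ a = y) {k : ℕ} (hk : k % 5 ≠ 0) :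
    IsConj (at' L k a) (L.el a) := by
  obtain ⟨θ, hord, -, hθ⟩ := exists_twist L hg
  have hfix : ∀ b, IsConj b a → IsConj (θ b) a := by
    intro b hb
    have h2 := (hord b).trans (orderOf_eq_of_isConj hb)
    rcases ha with rfl | rfl
    · rw [orderOf_eq_one_iff.1 (h2.trans orderOf_one)]
    · rw [orderOf_y] at h2
      have := conj_rep (θ b)
      rwa [cls_of_orderOf_two h2] at this
  have h2 : IsConj (at' L 2 a) (L.el a) :=
    (at_one L (θ a) ▸ hθ 1 a).trans (L.isConj_el (hfix a (IsConj.refl a)))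
  have h4 : IsConj (at' L 4 a) (L.el a) :=
    ((hθ 2 a).trans (isConj_pair L _ (hfix a (IsConj.refl a)))).trans h2
  have h3 : IsConj (at' L 3 a) (L.el a) := by
    rw [show at' L 3 a = at' L (2 * 4) a by rw [at_mod L (2 * 4) a]]
    exact ((hθ 4 a).trans (isConj_pair L _ (hfix a (IsConj.refl a)))).trans h4
  rw [at_mod]
  have : k % 5 < 5 := Nat.mod_lt _ (by norm_num)
  interval_cases h : k % 5
  · exact absurd rfl hk
  · rw [at_one]
  · exact h2
  · exact h3
  · exact h4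

/-- The inverse of the first coordinate is absorbed. -/
theorem conj_four {a : Alt} (ha : orderOf a = 3) : IsConj (at' L 4 a) (L.el a) := by
  obtain ⟨θ, hord, hinv, hθ⟩ := exists_twist L hg
  have h1 := hθ 2 a
  have hc : IsConj (θ a) a ∨ IsConj (θ a) a⁻¹ := by
    have e1 := conj_rep a
    have e2 := conj_rep (θ a)
    have e3 : IsConj a⁻¹ (rep (cls a))⁻¹ := by
      obtain ⟨c, hc⟩ := isConj_iff.1 e1
      exact isConj_iff.2 ⟨c, by rw [← hc]; group⟩
    rcases cls_of_orderOf_three ha with i | i <;>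
      rcases cls_of_orderOf_three ((hord a).trans ha) with j | j <;>
      rw [i] at e1 e3 <;> rw [j] at e2
    · exact Or.inl (e2.trans e1.symm)
    · exact Or.inr (e2.trans e3.symm)
    · refine Or.inr (e2.trans ?_)
      simpa [rep] using e3.symm
    · exact Or.inl (e2.trans e1.symm)
  have h2 : ∀ b, IsConj (at' L 2 b) (L.el (θ b)) := fun b => at_one L (θ b) ▸ hθ 1 b
  rcases hc with hc | hc
  · exact ((h1.trans (isConj_pair L _ hc)).trans (h2 a)).trans (L.isConj_el hc)
  · refine ((h1.trans (isConj_pair L _ hc)).trans (h2 a⁻¹)).trans (L.isConj_el ?_)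
    rw [hinv]
    obtain ⟨c, hc⟩ := isConj_iff.1 hc
    exact isConj_iff.2 ⟨c, by rw [show c * (θ a)⁻¹ * c⁻¹ = (c * θ a * c⁻¹)⁻¹ by group, hc, inv_inv]⟩

/-- Inverting `x * a` amounts to inverting `a`. -/
theorem el_inv_conj {a : Alt} (ha : a = 1 ∨ a = y ∨ orderOf a = 3) :
    IsConj (L.el a)⁻¹ (L.el a⁻¹) := by
  rw [el_inv]
  rcases ha with rfl | rfl | ha
  · rw [inv_one]; exact conj_small L hg (Or.inl rfl) (by norm_num)
  · rw [show y⁻¹ = y by decide +kernel]; exact conj_small L hg (Or.inr rfl) (by norm_num)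
  · exact conj_four L hg (by rwa [orderOf_inv])

/-- The generators of a cyclic subgroup through `x * w`. -/
theorem conj_pair {k : ℕ} (hk : k.Coprime 15) :
    (IsConj (L.el w ^ k) (L.el w) ∧ IsConj (L.el w⁻¹ ^ k) (L.el w⁻¹)) ∨
      (IsConj (L.el w ^ k) (L.el w⁻¹) ∧ IsConj (L.el w⁻¹ ^ k) (L.el w)) := by
  obtain ⟨θ, hord, hinv, hθ⟩ := exists_twist L hg
  have hk5 : k % 5 ≠ 0 := fun h => by
    have := Nat.dvd_gcd (Nat.dvd_of_mod_eq_zero h) (show 5 ∣ 15 by norm_num)
    rw [hk] at this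
    norm_num at this
  have hk3 : k % 3 ≠ 0 := fun h => by
    have := Nat.dvd_gcd (Nat.dvd_of_mod_eq_zero h) (show 3 ∣ 15 by norm_num)
    rw [hk] at this
    norm_num at this
  have h4 : ∀ a, orderOf a = 3 → IsConj (at' L 4 a) (L.el a) := fun a => conj_four L hg
  have hgen : ∀ a, orderOf a = 3 → IsConj (at' L k a) (L.el a) ∧ (k % 5 = 1 ∨ k % 5 = 4) ∨
      IsConj (at' L k a) (L.el (θ a)) ∧ (k % 5 = 2 ∨ k % 5 = 3) := by
    intro a ha
    rw [at_mod]
    have : k % 5 < 5 := Nat.mod_lt _ (by norm_num)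
    interval_cases h : k % 5
    · exact absurd rfl hk5
    · exact Or.inl ⟨by rw [at_one], Or.inl rfl⟩
    · exact Or.inr ⟨at_one L (θ a) ▸ hθ 1 a, Or.inl rfl⟩
    · refine Or.inr ⟨?_, Or.inr rfl⟩
      rw [show at' L 3 a = at' L (2 * 4) a by rw [at_mod L (2 * 4) a]]
      exact (hθ 4 a).trans (h4 _ ((hord a).trans ha))
    · exact Or.inl ⟨h4 a ha, Or.inr rfl⟩
  obtain ⟨b, hb, hpow⟩ : ∃ b, (b = w ∨ b = w⁻¹) ∧ w ^ k = b := by
    refine ⟨_, ?_, rfl⟩
    rw [← pow_mod_orderOf, orderOf_w]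
    have : k % 3 < 3 := Nat.mod_lt _ (by norm_num)
    interval_cases h : k % 3
    · exact absurd rfl hk3
    · exact Or.inl (pow_one w)
    · exact Or.inr (by decide +kernel)
  have hpow' : w⁻¹ ^ k = b⁻¹ := by rw [inv_pow, hpow]
  have hb3 : orderOf b = 3 := by
    rcases hb with rfl | rfl
    · exact orderOf_w
    · rw [orderOf_inv, orderOf_w]
  rw [el_pow, el_pow, hpow, hpow']
  rcases hgen b hb3 with ⟨h1, hk'⟩ | ⟨h1, hk'⟩ <;>
    rcases hgen b⁻¹ (by rwa [orderOf_inv]) with ⟨h2, hk''⟩ | ⟨h2, hk''⟩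
  · rcases hb with rfl | rfl
    · exact Or.inl ⟨h1, h2⟩
    · rw [inv_inv] at h2 ⊢
      exact Or.inr ⟨h1, h2⟩
  · omega
  · omega
  · rw [hinv] at h2
    have hcl := cls_of_orderOf_three ((hord b).trans hb3)
    have e := conj_rep (θ b)
    have e' : IsConj (θ b)⁻¹ (rep (cls (θ b)))⁻¹ := by
      obtain ⟨c, hc⟩ := isConj_iff.1 e
      exact isConj_iff.2 ⟨c, by rw [← hc]; group⟩
    rcases hcl with i | i <;> rw [i] at e e'
    · exact Or.inl ⟨h1.trans (L.isConj_el e), h2.trans (L.isConj_el e')⟩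
    · refine Or.inr ⟨h1.trans (L.isConj_el e), h2.trans (L.isConj_el ?_)⟩
      simpa [rep] using e'

end Cfsg.Agent.M24Nse.Five
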