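import Cfsg.Agent.M24Nse.Degree

/-!
# A subgroup of index twenty-four

The stabilizer of a fixed vector of the normalizer of a Sylow 23-subgroup in a representation of
degree twenty-three also contains an element of order five.
-/

set_option autoImplicit false
set_option linter.unusedSectionVars false

namespace Cfsg.Agent.M24Nse

open Cfsg.Agent
open scoped Pointwise

universe u

variable {G : Type u} [Group G] [Fintype G]

/-- Two subgroups of coprime order, one normalizing the other. -/
theorem card_join_coprime {X P : Subgroup G} (hP : P ≤ Subgroup.normalizer (X : Set G))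
    (hco : (Nat.card P).Coprime (Nat.card X)) :
    Nat.card ↥(P ⊔ X) = Nat.card P * Nat.card X := by
  refine le_antisymm ?_ (Nat.le_of_dvd Nat.card_pos (hco.mul_dvd_of_dvd_of_dvd
    (Subgroup.card_dvd_of_le le_sup_left) (Subgroup.card_dvd_of_le le_sup_right)))
  have h := Subgroup.coe_mul_of_left_le_normalizer_right P X hP
  calc Nat.card ↥(P ⊔ X) = Nat.card ↑((P ⊔ X : Subgroup G) : Set G) := rfl
    _ = Nat.card ↑((P : Set G) * (X : Set G)) := by rw [h]
    _ ≤ _ := Set.natCard_mul_le

/-- All elements of order five are conjugate. -/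
theorem isConj_five (hF : Facts G) {y z : G} (hy : orderOf y = 5) (hz : orderOf z = 5) :
    IsConj y z := by
  haveI : Fact (Nat.Prime 5) := ⟨Nat.prime_five⟩
  obtain ⟨f, g, hinj, hrange, hgx⟩ := hF.five
  let L : Cent G 5 Five.Alt := ⟨f, hinj, hrange, 36, by norm_num, Five.pow_six⟩
  have hg : g * L.x * g⁻¹ = L.x ^ 2 := hgx
  suffices h : ∀ y : G, orderOf y = 5 → IsConj y L.x from (h y hy).trans (h z hz).symm
  intro y hy
  obtain ⟨P, hP⟩ := L.isPGroup_x.exists_le_sylow
  obtain ⟨Q, hQ⟩ := (IsPGroup.of_card (p := 5) (n := 1) (by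
    rw [Nat.card_zpowers, hy, pow_one]) : IsPGroup 5 (Subgroup.zpowers y)).exists_le_sylow
  obtain ⟨c, hc⟩ := MulAction.exists_smul_eq G Q P
  have hPe : (P : Subgroup G) = Subgroup.zpowers L.x := by
    refine (Subgroup.eq_of_le_of_card_ge hP ?_).symm
    rw [P.card_eq_multiplicity, Nat.card_zpowers, L.orderOf_x, hF.card,
      factorization_ord (m := 48964608) (by norm_num) (by norm_num) (by norm_num [ord]), pow_one]
  have hmem : c * y * c⁻¹ ∈ Subgroup.zpowers L.x := by
    rw [← hPe, ← hc]
    exact Subgroup.smul_mem_pointwise_smul y (MulAut.conj c) (Q : Subgroup G)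
      (hQ (Subgroup.mem_zpowers y))
  obtain ⟨k, hk : L.x ^ k = c * y * c⁻¹⟩ := mem_powers_iff_mem_zpowers.2 hmem
  have hk5 : k % 5 ≠ 0 := fun h => by
    rw [← pow_mod_orderOf, L.orderOf_x, h, pow_zero] at hk
    have : y = 1 := by
      calc y = c⁻¹ * (c * y * c⁻¹) * c := by group
        _ = 1 := by rw [← hk]; group
    rw [this, orderOf_one] at hy
    omega
  refine (isConj_iff.2 ⟨c, hk.symm⟩ : IsConj y (L.x ^ k)).trans ?_
  rw [← L.el_one, Five.el_pow, one_pow]
  exact Five.conj_small L hg (Or.inl rfl) hk5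

/-- The sum of a character over a subgroup is the order times the dimension of its invariants. -/
theorem sum_eq_invariants {n : ℕ} (ρ : Representation ℂ G (Fin n → ℂ)) (K : Subgroup G)
    [Fintype K] : ∑ y : K, ρ.character (y : G) =
      (Nat.card K : ℂ) * (Module.finrank ℂ
        (Representation.invariants (ρ.comp K.subtype : Representation ℂ K (Fin n → ℂ))) : ℂ) := by
  let σ : Representation ℂ K (Fin n → ℂ) := ρ.comp K.subtype
  have hne : (Nat.card K : ℂ) ≠ 0 := Nat.cast_ne_zero.2 Nat.card_pos.ne'
  have : Invertible (Nat.card K : ℂ) := invertibleOfNonzero hne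
  have h := σ.card_inv_mul_sum_char_eq_finrank
  rw [← h, ← mul_assoc, mul_inv_cancel₀ hne, one_mul]
  rfl

theorem search_index : (List.range 42074).all (fun k =>
    let m := 23 * k + 1
    967680 % m != 0 || m % 5 != 0 ||
      !(23 * m / 5 % 11 == 1 || (m % 10 == 0 && 23 * m / 10 % 11 == 1)) ||
      m == 40320 || m == 967680) = true := by decide +kernel

/-- The number of conjugates of a cyclic subgroup of prime order inside a subgroup. -/
theorem count_in {p : ℕ} [Fact p.Prime] {H : Subgroup G} (hfac : (Nat.card G).factorization p = 1)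
    {x : G} (hx : orderOf x = p) (hxH : x ∈ H) :
    ∃ k : ℕ, k % p = 1 ∧ Nat.card ↥(Subgroup.normalizer (Subgroup.zpowers x : Set G) ⊓ H : Subgroup G)
      * k = Nat.card H := by
  let x' : H := ⟨x, hxH⟩
  obtain ⟨P, hP⟩ := (IsPGroup.of_card (p := p) (n := 1) (by
    rw [Nat.card_zpowers, Subgroup.orderOf_mk, hx, pow_one]) :
      IsPGroup p (Subgroup.zpowers x')).exists_le_sylow
  have hfle : (Nat.card H).factorization p ≤ 1 :=
    hfac ▸ (Nat.factorization_le_iff_dvd Nat.card_pos.ne' Nat.card_pos.ne').2
      (Subgroup.card_subgroup_dvd_card H) p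
  have hPe : (P : Subgroup H) = Subgroup.zpowers x' := by
    refine (Subgroup.eq_of_le_of_card_ge hP ?_).symm
    rw [P.card_eq_multiplicity, Nat.card_zpowers, Subgroup.orderOf_mk, hx]
    exact (Nat.pow_le_pow_right (Fact.out : p.Prime).pos hfle).trans (pow_one p).le
  refine ⟨Nat.card (Sylow p H), ?_, ?_⟩
  · have := card_sylow_modEq_one p H
    rw [Nat.ModEq] at this
    rwa [Nat.one_mod_eq_one.2 (Fact.out : p.Prime).one_lt.ne'] at this
  · rw [show Nat.card (Sylow p H) =
        (Subgroup.normalizer ((P : Subgroup H) : Set H)).index from P.card_eq_index_normalizer, hPe]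
    have e : Nat.card ↥(Subgroup.normalizer (Subgroup.zpowers x : Set G) ⊓ H : Subgroup G) =
        Nat.card ↥(Subgroup.normalizer (Subgroup.zpowers x' : Set H) : Subgroup H) := by
      have hmem : ∀ z : H, z ∈ Subgroup.normalizer (Subgroup.zpowers x' : Set H) ↔
          (z : G) ∈ Subgroup.normalizer (Subgroup.zpowers x : Set G) := by
        intro z
        have hz : ∀ h : H, h ∈ Subgroup.zpowers x' ↔ (h : G) ∈ Subgroup.zpowers x := fun h => by
          simp only [Subgroup.mem_zpowers_iff, Subtype.ext_iff, Subgroup.coe_zpow]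
          rfl
        constructor
        · intro h
          refine Subgroup.mem_normalizer_fintype fun w hw => ?_
          have hwH : w ∈ H := Subgroup.zpowers_le.2 hxH hw
          simpa [hz] using (Subgroup.mem_normalizer_iff.1 h ⟨w, hwH⟩).1 ((hz _).2 hw)
        · intro h
          rw [Subgroup.mem_normalizer_iff]
          intro w
          rw [hz, hz]
          simpa using Subgroup.mem_normalizer_iff.1 h (w : G)
      exact Nat.card_congr
        { toFun := fun z => ⟨⟨z.1, z.2.2⟩, (hmem _).2 z.2.1⟩
          invFun := fun z => ⟨z.1.1, (hmem _).1 z.2, z.1.2⟩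
          left_inv := fun _ => rfl
          right_inv := fun _ => rfl }
    rw [e, Subgroup.card_mul_index]

set_option maxHeartbeats 800000 in
/-- The index twenty-four subgroup. -/
theorem exists_index (hF : Facts G) : ∃ H : Subgroup G, H.index = 24 := by
  classical
  haveI : Fact (Nat.Prime 11) := ⟨by norm_num⟩
  haveI : Fact (Nat.Prime 23) := ⟨by norm_num⟩
  haveI : Fact (Nat.Prime 5) := ⟨Nat.prime_five⟩
  have hO : Nat.card G = 244823040 := hF.card
  obtain ⟨χ, hχd⟩ := exists_deg hF
  have hB := bigFacts hF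
  obtain ⟨x, hx⟩ := exists_order (p := 23) (by norm_num) hF (by norm_num [ord])
  set N := Subgroup.normalizer ((Subgroup.zpowers x : Subgroup G) : Set G) with hNdef
  have hNc : Nat.card N = 253 := hF.norm_twentythree x hx
  obtain ⟨a', ha'⟩ := exists_prime_orderOf_dvd_card' (G := N) 11 (by rw [hNc]; norm_num)
  set a : G := (a' : G) with hadef
  have ha : orderOf a = 11 := by rw [hadef, Subgroup.orderOf_coe, ha']
  set A := Subgroup.zpowers a with hAdef
  have hAc : Nat.card A = 11 := by rw [hAdef, Nat.card_zpowers, ha]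
  set M := Subgroup.normalizer ((A : Subgroup G) : Set G) with hMdef
  have hMc : Nat.card M = 110 := hF.norm_eleven a ha
  obtain ⟨b', hb'⟩ := exists_prime_orderOf_dvd_card' (G := M) 5 (by rw [hMc]; norm_num)
  set b : G := (b' : G) with hbdef
  have hb : orderOf b = 5 := by rw [hbdef, Subgroup.orderOf_coe, hb']
  set K := Subgroup.zpowers b ⊔ A with hKdef
  have hbM : Subgroup.zpowers b ≤ M := Subgroup.zpowers_le.2 b'.2
  have hKc : Nat.card K = 55 := by
    rw [hKdef, card_join_coprime hbM (by rw [Nat.card_zpowers, hb, hAc]; norm_num),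
      Nat.card_zpowers, hb, hAc]
  have hKM : K ≤ M := sup_le hbM Subgroup.le_normalizer
  -- values
  have hcop : ∀ (p q : ℕ) (y : G), orderOf y = p * q → 0 < p → 0 < q →
      q ∣ Nat.card (Subgroup.centralizer ({y ^ q} : Set G)) := fun p q y hy hp hq => by
    have h1 : orderOf (y ^ p) = q := by
      rw [orderOf_pow' y hp.ne', hy, Nat.gcd_eq_right (dvd_mul_right p q),
        Nat.mul_div_cancel_left _ hp]
    have h2 := Subgroup.orderOf_dvd_natCard _
      (Subgroup.mem_centralizer_singleton_iff.2 (Commute.pow_pow_self y p q).eq)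
    rwa [h1] at h2
  have h11 : ∀ y : G, orderOf y = 11 → (χ : G → ℂ) y = 1 := fun y hy => by
    rw [hB.value11 χ y hy, hχd]; norm_num [r11]
  have hN253 : ∀ y ∈ N, (χ : G → ℂ) y = (if y = 1 then 23 else 0) + (if orderOf y = 11 then 1 else 0) := by
    intro y hy
    have hd : orderOf y ∣ 253 := hNc ▸ Subgroup.orderOf_dvd_natCard _ hy
    have h253 : orderOf y ≠ 253 := fun h => by
      have h1 : orderOf (y ^ 11) = 23 := by
        rw [orderOf_pow' y (by norm_num), h]; norm_num
      have h2 := hcop 23 11 y (by rw [h]) (by norm_num) (by norm_num)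
      rw [hF.cent_twentythree _ h1] at h2
      norm_num at h2
    have : orderOf y = 1 ∨ orderOf y = 11 ∨ orderOf y = 23 := by
      rcases (Nat.dvd_mul.1 (show orderOf y ∣ 11 * 23 from hd)) with ⟨p, q, hp, hq, hpq⟩
      rcases (Nat.dvd_prime (by norm_num : Nat.Prime 11)).1 hp with rfl | rfl <;>
        rcases (Nat.dvd_prime (by norm_num : Nat.Prime 23)).1 hq with rfl | rfl <;> omega
    rcases this with h | h | h
    · rw [orderOf_eq_one_iff] at h
      simp [h, char_one, hχd]
    · have hy1 : y ≠ 1 := fun e => by rw [e, orderOf_one] at h; omega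
      rw [h11 y h, if_neg hy1, if_pos h, zero_add]
    · have hy1 : y ≠ 1 := fun e => by rw [e, orderOf_one] at h; omega
      rw [hB.value23 χ y h (by rw [hχd]), if_neg hy1, if_neg (by omega), zero_add]
  obtain ⟨n, ρ, hρ, hχ⟩ := χ.2
  have hn : n = 23 := by
    have h := ρ.char_one
    rw [hχ, char_one, hχd, Module.finrank_fin_fun] at h
    exact_mod_cast h.symm
  -- the sum over the cyclic group of order eleven
  have hsA : ∑ y : A, ρ.character (y : G) = 33 := by
    rw [← Finset.add_sum_erase _ _ (Finset.mem_univ (1 : A)), hχ]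
    rw [Finset.sum_congr rfl (g := fun _ => (1 : ℂ)) fun y hy => h11 _ ?_]
    · simp only [Finset.sum_const, Finset.card_erase_of_mem (Finset.mem_univ _), Finset.card_univ,
        ← Nat.card_eq_fintype_card, hAc, OneMemClass.coe_one, char_one, hχd]
      norm_num
    · exact (Nat.dvd_prime (by norm_num : Nat.Prime 11)).1
        (hAc ▸ Subgroup.orderOf_dvd_natCard _ y.2) |>.resolve_left fun e =>
          Finset.ne_of_mem_erase hy (Subtype.ext (orderOf_eq_one_iff.1 e))
  -- the sum over the group of order 55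
  obtain ⟨A5, hA5⟩ := exists_int_value χ b fun k hk => by
    refine isConj_five hF ?_ hb
    rw [hO] at hk
    rw [Nat.Coprime.orderOf_pow, hb]
    rw [hb]
    exact (hk.coprime_dvd_right (show 5 ∣ 244823040 by norm_num)).symm
  have h5 : ∀ y ∈ K, y ∉ A → (χ : G → ℂ) y = A5 := by
    intro y hy hyA
    have hd : orderOf y ∣ 5 * 11 := by
      have := Subgroup.orderOf_dvd_natCard _ hy
      rwa [hKc] at this
    rcases (Nat.dvd_mul.1 hd) with ⟨p, q, hp, hq, hpq⟩
    rcases (Nat.dvd_prime Nat.prime_five).1 hp with rfl | rfl <;>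
      rcases (Nat.dvd_prime (by norm_num : Nat.Prime 11)).1 hq with rfl | rfl
    · exact absurd (orderOf_eq_one_iff.1 (by omega : orderOf y = 1) ▸ one_mem A) hyA
    · exfalso
      have hy11 : orderOf y = 11 := by omega
      have hjoin : IsPGroup 11 ↥(Subgroup.zpowers y ⊔ A) :=
        IsPGroup.to_sup_of_normal_right' (IsPGroup.of_card (n := 1) (by
          rw [Nat.card_zpowers, hy11, pow_one])) (IsPGroup.of_card (n := 1) (by
          rw [hAc, pow_one])) (Subgroup.zpowers_le.2 (hKM hy))
      obtain ⟨e, he⟩ := IsPGroup.iff_card.1 hjoin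
      have hdvd : Nat.card ↥(Subgroup.zpowers y ⊔ A) ∣ 110 :=
        hMc ▸ Subgroup.card_dvd_of_le (sup_le (Subgroup.zpowers_le.2 (hKM hy)) Subgroup.le_normalizer)
      have he1 : e ≤ 1 := by
        by_contra hlt
        have h := (pow_dvd_pow 11 (show 2 ≤ e by omega)).trans (he ▸ hdvd)
        norm_num at h
      have heq : A = Subgroup.zpowers y ⊔ A := Subgroup.eq_of_le_of_card_ge le_sup_right (by
        rw [he, hAc]; exact (Nat.pow_le_pow_right (by norm_num) he1).trans (pow_one 11).le)
      exact hyA (heq ▸ Subgroup.mem_sup_left (Subgroup.mem_zpowers y))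
    · rw [char_isConj χ (isConj_five hF (by omega) hb), hA5]
    · exfalso
      have h1 : orderOf (y ^ 5) = 11 := by
        rw [orderOf_pow' y (by norm_num), show orderOf y = 55 by omega]; norm_num
      have h2 := hcop 11 5 y (by omega) (by norm_num) (by norm_num)
      rw [hF.cent_eleven _ h1] at h2
      norm_num at h2
  have hsK : ∑ y : K, ρ.character (y : G) = 33 + 44 * (A5 : ℂ) := by
    rw [← Finset.sum_filter_add_sum_filter_not Finset.univ (fun y : K => (y : G) ∈ A)]
    congr 1
    · rw [← hsA]
      refine Finset.sum_bij' (fun (y : K) hy => (⟨y, (Finset.mem_filter.1 hy).2⟩ : A))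
        (fun (y : A) _ => (⟨(y : G), le_sup_right (a := Subgroup.zpowers b) y.2⟩ : K)) (fun _ _ => Finset.mem_univ _)
        (fun (y : A) _ => Finset.mem_filter.2 ⟨Finset.mem_univ _, y.2⟩) (fun _ _ => rfl) (fun _ _ => rfl)
        fun _ _ => rfl
    · rw [Finset.sum_congr rfl fun (y : K) hy => show ρ.character (y : G) = (A5 : ℂ) from
        (congrFun hχ (y : G)).trans (h5 _ y.2 (Finset.mem_filter.1 hy).2), Finset.sum_const,
        nsmul_eq_mul]
      have hc : (Finset.univ.filter fun y : K => ¬ (y : G) ∈ A).card = 44 := by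
        have h1 := Finset.card_filter_add_card_filter_not (s := (Finset.univ : Finset K))
          (fun y : K => (y : G) ∈ A)
        have h2 : (Finset.univ.filter fun y : K => (y : G) ∈ A).card = 11 := by
          rw [← hAc, ← Fintype.card_subtype, ← Nat.card_eq_fintype_card]
          exact Nat.card_congr
            { toFun := fun y => ⟨y.1, y.2⟩
              invFun := fun y => ⟨⟨y.1, le_sup_right (a := Subgroup.zpowers b) y.2⟩, y.2⟩
              left_inv := fun _ => rfl
              right_inv := fun _ => rfl }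
        rw [Finset.card_univ, ← Nat.card_eq_fintype_card, hKc, h2] at h1
        omega
      rw [hc]; norm_num
  -- the invariants
  let IA := Representation.invariants (ρ.comp A.subtype : Representation ℂ A (Fin n → ℂ))
  let IK := Representation.invariants (ρ.comp K.subtype : Representation ℂ K (Fin n → ℂ))
  have hle : IK ≤ IA := fun v hv y => hv ⟨y, le_sup_right (a := Subgroup.zpowers b) y.2⟩
  have hfA : Module.finrank ℂ IA = 3 := by
    have h := (sum_eq_invariants ρ A).symm.trans hsA
    rw [hAc] at h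
    have h' : 11 * Module.finrank ℂ IA = 33 := by exact_mod_cast h
    omega
  have hfK : Module.finrank ℂ IK = 3 := by
    have h := (sum_eq_invariants ρ K).symm.trans hsK
    rw [hKc] at h
    have h' : 55 * (Module.finrank ℂ IK : ℤ) = 33 + 44 * A5 := by exact_mod_cast h
    have := Submodule.finrank_mono hle
    omega
  have hIe : IK = IA := Submodule.eq_of_le_of_finrank_eq hle (by rw [hfK, hfA])
  -- a fixed vector of the normalizer
  let IN := Representation.invariants (ρ.comp N.subtype : Representation ℂ N (Fin n → ℂ))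
  obtain ⟨v, hv, hv0⟩ : ∃ v ∈ IN, v ≠ 0 := by
    apply Submodule.exists_mem_ne_zero_of_ne_bot
    intro hbot
    have h := sum_eq_invariants ρ N
    change _ = _ * (Module.finrank ℂ IN : ℂ) at h
    rw [hbot, finrank_bot, Nat.cast_zero, mul_zero, hχ,
      Finset.sum_congr rfl fun (y : N) _ => hN253 (y : G) y.2, Finset.sum_add_distrib] at h
    have h1 : ∑ y : N, (if (y : G) = 1 then (23 : ℂ) else 0) = 23 := by
      rw [Finset.sum_eq_single (1 : N)]
      · simp
      · intro y _ hy
        rw [if_neg]
        exact fun e => hy (Subtype.ext e)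
      · simp
    rw [h1, ← Finset.sum_filter, Finset.sum_const, nsmul_one] at h
    have h' : 23 + (Finset.univ.filter fun y : N => orderOf (y : G) = 11).card = 0 := by
      exact_mod_cast h
    omega
  let H : Subgroup G :=
    { carrier := {g | ρ g v = v}
      one_mem' := by simp
      mul_mem' := fun {g h} hg hh => by
        show ρ (g * h) v = v
        rw [map_mul, Module.End.mul_apply, hh, hg]
      inv_mem' := fun {g} hg => by
        show ρ g⁻¹ v = v
        conv_lhs => rw [← (show ρ g v = v from hg)]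
        rw [← Module.End.mul_apply, ← map_mul, inv_mul_cancel, map_one, Module.End.one_apply] }
  have hNH : N ≤ H := fun y hy => hv ⟨y, hy⟩
  have haH : a ∈ H := hNH a'.2
  have hvA : v ∈ IA := fun y => (Subgroup.zpowers_le.2 haH) y.2
  have hKH : K ≤ H := fun y hy => (hIe ▸ hvA : v ∈ IK) ⟨y, hy⟩
  have hHne : H ≠ ⊤ := fun htop => by
    obtain ⟨-, hirr⟩ := Char.isIrreducible_iff.1 hρ
    rcases hirr (Submodule.span ℂ {v}) fun g w hw => by
      obtain ⟨c, rfl⟩ := Submodule.mem_span_singleton.1 hw
      rw [map_smul, show ρ g v = v from (htop ▸ Subgroup.mem_top g : g ∈ H)]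
      exact hw with h | h
    · exact hv0 (Submodule.span_singleton_eq_bot.1 h)
    · have := congrArg (fun U : Submodule ℂ (Fin n → ℂ) => Module.finrank ℂ U) h
      simp only [finrank_span_singleton hv0, finrank_top, Module.finrank_fin_fun] at this
      omega
  -- the order
  have hxN : x ∈ N := Subgroup.le_normalizer (Subgroup.mem_zpowers x)
  have hfac : ∀ {q m : ℕ}, q.Prime → ¬ q ∣ m → q * m = ord → (Nat.card G).factorization q = 1 :=
    fun hq hm he => by rw [hF.card]; exact factorization_ord hq hm he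
  obtain ⟨k, hk, hkc⟩ := count_in (H := H)
    (hfac (m := 10644480) (by norm_num : Nat.Prime 23) (by norm_num) (by norm_num [ord])) hx (hNH hxN)
  rw [show (Subgroup.normalizer (Subgroup.zpowers x : Set G) ⊓ H : Subgroup G) = N from
    inf_eq_left.2 hNH, hNc] at hkc
  obtain ⟨l, hl, hlc⟩ := count_in (H := H)
    (hfac (m := 22256640) (by norm_num : Nat.Prime 11) (by norm_num) (by norm_num [ord])) ha haH
  have hq1 : Nat.card ↥(M ⊓ H : Subgroup G) ∣ 110 := hMc ▸ Subgroup.card_dvd_of_le inf_le_left
  have hq2 : 55 ∣ Nat.card ↥(M ⊓ H : Subgroup G) :=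
    hKc ▸ Subgroup.card_dvd_of_le (le_inf hKM hKH)
  change Nat.card ↥(M ⊓ H : Subgroup G) * l = Nat.card H at hlc
  have hHd : Nat.card H ∣ 244823040 := hO ▸ Subgroup.card_subgroup_dvd_card H
  have hdvd : k ∣ 967680 := by
    rw [← hkc, show 244823040 = 253 * 967680 by norm_num] at hHd
    exact Nat.dvd_of_mul_dvd_mul_left (by norm_num) hHd
  have hle' := Nat.le_of_dvd (by norm_num) hdvd
  obtain ⟨j, rfl⟩ : ∃ j, k = 23 * j + 1 := ⟨k / 23, by omega⟩
  have hs := List.all_eq_true.1 search_index j (List.mem_range.2 (show j < 42074 by omega))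
  simp only [Nat.mod_eq_zero_of_dvd hdvd, bne_self_eq_false, Bool.false_or] at hs
  obtain ⟨e, he⟩ := hq2
  have he2 : e = 1 ∨ e = 2 := by
    rw [he] at hq1
    exact (Nat.dvd_prime Nat.prime_two).1 (Nat.dvd_of_mul_dvd_mul_left (show 0 < 55 by norm_num)
      (show 55 * e ∣ 55 * 2 from hq1))
  have hm : (23 * j + 1) % 5 = 0 ∧ (23 * (23 * j + 1) / 5 % 11 = 1 ∨
      ((23 * j + 1) % 10 = 0 ∧ 23 * (23 * j + 1) / 10 % 11 = 1)) := by
    rw [he, ← hkc] at hlc
    rcases he2 with rfl | rfl
    · refine ⟨by omega, Or.inl ?_⟩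
      rw [show 23 * (23 * j + 1) / 5 = l by omega]; exact hl
    · refine ⟨by omega, Or.inr ⟨by omega, ?_⟩⟩
      rw [show 23 * (23 * j + 1) / 10 = l by omega]; exact hl
  have hmul := Subgroup.card_mul_index H
  rw [hO, ← hkc] at hmul
  have hi1 : H.index ≠ 1 := fun h => hHne (Subgroup.index_eq_one.1 h)
  refine ⟨H, ?_⟩
  obtain ⟨hm5, hm'⟩ := hm
  have hcases : 23 * j + 1 = 40320 ∨ 23 * j + 1 = 967680 := by
    rcases hm' with h' | ⟨h', h''⟩
    · simpa [hm5, h'] using hs
    · simpa [hm5, h', h''] using hs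
  rcases hcases with h | h <;> rw [h] at hmul <;> omega

end Cfsg.Agent.M24Nse
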