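import Cfsg.Agent.M24Nse.Points
import Cfsg.Agent.M24Nse.Subgroup

/-!
# Two groups with the local facts are isomorphic

The action on the cosets of the subgroup of index twenty-four is brought to the form in which the
image is generated by `x ↦ x + 1`, `x ↦ 2 x`, the cubing map and `x ↦ -1 / x`.
-/

set_option autoImplicit false
set_option linter.unusedSectionVars false

namespace Cfsg.Agent.M24Nse

open Cfsg.Agent Subgroup
open Cfsg.Agent.Fg24.M23 (sigma23 mu23 tau23 sigma23_pow mu23_pow tauFun)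

universe u v

local instance fact_five_m24 : Fact (Nat.Prime 5) := ⟨by norm_num⟩
local instance fact_eleven_m24 : Fact (Nat.Prime 11) := ⟨by norm_num⟩
local instance fact_twentythree_m24 : Fact (Nat.Prime 23) := ⟨by norm_num⟩

variable {G : Type u} [Group G] [Fintype G]

/-- A faithful transitive action of degree twenty-four. -/
structure Act (G : Type u) [Group G] where
  /-- The action. -/
  φ : G →* Equiv.Perm Pt
  inj : Function.Injective φ
  trans : ∀ p : Pt, ∃ g : G, φ g none = p

/-- Conjugating an action by a permutation fixing infinity. -/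
def Act.conjBy (A : Act G) (π : Equiv.Perm (ZMod 23)) : Act G where
  φ := (MulAut.conj (ext π)).toMonoidHom.comp A.φ
  inj := (MulAut.conj (ext π)).injective.comp A.inj
  trans p := by
    obtain ⟨g, hg⟩ := A.trans ((ext π)⁻¹ p)
    refine ⟨g, ?_⟩
    simp only [MonoidHom.comp_apply, MulEquiv.coe_toMonoidHom, MulAut.conj_apply,
      Equiv.Perm.mul_apply]
    rw [← map_inv, ext_none, hg]
    exact (ext π).apply_symm_apply p

theorem exists_act (hF : Facts G) : Nonempty (Act G) := by
  classical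
  have := hF.simple
  obtain ⟨X, hX⟩ := exists_index hF
  have hcard : Fintype.card (G ⧸ X) = Fintype.card Pt := by
    rw [← Nat.card_eq_fintype_card, Fintype.card_option, ZMod.card]
    exact hX
  let e₀ : G ⧸ X ≃ Pt := Fintype.equivOfCardEq hcard
  let e : G ⧸ X ≃ Pt := e₀.trans (Equiv.swap (e₀ ((1 : G) : G ⧸ X)) none)
  have he : e ((1 : G) : G ⧸ X) = none := Equiv.swap_apply_left _ _
  let φ : G →* Equiv.Perm Pt := e.permCongrHom.toMonoidHom.comp (MulAction.toPermHom G (G ⧸ X))
  have hφ : ∀ g q, φ g (e q) = e (g • q) := fun g q => by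
    show e (g • e.symm (e q)) = _
    rw [e.symm_apply_apply]
  refine ⟨⟨φ, ?_, fun p => ?_⟩⟩
  · rw [← MonoidHom.ker_eq_bot_iff]
    refine (IsSimpleGroup.eq_bot_or_eq_top_of_normal _ inferInstance).resolve_right fun htop => ?_
    have : X = ⊤ := eq_top_iff.2 fun g _ => by
      have h1 : φ g = 1 := MonoidHom.mem_ker.1 (htop ▸ Subgroup.mem_top g)
      have h2 := hφ g ((1 : G) : G ⧸ X)
      rw [h1, Equiv.Perm.one_apply, e.apply_eq_iff_eq] at h2
      change ((1 : G) : G ⧸ X) = ((g * 1 : G) : G ⧸ X) at h2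
      rw [mul_one, QuotientGroup.eq, inv_one, one_mul] at h2
      exact h2
    rw [this, Subgroup.index_top] at hX
    omega
  · obtain ⟨g, hg⟩ := QuotientGroup.mk_surjective (e.symm p)
    refine ⟨g, ?_⟩
    rw [← he, hφ]
    change e ((g * 1 : G) : G ⧸ X) = p
    rw [mul_one, hg, e.apply_symm_apply]

theorem orderOf_sigma23 : orderOf sigma23 = 23 :=
  orderOf_eq_prime (Equiv.ext fun x => by rw [sigma23_pow, ZMod.natCast_self, add_zero]; rfl)
    fun h => absurd (Equiv.ext_iff.1 h 0) (by decide)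

variable (hF : Facts G)
include hF

/-- The translation is in the image. -/
theorem exists_sigma : ∃ (A : Act G) (s : G), A.φ s = ext sigma23 := by
  classical
  obtain ⟨A⟩ := exists_act hF
  obtain ⟨x, hx⟩ := exists_order (p := 23) (by norm_num) hF (by norm_num [ord])
  have hp : orderOf (A.φ x) = 23 := by rw [orderOf_injective _ A.inj, hx]
  have hc : (A.φ x).IsCycle := Equiv.Perm.isCycle_of_prime_order' (by rw [hp]; norm_num)
    (by rw [hp, Fintype.card_option, ZMod.card]; norm_num)
  have hcard : (A.φ x).support.card = 23 := hc.orderOf.symm.trans hp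
  obtain ⟨p, hpfix⟩ : ∃ p, A.φ x p = p := by
    by_contra h
    push Not at h
    have : (A.φ x).support = Finset.univ := Finset.eq_univ_of_forall fun p =>
      Equiv.Perm.mem_support.2 (h p)
    rw [this, Finset.card_univ, Fintype.card_option, ZMod.card] at hcard
    omega
  obtain ⟨g, hg⟩ := A.trans p
  have hfix : A.φ (g⁻¹ * x * g) none = none := by
    rw [map_mul, map_mul, Equiv.Perm.mul_apply, Equiv.Perm.mul_apply, hg, hpfix, map_inv,
      Equiv.Perm.inv_eq_iff_eq, hg]
  obtain ⟨q, hq⟩ := exists_restrict _ hfix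
  have hqo : orderOf q = 23 := by
    rw [← orderOf_injective ext ext_injective, ← hq, orderOf_injective _ A.inj,
      show g⁻¹ * x * g = MulAut.conj g⁻¹ x by simp, MulEquiv.orderOf_eq, hx]
  have hcyc : ∀ p : Equiv.Perm (ZMod 23), orderOf p = 23 → p.IsCycle ∧ p.support.card = 23 :=
    fun p hp => by
      have hc : p.IsCycle := Equiv.Perm.isCycle_of_prime_order' (by rw [hp]; norm_num)
        (by rw [hp, ZMod.card]; norm_num)
      exact ⟨hc, hc.orderOf.symm.trans hp⟩
  obtain ⟨hc1, hcard1⟩ := hcyc q hqo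
  obtain ⟨hc2, hcard2⟩ := hcyc sigma23 orderOf_sigma23
  obtain ⟨π, hπ⟩ := isConj_iff.1 (hc1.isConj hc2 (hcard1.trans hcard2.symm))
  refine ⟨A.conjBy π, g⁻¹ * x * g, ?_⟩
  show ext π * A.φ (g⁻¹ * x * g) * (ext π)⁻¹ = _
  rw [hq, ← map_inv, ← map_mul, ← map_mul, hπ]

theorem orderOf_of_sigma {A : Act G} {s : G} (hs : A.φ s = ext sigma23) : orderOf s = 23 := by
  rw [← orderOf_injective _ A.inj, hs, orderOf_injective _ ext_injective, orderOf_sigma23]

/-- The doubling is in the image. -/
theorem exists_mu : ∃ (A : Act G) (s m : G), A.φ s = ext sigma23 ∧ A.φ m = ext mu23 := by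
  classical
  obtain ⟨A, s, hσ⟩ := exists_sigma hF
  have hs := orderOf_of_sigma hF hσ
  have hN := hF.norm_twentythree s hs
  obtain ⟨⟨u, hu⟩, hu'⟩ := exists_prime_orderOf_dvd_card'
    (G := normalizer ((zpowers s : Subgroup G) : Set G)) 11 (by rw [hN]; norm_num)
  rw [Subgroup.orderOf_mk] at hu'
  obtain ⟨k, hk⟩ : ∃ k : ℕ, s ^ k = u * s * u⁻¹ :=
    mem_powers_iff_mem_zpowers.2 ((mem_normalizer_iff.1 hu s).1 (mem_zpowers s))
  have hfix : A.φ u none = none := by
    have h := congrArg (fun g => A.φ g none) (show u * s = s ^ k * u by rw [hk]; group)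
    simp only [map_mul, map_pow, hσ, Equiv.Perm.mul_apply, ext_none] at h
    rw [← map_pow] at h
    rcases hy : A.φ u none with _ | y
    · rfl
    exfalso
    rw [hy, ext_some, sigma23_pow] at h
    have h0 : (k : ZMod 23) = 0 := by
      have := Option.some_injective _ h
      linear_combination -this
    have hk1 : s ^ k = 1 := A.inj (by
      rw [map_pow, hσ, map_one, ← map_pow]
      refine (congrArg ext ?_).trans (map_one ext)
      exact Equiv.ext fun x => by rw [sigma23_pow, h0, add_zero]; rfl)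
    rw [hk1] at hk
    have hs1 : s = 1 := by
      calc s = u⁻¹ * (u * s * u⁻¹) * u := by group
        _ = 1 := by rw [← hk]; group
    rw [hs1, orderOf_one] at hs
    omega
  obtain ⟨q, hq⟩ := exists_restrict _ hfix
  have haff : ∀ x : ZMod 23, q (x + 1) = q x + k := by
    intro x
    have h := congrArg A.φ (show u * s = s ^ k * u by rw [hk]; group)
    rw [map_mul, map_mul, map_pow, hσ, hq, ← map_pow, ← map_mul, ← map_mul] at h
    have h' := Equiv.ext_iff.1 (ext_injective h) x
    simp only [Equiv.Perm.mul_apply, sigma23_pow] at h'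
    exact h'
  have hlin : ∀ x : ZMod 23, q x = q 0 + k * x := by
    have key : ∀ n : ℕ, q (n : ZMod 23) = q 0 + k * n := fun n => by
      induction n with
      | zero => simp
      | succ n ih => rw [Nat.cast_succ, haff, ih, mul_add, mul_one, add_assoc]
    intro x
    rw [← ZMod.natCast_zmod_val x]
    exact key _
  have h11 : q ^ 11 = 1 := ext_injective (by
    rw [map_pow, ← hq, ← map_pow, ← hu', pow_orderOf_eq_one, map_one, map_one])
  have hk11 : (k : ZMod 23) ^ 11 = 1 := by
    have key : ∀ (n : ℕ) (x : ZMod 23), (q ^ n) x = (q ^ n) 0 + (k : ZMod 23) ^ n * x := by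
      intro n
      induction n with
      | zero => simp
      | succ n ih =>
        intro x
        rw [pow_succ', Equiv.Perm.mul_apply, Equiv.Perm.mul_apply, hlin, ih x,
          hlin ((q ^ n) 0), pow_succ']
        ring
    have := key 11 1
    rw [h11] at this
    simpa using this.symm
  have hk1 : (k : ZMod 23) ≠ 1 := by
    intro hk1
    have key : ∀ n : ℕ, (q ^ n) 0 = n * q 0 := fun n => by
      induction n with
      | zero => simp
      | succ n ih =>
        rw [pow_succ', Equiv.Perm.mul_apply, hlin, ih, hk1, Nat.cast_succ]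
        ring
    have h0 := key 11
    rw [h11, Equiv.Perm.one_apply] at h0
    have ha : q 0 = 0 := (mul_eq_zero.1 h0.symm).resolve_left (by decide)
    have hq1 : q = 1 := Equiv.ext fun x => by rw [hlin, ha, hk1, zero_add, one_mul]; rfl
    rw [hq1, map_one] at hq
    rw [A.inj (hq.trans (map_one _).symm), orderOf_one] at hu'
    omega
  obtain ⟨i, hi⟩ : ∃ i : ℕ, (i : ZMod 23) * ((k : ZMod 23) - 1) = q 0 :=
    ⟨((q 0 / ((k : ZMod 23) - 1))).val, by
      rw [ZMod.natCast_zmod_val, div_mul_cancel₀]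
      exact sub_ne_zero.2 hk1⟩
  obtain ⟨j, hj⟩ := Fg24.M23.slope_log _ hk11 hk1
  refine ⟨A, s, (s ^ i * u * (s ^ i)⁻¹) ^ (j : ℕ), hσ, ?_⟩
  rw [map_pow, map_mul, map_mul, map_inv, map_pow, hσ, hq, ← map_pow, ← map_inv, ← map_mul,
    ← map_mul, ← map_pow]
  refine congrArg ext (Equiv.ext fun x => ?_)
  have hv : ∀ x, (sigma23 ^ i * q * (sigma23 ^ i)⁻¹) x = k * x := by
    intro x
    have hinv : (sigma23 ^ i)⁻¹ x = x - i := by
      rw [Equiv.Perm.inv_eq_iff_eq, sigma23_pow]
      ring
    rw [Equiv.Perm.mul_apply, Equiv.Perm.mul_apply, hinv, hlin, sigma23_pow, ← hi]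
    ring
  have key : ∀ n : ℕ, ((sigma23 ^ i * q * (sigma23 ^ i)⁻¹) ^ n) x = (k : ZMod 23) ^ n * x :=
    fun n => by
      induction n with
      | zero => simp
      | succ n ih => rw [pow_succ', Equiv.Perm.mul_apply, ih, hv, pow_succ', mul_assoc]
  rw [key, hj]
  rfl

omit hF in
theorem orderOf_mu23 : orderOf mu23 = 11 :=
  orderOf_eq_prime (Equiv.ext (by decide +kernel))
    fun h => absurd (Equiv.ext_iff.1 h 1) (by decide)

omit hF in
theorem orderOf_of_mu {A : Act G} {m : G} (hm : A.φ m = ext mu23) : orderOf m = 11 := by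
  rw [← orderOf_injective _ A.inj, hm, orderOf_injective _ ext_injective, orderOf_mu23]

/-- An element of order five in the normalizer of the doubling fixes zero and infinity. -/
theorem exists_tau : ∃ (A : Act G) (s m t : G) (q : Equiv.Perm (ZMod 23)) (c : ZMod 23),
    A.φ s = ext sigma23 ∧ A.φ m = ext mu23 ∧ A.φ t = ext q ∧ c ^ 11 = 1 ∧ ⇑q = tauFun c := by
  classical
  obtain ⟨A, s, m, hσ, hμ⟩ := exists_mu hF
  refine ⟨A, s, m, ?_⟩
  have hm := orderOf_of_mu hμ
  have hN := hF.norm_eleven m hm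
  obtain ⟨⟨r, hr⟩, hr'⟩ := exists_prime_orderOf_dvd_card'
    (G := normalizer ((zpowers m : Subgroup G) : Set G)) 5 (by rw [hN]; norm_num)
  rw [Subgroup.orderOf_mk] at hr'
  obtain ⟨k, hk⟩ : ∃ k : ℕ, m ^ k = r * m * r⁻¹ :=
    mem_powers_iff_mem_zpowers.2 ((mem_normalizer_iff.1 hr m).1 (mem_zpowers m))
  have hk' : r * m * r⁻¹ = m ^ (k % 11) := by rw [← hk, ← hm, pow_mod_orderOf]
  have hconj : ∀ n : ℕ, r ^ n * m * (r ^ n)⁻¹ = m ^ (k % 11) ^ n := by
    intro n
    induction n with
    | zero => simp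
    | succ n ih =>
      calc r ^ (n + 1) * m * (r ^ (n + 1))⁻¹ = r * (r ^ n * m * (r ^ n)⁻¹) * r⁻¹ := by
            rw [pow_succ']; group
        _ = (r * m * r⁻¹) ^ (k % 11) ^ n := by rw [ih, conj_pow]
        _ = m ^ (k % 11) ^ (n + 1) := by rw [hk', ← pow_mul, pow_succ']
  have hk5 : (k % 11) ^ 5 % 11 = 1 := by
    have h := hconj 5
    rw [← hr', pow_orderOf_eq_one, one_mul, inv_one, mul_one, hr'] at h
    have h' : m ^ 1 = m ^ ((k % 11) ^ 5) := by rw [pow_one]; exact h
    rw [pow_eq_pow_iff_modEq, hm] at h'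
    exact h'.symm
  have hk1 : k % 11 ≠ 1 := by
    intro e
    rw [e, pow_one, mul_inv_eq_iff_eq_mul] at hk'
    have hd := Subgroup.orderOf_dvd_natCard (Subgroup.centralizer ({m} : Set G)) (x := r)
      (Subgroup.mem_centralizer_singleton_iff.2 hk')
    rw [hF.cent_eleven m hm, hr'] at hd
    norm_num at hd
  have hfix : A.φ r none = none := by
    -- the orbit of infinity stays among the two fixed points of the doubling
    have hmem : ∀ n : ℕ, A.φ (r ^ n) none = none ∨ A.φ (r ^ n) none = some 0 := by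
      intro n
      have h := congrArg (fun g => A.φ g none)
        (show m ^ (k % 11) ^ n * r ^ n = r ^ n * m by rw [← hconj n]; group)
      simp only [map_mul, map_pow, hμ, Equiv.Perm.mul_apply, ext_none] at h
      rw [← map_pow, ← map_pow] at h
      rcases hy : (A.φ (r ^ n)) none with _ | y
      · exact Or.inl rfl
      · right
        rw [hy, ext_some, mu23_pow] at h
        have h' := Option.some_injective _ h
        congr 1
        have hne : (2 : ZMod 23) ^ (k % 11) ^ n - 1 ≠ 0 := by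
          rw [sub_ne_zero]
          intro e
          have h2 : orderOf (2 : ZMod 23) = 11 := orderOf_eq_prime (by decide) (by decide)
          have h11 := orderOf_dvd_of_pow_eq_one e
          rw [h2] at h11
          have h0 : 11 ∣ k % 11 := (Fact.out : Nat.Prime 11).dvd_of_dvd_pow h11
          rw [Nat.eq_zero_of_dvd_of_lt h0 (Nat.mod_lt _ (by norm_num))] at hk5
          norm_num at hk5
        exact (mul_eq_zero.1 (show ((2 : ZMod 23) ^ (k % 11) ^ n - 1) * y = 0 by
          linear_combination h')).resolve_left hne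
    by_contra hne
    have hr5 : r ^ 5 = 1 := hr' ▸ pow_orderOf_eq_one r
    have h1 : A.φ r none = some 0 := by
      have := hmem 1
      rw [pow_one] at this
      exact this.resolve_left hne
    have h2 : A.φ (r ^ 2) none = none := (hmem 2).resolve_right fun h => by
      rw [pow_two, map_mul, Equiv.Perm.mul_apply, h1, ← h1] at h
      exact hne ((A.φ r).injective h)
    apply hne
    have h4 : A.φ (r ^ 4) none = none := by
      rw [show r ^ 4 = r ^ 2 * r ^ 2 by rw [← pow_add], map_mul, Equiv.Perm.mul_apply, h2, h2]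
    calc A.φ r none = A.φ r (A.φ (r ^ 4) none) := by rw [h4]
      _ = none := by rw [← Equiv.Perm.mul_apply, ← map_mul, ← pow_succ', hr5, map_one]; rfl
  obtain ⟨n, hn⟩ := Fg24.M23.five_log ⟨k % 11, Nat.mod_lt _ (by norm_num)⟩ hk5 hk1
  obtain ⟨q, hq⟩ := exists_restrict _ hfix
  have hrel : r ^ (n : ℕ) * m = m ^ 3 * r ^ (n : ℕ) := by
    have h := hconj (n : ℕ)
    rw [← mul_inv_eq_iff_eq_mul, h, ← pow_mod_orderOf, hm]
    exact congrArg (m ^ ·) hn
  obtain ⟨g, hg⟩ : ∃ g : ZMod 23 → ZMod 23, g = ⇑(q ^ (n : ℕ)) := ⟨_, rfl⟩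
  have h8 : ∀ x, g (2 * x) = 8 * g x := fun x => by
    have h := congrArg A.φ hrel
    rw [map_mul, map_mul, map_pow, map_pow, hμ, hq, ← map_pow, ← map_pow, ← map_mul,
      ← map_mul] at h
    have h' := Equiv.ext_iff.1 (ext_injective h) x
    simp only [Equiv.Perm.mul_apply, mu23_pow] at h'
    rw [hg]
    norm_num at h'
    exact h'
  have hinj : Function.Injective g := by rw [hg]; exact Equiv.injective _
  have h0 : g 0 = 0 := by
    have h := h8 0
    rw [mul_zero] at h
    exact (mul_eq_zero.1 (show (7 : ZMod 23) * g 0 = 0 by linear_combination -h)).resolve_left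
      (by decide)
  have h5 : g^[5] 1 = 1 := by
    have hq5 : q ^ 5 = 1 := ext_injective (by
      rw [map_pow, ← hq, ← map_pow, ← hr', pow_orderOf_eq_one, map_one, map_one])
    rw [hg, ← Equiv.Perm.coe_pow, ← pow_mul, mul_comm, pow_mul, hq5, one_pow]
    rfl
  obtain ⟨j, hj⟩ := Fg24.M23.exists_scale h0 h8 hinj h5
  obtain ⟨g', hg'⟩ : ∃ g' : ZMod 23 → ZMod 23, g' = fun x => 2 ^ j * g x := ⟨_, rfl⟩
  have hne : (2 : ZMod 23) ^ j ≠ 0 := pow_ne_zero _ (by decide)
  obtain ⟨hc, hfun⟩ := Fg24.M23.eq_tauFun (g := g') (by simp [hg', h0])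
    (fun x => by simp only [hg', h8]; ring)
    (fun a b hab => hinj (mul_left_cancel₀ hne (by simpa [hg'] using hab)))
    (by simp [hg', hj])
  refine ⟨m ^ j * r ^ (n : ℕ), mu23 ^ j * q ^ (n : ℕ), _, hσ, hμ, ?_, hc, ?_⟩
  · rw [map_mul, map_pow, map_pow, hμ, hq, map_mul, map_pow, map_pow]
  · rw [← hfun, hg', hg]
    funext x
    rw [Equiv.Perm.mul_apply, mu23_pow]

/-- The orders of the elements divide the order of the group. -/
theorem kill_word {A : Act G} {w : G} {q : Equiv.Perm (ZMod 23)} (hq : A.φ w = ext q)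
    {f : ZMod 23 → ZMod 23} (hw : ⇑q = f) (o g : ℕ) (hgcd : Nat.gcd o ord = g)
    (h1 : ∀ x, ∃ d : Fin 24, (d : ℕ) ∣ o ∧ f^[d] x = x) (h2 : ∃ x, f^[g] x ≠ x) : False := by
  have hqo : q ^ o = 1 := Equiv.ext fun x => by
    rw [Equiv.Perm.coe_pow, hw]
    obtain ⟨d, ⟨k, hk⟩, hd⟩ := h1 x
    rw [hk, Function.iterate_mul, Function.iterate_fixed hd]
    rfl
  have hdvd : orderOf q ∣ g := by
    refine hgcd ▸ Nat.dvd_gcd (orderOf_dvd_of_pow_eq_one hqo) ?_
    rw [← orderOf_injective ext ext_injective, ← hq, orderOf_injective _ A.inj, ← hF.card]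
    exact orderOf_dvd_natCard w
  obtain ⟨x, hx⟩ := h2
  refine hx ?_
  rw [← hw, ← Equiv.Perm.coe_pow, orderOf_dvd_iff_pow_eq_one.1 hdvd]
  rfl

/-- The three generators fixing infinity. -/
theorem exists_three : ∃ (A : Act G) (s m t : G),
    A.φ s = ext sigma23 ∧ A.φ m = ext mu23 ∧ A.φ t = ext tau23 := by
  classical
  obtain ⟨A, s, m, t, q, c, hσ, hμ, ht, hc, hqc⟩ := exists_tau hF
  have hw : ∀ i j : ℕ, A.φ (s ^ i * t ^ j) = ext (sigma23 ^ i * q ^ j) ∧
      ⇑(sigma23 ^ i * q ^ j) = fun x => (tauFun c)^[j] x + (i : ZMod 23) := by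
    intro i j
    refine ⟨by rw [map_mul, map_pow, map_pow, hσ, ht, map_mul, map_pow, map_pow], funext fun x => ?_⟩
    rw [Equiv.Perm.mul_apply, sigma23_pow, Equiv.Perm.coe_pow, hqc]
  have key : c = 2 ∨ c = 12 := by
    rcases Fg24.M23.tau_cases c hc with rfl | rfl | rfl | rfl | rfl | rfl | rfl | rfl | rfl | rfl | rfl
    · exact (kill_word hF (hw 4 2).1 (hw 4 2).2 156 12 (by norm_num [ord]) (by decide +kernel) (by decide +kernel)).elim
    · exact Or.inl rfl
    · exact (kill_word hF (hw 4 3).1 (hw 4 3).2 19 1 (by norm_num [ord]) (by decide +kernel) (by decide +kernel)).elim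
    · exact (kill_word hF (hw 3 1).1 (hw 3 1).2 38 2 (by norm_num [ord]) (by decide +kernel) (by decide +kernel)).elim
    · exact (kill_word hF (hw 1 1).1 (hw 1 1).2 57 3 (by norm_num [ord]) (by decide +kernel) (by decide +kernel)).elim
    · exact (kill_word hF (hw 1 2).1 (hw 1 2).2 65 5 (by norm_num [ord]) (by decide +kernel) (by decide +kernel)).elim
    · exact (kill_word hF (hw 3 3).1 (hw 3 3).2 65 5 (by norm_num [ord]) (by decide +kernel) (by decide +kernel)).elim
    · exact (kill_word hF (hw 4 1).1 (hw 4 1).2 57 3 (by norm_num [ord]) (by decide +kernel) (by decide +kernel)).elim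
    · exact (kill_word hF (hw 4 2).1 (hw 4 2).2 273 21 (by norm_num [ord]) (by decide +kernel) (by decide +kernel)).elim
    · exact (kill_word hF (hw 3 2).1 (hw 3 2).2 57 3 (by norm_num [ord]) (by decide +kernel) (by decide +kernel)).elim
    · exact Or.inr rfl
  rcases key with rfl | rfl
  · exact ⟨A, s, m, t, hσ, hμ, ht.trans (congrArg ext (DFunLike.coe_injective hqc))⟩
  refine ⟨A.conjBy (Equiv.neg (ZMod 23)), s⁻¹, m, m * t, ?_, ?_, ?_⟩
  all_goals show ext (Equiv.neg (ZMod 23)) * A.φ _ * (ext (Equiv.neg (ZMod 23)))⁻¹ = _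
  · rw [map_inv, hσ, ← map_inv, ← map_inv, ← map_mul, ← map_mul]
    refine congrArg ext (Equiv.ext fun x => ?_)
    rw [Equiv.Perm.inv_def sigma23]
    show -(-x - 1) = x + 1
    ring
  · rw [hμ, ← map_inv, ← map_mul, ← map_mul]
    refine congrArg ext (Equiv.ext fun x => ?_)
    show -(2 * -x) = 2 * x
    ring
  · rw [map_mul, hμ, ht, ← map_mul, ← map_inv, ← map_mul, ← map_mul]
    refine congrArg ext (Equiv.ext fun x => ?_)
    show -(2 * q (-x)) = tauFun 2 x
    rw [hqc, ← Fg24.M23.tau_mirror x]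
    ring

/-- A subgroup containing the three generators has order `10200960` or is everything. -/
theorem card_contains {A : Act G} {s m t : G} (hσ : A.φ s = ext sigma23)
    (hμ : A.φ m = ext mu23) (hτ : A.φ t = ext tau23) (L : Subgroup G)
    (hsL : s ∈ L) (hmL : m ∈ L) (htL : t ∈ L) :
    Nat.card L = 10200960 ∨ L = ⊤ := by
  classical
  have hs := orderOf_of_sigma hF hσ
  have hm := orderOf_of_mu hμ
  have ht : orderOf t = 5 := by
    rw [← orderOf_injective _ A.inj, hτ, orderOf_injective _ ext_injective]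
    exact orderOf_eq_prime (Equiv.ext (by decide +kernel))
      fun h => absurd (Equiv.ext_iff.1 h (-1)) (by decide +kernel)
  have hrel : ∀ {a b : G} {p q : Equiv.Perm (ZMod 23)} (k : ℕ), A.φ a = ext p → A.φ b = ext q →
      p * q * p⁻¹ = q ^ k → a ∈ normalizer ((zpowers b : Subgroup G) : Set G) := by
    intro a b p q k ha hb h
    refine mem_normalizer_fintype fun n hn => ?_
    obtain ⟨i, rfl⟩ := hn
    have e : a * b * a⁻¹ = b ^ k := A.inj (by
      rw [map_mul, map_mul, map_inv, map_pow, ha, hb, ← map_inv, ← map_mul, ← map_mul, h, map_pow])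
    show a * b ^ i * a⁻¹ ∈ zpowers b
    rw [← conj_zpow, e]
    exact zpow_mem (pow_mem (mem_zpowers b) k) i
  have hms : m ∈ normalizer ((zpowers s : Subgroup G) : Set G) := hrel 2 hμ hσ
    (mul_inv_eq_iff_eq_mul.2 (Equiv.ext fun x => by
      simp only [Equiv.Perm.mul_apply, sigma23_pow]
      show 2 * (x + 1) = 2 * x + (2 : ℕ)
      push_cast
      ring))
  have htm : t ∈ normalizer ((zpowers m : Subgroup G) : Set G) := hrel 3 hτ hμ
    (mul_inv_eq_iff_eq_mul.2 (Equiv.ext fun x => by
      simp only [Equiv.Perm.mul_apply, mu23_pow]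
      exact Fg24.M23.tau23_relation x))
  set N := normalizer ((zpowers s : Subgroup G) : Set G) with hNdef
  set M := normalizer ((zpowers m : Subgroup G) : Set G) with hMdef
  have hNL : N ≤ L := by
    have hle : zpowers m ⊔ zpowers s ≤ N := sup_le (zpowers_le.2 hms) Subgroup.le_normalizer
    have e := Subgroup.eq_of_le_of_card_ge hle (by
      rw [hF.norm_twentythree s hs, card_join_coprime (zpowers_le.2 hms)
        (by rw [Nat.card_zpowers, Nat.card_zpowers, hm, hs]; norm_num), Nat.card_zpowers,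
        Nat.card_zpowers, hm, hs])
    rw [← e]
    exact sup_le (zpowers_le.2 hmL) (zpowers_le.2 hsL)
  have hKc : Nat.card ↥(zpowers t ⊔ zpowers m) = 55 := by
    rw [card_join_coprime (zpowers_le.2 htm)
      (by rw [Nat.card_zpowers, Nat.card_zpowers, hm, ht]; norm_num), Nat.card_zpowers,
      Nat.card_zpowers, hm, ht]
  have hfac : ∀ {q m : ℕ}, q.Prime → ¬ q ∣ m → q * m = ord → (Nat.card G).factorization q = 1 :=
    fun hq hm he => by rw [hF.card]; exact factorization_ord hq hm he
  obtain ⟨k, hk, hkc⟩ := count_in (H := L)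
    (hfac (m := 10644480) (by norm_num : Nat.Prime 23) (by norm_num) (by norm_num [ord])) hs hsL
  rw [show (normalizer ((zpowers s : Subgroup G) : Set G) ⊓ L : Subgroup G) = N from
    inf_eq_left.2 hNL, hF.norm_twentythree s hs] at hkc
  obtain ⟨l, hl, hlc⟩ := count_in (H := L)
    (hfac (m := 22256640) (by norm_num : Nat.Prime 11) (by norm_num) (by norm_num [ord])) hm hmL
  change Nat.card ↥(M ⊓ L : Subgroup G) * l = Nat.card L at hlc
  have hq1 : Nat.card ↥(M ⊓ L : Subgroup G) ∣ 110 :=
    hF.norm_eleven m hm ▸ Subgroup.card_dvd_of_le inf_le_left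
  have hq2 : 55 ∣ Nat.card ↥(M ⊓ L : Subgroup G) :=
    hKc ▸ Subgroup.card_dvd_of_le (le_inf (sup_le (zpowers_le.2 htm) Subgroup.le_normalizer)
      (sup_le (zpowers_le.2 htL) (zpowers_le.2 hmL)))
  have hO : Nat.card G = 244823040 := hF.card
  have hLd : Nat.card L ∣ 244823040 := hO ▸ Subgroup.card_subgroup_dvd_card L
  have hdvd : k ∣ 967680 := by
    rw [← hkc, show 244823040 = 253 * 967680 by norm_num] at hLd
    exact Nat.dvd_of_mul_dvd_mul_left (by norm_num) hLd
  have hle' := Nat.le_of_dvd (by norm_num) hdvd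
  obtain ⟨j, rfl⟩ : ∃ j, k = 23 * j + 1 := ⟨k / 23, by omega⟩
  have hs' := List.all_eq_true.1 search_index j (List.mem_range.2 (show j < 42074 by omega))
  simp only [Nat.mod_eq_zero_of_dvd hdvd, bne_self_eq_false, Bool.false_or] at hs'
  obtain ⟨e, he⟩ := hq2
  have he2 : e = 1 ∨ e = 2 := by
    rw [he] at hq1
    exact (Nat.dvd_prime Nat.prime_two).1 (Nat.dvd_of_mul_dvd_mul_left (show 0 < 55 by norm_num)
      (show 55 * e ∣ 55 * 2 from hq1))
  have hm' : (23 * j + 1) % 5 = 0 ∧ (23 * (23 * j + 1) / 5 % 11 = 1 ∨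
      ((23 * j + 1) % 10 = 0 ∧ 23 * (23 * j + 1) / 10 % 11 = 1)) := by
    rw [he, ← hkc] at hlc
    rcases he2 with rfl | rfl
    · refine ⟨by omega, Or.inl ?_⟩
      rw [show 23 * (23 * j + 1) / 5 = l by omega]; exact hl
    · refine ⟨by omega, Or.inr ⟨by omega, ?_⟩⟩
      rw [show 23 * (23 * j + 1) / 10 = l by omega]; exact hl
  have hcases : 23 * j + 1 = 40320 ∨ 23 * j + 1 = 967680 := by
    rcases hm'.2 with h' | ⟨h', h''⟩
    · simpa [hm'.1, h'] using hs'
    · simpa [hm'.1, h', h''] using hs'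
  rcases hcases with h | h <;> rw [h] at hkc
  · exact Or.inl (by omega)
  · exact Or.inr (Subgroup.eq_top_of_card_eq L (by rw [hO]; omega))

/-- The four generators. -/
theorem exists_four : ∃ (A : Act G) (s m t r : G), A.φ s = ext sigma23 ∧ A.φ m = ext mu23 ∧
    A.φ t = ext tau23 ∧ A.φ r = recip := by
  classical
  have := hF.simple
  obtain ⟨A, s, m, t, hσ, hμ, hτ⟩ := exists_three hF
  have hm := orderOf_of_mu hμ
  have hN := hF.norm_eleven m hm
  haveI : Fact (Nat.Prime 2) := ⟨Nat.prime_two⟩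
  obtain ⟨⟨r, hr⟩, hr'⟩ := exists_prime_orderOf_dvd_card'
    (G := normalizer ((zpowers m : Subgroup G) : Set G)) 2 (by rw [hN]; norm_num)
  rw [Subgroup.orderOf_mk] at hr'
  obtain ⟨k, hk⟩ : ∃ k : ℕ, m ^ k = r * m * r⁻¹ :=
    mem_powers_iff_mem_zpowers.2 ((mem_normalizer_iff.1 hr m).1 (mem_zpowers m))
  have hrr : r * r = 1 := by rw [← pow_two, ← hr', pow_orderOf_eq_one]
  have hri : r⁻¹ = r := inv_eq_of_mul_eq_one_right hrr
  have hkk : (k % 11) * (k % 11) % 11 = 1 := by
    have h : m ^ (k * k) = m ^ 1 := by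
      rw [pow_mul, hk, conj_pow, hk, pow_one]
      calc r * (r * m * r⁻¹) * r⁻¹ = (r * r) * m * (r * r)⁻¹ := by group
        _ = m := by rw [hrr]; group
    rw [pow_eq_pow_iff_modEq, hm] at h
    rw [← Nat.mul_mod]
    exact h
  have hk10 : k % 11 = 10 := by
    have hlt : k % 11 < 11 := Nat.mod_lt _ (by norm_num)
    have : k % 11 = 1 ∨ k % 11 = 10 := by
      interval_cases h : k % 11 <;> first | omega | simp_all
    refine this.resolve_left fun h1 => ?_
    have hc : r * m * r⁻¹ = m := by rw [← hk, ← pow_mod_orderOf, hm, h1, pow_one]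
    have hd := Subgroup.orderOf_dvd_natCard (Subgroup.centralizer ({m} : Set G)) (x := r)
      (Subgroup.mem_centralizer_singleton_iff.2 (mul_inv_eq_iff_eq_mul.1 hc))
    rw [hF.cent_eleven m hm, hr'] at hd
    norm_num at hd
  have hmr : m * r * m = r := by
    have h : r * m * r⁻¹ = m ^ 10 := by rw [← hk, ← pow_mod_orderOf, hm, hk10]
    have h11 : m * m ^ 10 = 1 := by
      rw [← pow_succ']
      show m ^ 11 = 1
      rw [← hm, pow_orderOf_eq_one]
    calc m * r * m = m * (r * m * r⁻¹) * r := by group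
      _ = r := by rw [h, h11, one_mul]
  set R := A.φ r with hR
  have hR2 : ∀ p, R (R p) = p := fun p => by
    rw [← Equiv.Perm.mul_apply, hR, ← map_mul, hrr, map_one]; rfl
  have hRμ : ∀ p, ext mu23 (R (ext mu23 p)) = R p := fun p => by
    rw [← hμ, ← Equiv.Perm.mul_apply, ← Equiv.Perm.mul_apply, hR, ← map_mul, ← map_mul, hmr]
  have hRn : R none = some 0 := by
    refine (double_fixed _ ((congrArg (ext mu23) (congrArg R (ext_none mu23).symm)).trans (hRμ none))).resolve_left
      fun hfix => ?_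
    -- otherwise the involution would lie in the stabilizer
    let S : Subgroup G := (MulAction.stabilizer (Equiv.Perm Pt) (none : Pt)).comap A.φ
    have hS : ∀ g, g ∈ S ↔ A.φ g none = none := fun g => Iff.rfl
    have hsS : s ∈ S := (hS s).2 (by rw [hσ, ext_none])
    have hmS : m ∈ S := (hS m).2 (by rw [hμ, ext_none])
    have htS : t ∈ S := (hS t).2 (by rw [hτ, ext_none])
    rcases card_contains hF hσ hμ hτ S hsS hmS htS with hc | hc
    · obtain ⟨l, hl, hlc⟩ := count_in (H := S) (p := 11)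
        (by rw [hF.card]; exact factorization_ord (m := 22256640) (by norm_num) (by norm_num) (by norm_num [ord]))
        hm hmS
      set J : Subgroup G := normalizer ((zpowers m : Subgroup G) : Set G) ⊓ S with hJ
      have h1 : Nat.card J ∣ 110 := hN ▸ Subgroup.card_dvd_of_le inf_le_left
      have h2 : 2 ∣ Nat.card J := hr' ▸ Subgroup.orderOf_dvd_natCard J ⟨hr, (hS r).2 hfix⟩
      have h3 : 11 ∣ Nat.card J := hm ▸
        Subgroup.orderOf_dvd_natCard J ⟨Subgroup.le_normalizer (mem_zpowers m), hmS⟩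
      change Nat.card J * l = Nat.card S at hlc
      rw [hc] at hlc
      have hle := Nat.le_of_dvd (by norm_num) h1
      obtain ⟨e, he⟩ : 22 ∣ Nat.card J :=
        (by norm_num : Nat.Coprime 2 11).mul_dvd_of_dvd_of_dvd h2 h3
      rw [he] at h1 hlc hle
      have he5 : e = 1 ∨ e = 5 := (Nat.dvd_prime Nat.prime_five).1
        (Nat.dvd_of_mul_dvd_mul_left (show 0 < 22 by norm_num) (show 22 * e ∣ 22 * 5 from h1))
      rcases he5 with rfl | rfl <;> omega
    · obtain ⟨g, hg⟩ := A.trans (some 0)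
      have := (hS g).1 (hc ▸ Subgroup.mem_top g)
      rw [hg] at this
      simp at this
  have hR0 : R (some 0) = none := by rw [← hRn, hR2]
  have hsome : ∀ x : ZMod 23, x ≠ 0 → ∃ y, y ≠ 0 ∧ R (some x) = some y := by
    intro x hx
    rcases hy : R (some x) with _ | y
    · exact absurd (Option.some_injective _ (R.injective (hy.trans hR0.symm))) hx
    · refine ⟨y, fun e => ?_, rfl⟩
      rw [e, ← hRn] at hy
      simp at hy
  choose f hf0 hf using hsome
  -- normalise the value at one
  obtain ⟨j, hj⟩ := unit_scale (f 1 one_ne_zero) (hf0 1 one_ne_zero)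
  let F : ZMod 23 → ZMod 23 := fun x => if h : x = 0 then 0 else 2 ^ (j : ℕ) * f x h
  set r' := m ^ (j : ℕ) * r with hr'def
  set R' := A.φ r' with hR'
  have h2j : (2 : ZMod 23) ^ (j : ℕ) ≠ 0 := pow_ne_zero _ (by decide)
  have hR'some : ∀ x : ZMod 23, x ≠ 0 → R' (some x) = some (F x) := fun x hx => by
    rw [hR', hr'def, map_mul, map_pow, hμ, ← map_pow, Equiv.Perm.mul_apply, ← hR, hf x hx, ext_some,
      mu23_pow]
    simp [F, hx]
  have hF0 : ∀ x, x ≠ 0 → F x ≠ 0 := fun x hx => by
    simp only [F, dif_neg hx]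
    exact mul_ne_zero h2j (hf0 x hx)
  have hcm : ∀ i : ℕ, m ^ i * r * m ^ i = r := by
    intro i
    induction i with
    | zero => simp
    | succ i ih =>
      calc m ^ (i + 1) * r * m ^ (i + 1) = (m ^ i * m) * r * (m * m ^ i) := by
            rw [← pow_succ, ← pow_succ']
        _ = m ^ i * (m * r * m) * m ^ i := by group
        _ = r := by rw [hmr, ih]
  have hr'r : r' * r' = 1 := by
    calc r' * r' = (m ^ (j : ℕ) * r * m ^ (j : ℕ)) * r := by rw [hr'def]; group
      _ = 1 := by rw [hcm, hrr]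
  have hR'2 : ∀ p, R' (R' p) = p := fun p => by
    rw [← Equiv.Perm.mul_apply, hR', ← map_mul, hr'r, map_one]; rfl
  have hmr' : m * r' * m = r' := by
    calc m * r' * m = m ^ (j : ℕ) * (m * r * m) := by
          rw [hr'def, ← mul_assoc m, ← pow_succ', pow_succ]; group
      _ = r' := by rw [hmr, hr'def]
  have hne2 : ∀ x : ZMod 23, x ≠ 0 → 2 * x ≠ 0 := fun x hx => mul_ne_zero (by decide) hx
  have hlaw : ∀ x, x ≠ 0 → 2 * F (2 * x) = F x := fun x hx => by
    have h : ext mu23 (R' (ext mu23 (some x))) = R' (some x) := by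
      rw [← hμ, ← Equiv.Perm.mul_apply, ← Equiv.Perm.mul_apply, hR', ← map_mul, ← map_mul,
        hmr']
    rw [ext_some] at h
    change ext mu23 (R' (some (2 * x))) = _ at h
    rw [hR'some _ (hne2 x hx), hR'some x hx, ext_some] at h
    exact Option.some_injective _ h
  have hFF : ∀ x, x ≠ 0 → F (F x) = x := fun x hx => by
    have h := hR'2 (some x)
    rw [hR'some x hx, hR'some _ (hF0 x hx)] at h
    exact Option.some_injective _ h
  have hR'n : R' none = some 0 := by
    rw [hR', hr'def, map_mul, Equiv.Perm.mul_apply, ← hR, hRn, map_pow, hμ, ← map_pow, ext_some,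
      mu23_pow, mul_zero]
  have hR'0 : R' (some 0) = none := by rw [← hR'n, hR'2]
  have h1 : F 1 = 1 ∨ F 1 = -1 := by
    simp only [F, dif_neg one_ne_zero]
    exact hj
  rcases recip_unique hlaw (fun x y hx hy h => by rw [← hFF x hx, h, hFF y hy]) hF0 hFF h1 with
    ⟨i, hi⟩ | hi
  · exfalso
    have hRc : R' = cand i := Equiv.ext fun p => by
      rcases p with _ | x
      · exact hR'n
      · by_cases hx : x = 0
        · subst hx
          exact hR'0
        · rw [hR'some x hx, hi x hx]
          rfl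
    let χ : G →* ℤˣ := Equiv.Perm.sign.comp A.φ
    have hker : χ.ker = ⊤ := by
      refine (IsSimpleGroup.eq_bot_or_eq_top_of_normal _ inferInstance).resolve_left fun hb => ?_
      have hinj := (MonoidHom.ker_eq_bot_iff χ).1 hb
      have hle := Nat.card_le_card_of_injective _ hinj
      rw [hF.card, Nat.card_eq_fintype_card, Fintype.card_units_int] at hle
      norm_num [ord] at hle
    have h := MonoidHom.mem_ker.1 (hker ▸ Subgroup.mem_top r' : r' ∈ χ.ker)
    change Equiv.Perm.sign R' = 1 at h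
    rw [hRc, sign_cand] at h
    exact absurd h (by decide)
  · refine ⟨A, s, m, t, r', hσ, hμ, hτ, Equiv.ext fun p => ?_⟩
    rcases p with _ | x
    · exact hR'n
    · by_cases hx : x = 0
      · subst hx
        exact hR'0
      · change R' (some x) = _
        rw [hR'some x hx, hi x hx]
        rfl

/-- The image in normal form. -/
theorem normal_form : ∃ φ : G →* Equiv.Perm Pt, Function.Injective φ ∧
    φ.range = Subgroup.closure gens := by
  classical
  obtain ⟨A, s, m, t, r, hσ, hμ, hτ, hr⟩ := exists_four hF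
  refine ⟨A.φ, A.inj, ?_⟩
  set L₀ : Subgroup G := Subgroup.closure {s, m, t}
  set L : Subgroup G := Subgroup.closure {s, m, t, r}
  have hfix : L₀ ≤ (MulAction.stabilizer (Equiv.Perm Pt) (none : Pt)).comap A.φ := by
    rw [Subgroup.closure_le]
    rintro g (rfl | rfl | rfl)
    · show A.φ _ none = none; rw [hσ, ext_none]
    · show A.φ _ none = none; rw [hμ, ext_none]
    · show A.φ _ none = none; rw [hτ, ext_none]
  have hr0 : r ∉ L₀ := fun h => by
    have h' : A.φ r none = none := hfix h
    rw [hr] at h'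
    change some (0 : ZMod 23) = none at h'
    simp at h'
  have hle : L₀ ≤ L := Subgroup.closure_mono (by
    rintro g (rfl | rfl | rfl) <;> simp)
  have hL0 : Nat.card L₀ = 10200960 := by
    refine (card_contains hF hσ hμ hτ L₀ (Subgroup.subset_closure (by simp))
      (Subgroup.subset_closure (by simp)) (Subgroup.subset_closure (by simp))).resolve_right fun h => ?_
    exact hr0 (h ▸ Subgroup.mem_top r)
  have htop : L = ⊤ := by
    refine (card_contains hF hσ hμ hτ L (Subgroup.subset_closure (by simp))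
      (Subgroup.subset_closure (by simp)) (Subgroup.subset_closure (by simp))).resolve_left fun h => ?_
    have := Subgroup.eq_of_le_of_card_ge hle (by rw [h, hL0])
    exact hr0 (this ▸ Subgroup.subset_closure (by simp))
  rw [MonoidHom.range_eq_map, ← htop, MonoidHom.map_closure, Set.image_insert_eq,
    Set.image_insert_eq, Set.image_insert_eq, Set.image_singleton, hσ, hμ, hτ, hr]
  rfl

omit hF in
/-- Two groups with the local facts are isomorphic. -/
theorem unique_facts {K : Type v} [Group K] [Fintype K] (hG : Facts G) (hK : Facts K) :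
    Nonempty (G ≃* K) := by
  obtain ⟨φ, hφ, hφr⟩ := normal_form hG
  obtain ⟨ψ, hψ, hψr⟩ := normal_form hK
  exact ⟨((MonoidHom.ofInjective hφ).trans (MulEquiv.subgroupCongr (hφr.trans hψr.symm))).trans
    (MonoidHom.ofInjective hψ).symm⟩

end Cfsg.Agent.M24Nse
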