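import Cfsg.Agent.M24Nse.Facts
import Cfsg.Agent.Fg24.M23.Nse

/-!
# The local facts from the counts of element orders

The Sylow subgroups of orders 5, 7, 11 and 23 have prime order, so the count of each of these orders
determines the normalizer. Fixed-point congruences give the centralizers at 11 and 23 and simplicity.
The count of order `p * m` is the count of order `p` times the number of elements of order `m` in
the complement of `⟨x⟩` in its centralizer, which determines this complement at 5 and 7.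
-/

set_option autoImplicit false
set_option linter.unusedSectionVars false

namespace Cfsg.Agent.M24Nse

open Cfsg.Agent Subgroup

universe u

variable {G : Type u} [Group G] [Finite G]

section Prime

variable {p : ℕ} [hp : Fact p.Prime]

/-- A Sylow subgroup of prime order is generated by each of its elements of that order. -/
theorem exists_sylow_eq (hP : ∀ P : Sylow p G, Nat.card (P : Subgroup G) = p) {x : G}
    (hx : orderOf x = p) : ∃ P : Sylow p G, (P : Subgroup G) = zpowers x := by
  obtain ⟨P, hle⟩ := (IsPGroup.of_card (p := p) (n := 1)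
    (by rw [Nat.card_zpowers, hx, pow_one]) : IsPGroup p (zpowers x)).exists_le_sylow
  exact ⟨P, (eq_of_le_of_card_ge hle (by rw [hP, Nat.card_zpowers, hx])).symm⟩

theorem le_norm (x : G) :
    centralizer ({x} : Set G) ≤ normalizer ((zpowers x : Subgroup G) : Set G) := by
  rw [← centralizer_closure, ← zpowers_eq_closure]
  exact centralizer_le_normalizer _

theorem card_norm_mul (hP : ∀ P : Sylow p G, Nat.card (P : Subgroup G) = p) {x : G}
    (hx : orderOf x = p) :
    Nat.card (Sylow p G) * Nat.card (normalizer ((zpowers x : Subgroup G) : Set G)) = Nat.card G := by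
  obtain ⟨P, hPe⟩ := exists_sylow_eq hP hx
  rw [← hPe, Sylow.card_eq_index_normalizer P, mul_comm]
  exact card_mul_index _

/-- Elements of order `p` have conjugate centralizers. -/
theorem card_cent_order (hP : ∀ P : Sylow p G, Nat.card (P : Subgroup G) = p) {x y : G}
    (hx : orderOf x = p) (hy : orderOf y = p) (m : ℕ) :
    Nat.card {d : G // d ∈ centralizer ({x} : Set G) ∧ orderOf d = m} =
      Nat.card {d : G // d ∈ centralizer ({y} : Set G) ∧ orderOf d = m} := by
  obtain ⟨P, hPe⟩ := exists_sylow_eq hP hx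
  obtain ⟨Q, hQe⟩ := exists_sylow_eq hP hy
  obtain ⟨g, hg⟩ := MulAction.exists_smul_eq G P Q
  have hC : ∀ (z : G), centralizer ({z} : Set G) = centralizer ((zpowers z : Subgroup G) : Set G) := by
    intro z
    rw [zpowers_eq_closure, centralizer_closure]
  have hmap : (zpowers x).map (MulAut.conj g).toMonoidHom = zpowers y := by
    rw [← hPe, ← hQe, ← hg, Sylow.coe_subgroup_smul]
    rfl
  refine Nat.card_congr ((MulAut.conj g).toEquiv.subtypeEquiv fun d => ?_)
  rw [hC, hC]
  refine and_congr ?_ (by rw [MulEquiv.toEquiv_eq_coe, MulEquiv.coe_toEquiv, MulEquiv.orderOf_eq])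
  rw [mem_centralizer_iff, mem_centralizer_iff, ← hmap]
  constructor
  · rintro h w ⟨v, hv, rfl⟩
    show MulAut.conj g v * MulAut.conj g d = MulAut.conj g d * MulAut.conj g v
    rw [← map_mul, ← map_mul, h v hv]
  · intro h v hv
    apply (MulAut.conj g).injective
    rw [map_mul, map_mul]
    exact h _ ⟨v, hv, rfl⟩

/-- The elements of order `p * m` are products of commuting elements of orders `p` and `m`. -/
theorem count_mul (hP : ∀ P : Sylow p G, Nat.card (P : Subgroup G) = p) {g : G}
    (hg : orderOf g = p) {m : ℕ} (hm : p.Coprime m) :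
    Nat.card {y : G // orderOf y = p * m} = Nat.card {x : G // orderOf x = p} *
      Nat.card {d : G // d ∈ centralizer ({g} : Set G) ∧ orderOf d = m} := by
  classical
  obtain ⟨a, ha, ha'⟩ := Nat.chineseRemainder hm 1 0
  obtain ⟨b, hb, hb'⟩ := Nat.chineseRemainder hm 0 1
  have key : ∀ (x : G) (n k e : ℕ), orderOf x = n → k ≡ e [MOD n] → x ^ k = x ^ e := fun x n k e hn hk =>
    pow_eq_pow_iff_modEq.2 (hn ▸ hk)
  have hsum : a + b ≡ 1 [MOD p * m] :=
    (Nat.modEq_and_modEq_iff_modEq_mul hm).1 ⟨by simpa using ha.add hb, by simpa using ha'.add hb'⟩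
  let T := Σ x : {x : G // orderOf x = p}, {d : G // d ∈ centralizer ({x.1} : Set G) ∧ orderOf d = m}
  let F : T → {y : G // orderOf y = p * m} := fun t => ⟨t.1.1 * t.2.1, by
    have hc : Commute t.1.1 t.2.1 := (mem_centralizer_singleton_iff.1 t.2.2.1).symm
    rw [hc.orderOf_mul_eq_mul_orderOf_of_coprime (by rw [t.1.2, t.2.2.2]; exact hm), t.1.2, t.2.2.2]⟩
  have hF : Function.Bijective F := by
    constructor
    · rintro ⟨⟨x, hx⟩, d, hd, hdo⟩ ⟨⟨x', hx'⟩, d', hd', hdo'⟩ h
      have he : x * d = x' * d' := congrArg Subtype.val h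
      have h1 : ∀ (x d : G), orderOf x = p → orderOf d = m → d ∈ centralizer ({x} : Set G) →
          (x * d) ^ a = x := fun x d hx hdo hd => by
        rw [(show Commute x d from (mem_centralizer_singleton_iff.1 hd).symm).mul_pow,
          key x p a 1 hx ha, key d m a 0 hdo ha', pow_one, pow_zero, mul_one]
      obtain rfl : x = x' := by rw [← h1 x d hx hdo hd, he, h1 x' d' hx' hdo' hd']
      obtain rfl : d = d' := mul_left_cancel he
      rfl
    · rintro ⟨y, hy⟩
      have h1 : orderOf (y ^ a) = p := by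
        refine Nat.dvd_antisymm (orderOf_dvd_of_pow_eq_one ?_) ?_
        · rw [← pow_mul]
          refine orderOf_dvd_iff_pow_eq_one.1 (hy ▸ ?_)
          obtain ⟨c, rfl⟩ := Nat.modEq_zero_iff_dvd.1 ha'
          exact ⟨c, by ring⟩
        · have h := hy ▸ orderOf_dvd_of_pow_eq_one (show y ^ (a * orderOf (y ^ a)) = 1 by
            rw [pow_mul, pow_orderOf_eq_one])
          refine (Nat.Coprime.dvd_of_dvd_mul_left ?_ ((dvd_mul_right p m).trans h))
          rw [Nat.coprime_comm, Nat.Coprime, Nat.ModEq.gcd_eq ha, Nat.gcd_one_left]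
      have h2 : orderOf (y ^ b) = m := by
        refine Nat.dvd_antisymm (orderOf_dvd_of_pow_eq_one ?_) ?_
        · rw [← pow_mul]
          refine orderOf_dvd_iff_pow_eq_one.1 (hy ▸ ?_)
          obtain ⟨c, rfl⟩ := Nat.modEq_zero_iff_dvd.1 hb
          exact ⟨c, by ring⟩
        · have h := hy ▸ orderOf_dvd_of_pow_eq_one (show y ^ (b * orderOf (y ^ b)) = 1 by
            rw [pow_mul, pow_orderOf_eq_one])
          refine (Nat.Coprime.dvd_of_dvd_mul_left ?_ ((dvd_mul_left m p).trans h))
          rw [Nat.coprime_comm, Nat.Coprime, Nat.ModEq.gcd_eq hb', Nat.gcd_one_left]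
      refine ⟨⟨⟨y ^ a, h1⟩, y ^ b,
        mem_centralizer_singleton_iff.2 ((Commute.refl y).pow_pow b a).eq, h2⟩, Subtype.ext ?_⟩
      show y ^ a * y ^ b = y
      rw [← pow_add, key y _ _ 1 hy hsum, pow_one]
  have := Fintype.ofFinite {x : G // orderOf x = p}
  rw [← Nat.card_congr (Equiv.ofBijective F hF), Nat.card_sigma,
    Finset.sum_congr rfl fun x _ => card_cent_order hP x.2 hg m, Finset.sum_const, Finset.card_univ,
    smul_eq_mul, Nat.card_eq_fintype_card (α := {x : G // orderOf x = p})]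

/-- The complement of `⟨g⟩` in its centralizer. -/
theorem exists_compl (hP : ∀ P : Sylow p G, Nat.card (P : Subgroup G) = p) {g : G}
    (hg : orderOf g = p) : ∃ D : Subgroup G, D ≤ centralizer {g} ∧
      Nat.card (centralizer ({g} : Set G)) = p * Nat.card D ∧ ¬ p ∣ Nat.card D ∧
      ∀ d : G, d ∈ centralizer ({g} : Set G) → ¬ p ∣ orderOf d → d ∈ D := by
  set C := centralizer ({g} : Set G) with hC
  obtain ⟨P, hPe⟩ := exists_sylow_eq hP hg
  have hPC : (P : Subgroup G) ≤ C := by
    rw [hPe, zpowers_le]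
    exact mem_centralizer_singleton_iff.2 rfl
  let Q : Sylow p C := P.subtype hPC
  have hQ : (Q : Subgroup C) = (P : Subgroup G).subgroupOf C := rfl
  have hQc : normalizer ((Q : Subgroup C) : Set C) ≤ centralizer ((Q : Subgroup C) : Set C) := by
    intro c _
    refine mem_centralizer_iff.2 fun q hq => Subtype.ext ?_
    have hq' : (q : G) ∈ zpowers g := hPe ▸ (show (q : G) ∈ (P : Subgroup G) from hq)
    obtain ⟨k, hk⟩ := hq'
    show (q : G) * c = c * q
    rw [← hk]
    exact ((show Commute g c from (mem_centralizer_singleton_iff.1 c.2).symm).zpow_left k).eq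
  have hcompl := MonoidHom.ker_transferSylow_isComplement' Q hQc
  set K := (MonoidHom.transferSylow Q hQc).ker with hK
  have hQcard : Nat.card (Q : Subgroup C) = p := by
    rw [hQ, Nat.card_congr (subgroupOfEquivOfLe hPC).toEquiv, hP]
  have hcard := hcompl.card_mul
  rw [hQcard] at hcard
  have hidx : K.index = p := (hcompl.symm.index_eq_card).trans hQcard
  have hnd : ¬ p ∣ Nat.card K := by
    have h : ¬ p ∣ (Q : Subgroup C).index := Q.not_dvd_index
    rwa [hcompl.index_eq_card] at h
  refine ⟨K.map C.subtype, map_subtype_le K, ?_, ?_, fun d hd hdp => ?_⟩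
  · rw [card_map_of_injective C.subtype_injective, ← hcard, mul_comm]
  · rwa [card_map_of_injective C.subtype_injective]
  · refine ⟨⟨d, hd⟩, ?_, rfl⟩
    have h1 : orderOf ((⟨d, hd⟩ : C) : C ⧸ K) ∣ p :=
      (_root_.orderOf_dvd_natCard _).trans ((index_eq_card K).symm.trans hidx).dvd
    have h2 : orderOf ((⟨d, hd⟩ : C) : C ⧸ K) ∣ orderOf d :=
      (orderOf_map_dvd (QuotientGroup.mk' K) (⟨d, hd⟩ : C)).trans (orderOf_mk d hd).dvd
    rcases (Nat.dvd_prime hp.out).1 h1 with h | h
    · exact (QuotientGroup.eq_one_iff _).1 (orderOf_eq_one_iff.1 h)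
    · rw [h] at h2
      exact absurd h2 hdp

/-- The number of elements of an order in the complement is that in the centralizer. -/
theorem card_compl {g : G} {D : Subgroup G} (hle : D ≤ centralizer {g})
    (hall : ∀ d : G, d ∈ centralizer ({g} : Set G) → ¬ p ∣ orderOf d → d ∈ D) {m : ℕ} (hm : ¬ p ∣ m) :
    Nat.card {d : D // orderOf d = m} =
      Nat.card {d : G // d ∈ centralizer ({g} : Set G) ∧ orderOf d = m} :=
  Nat.card_congr {
    toFun := fun d => ⟨d.1, hle d.1.2, (orderOf_coe d.1).trans d.2⟩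
    invFun := fun d => ⟨⟨d.1, hall d.1 d.2.1 (by rw [d.2.2]; exact hm)⟩, (orderOf_mk _ _).trans d.2.2⟩
    left_inv := fun d => rfl
    right_inv := fun d => rfl }

/-- The product of `⟨g⟩` with the complement. -/
theorem exists_hom {g : G} (hg : orderOf g = p) {D : Subgroup G} (hle : D ≤ centralizer {g})
    (hc : Nat.card (centralizer ({g} : Set G)) = p * Nat.card D) (hpD : ¬ p ∣ Nat.card D)
    {K : Type} [Group K] (e : D ≃* K) :
    ∃ f : Multiplicative (ZMod p) × K →* G, Function.Injective f ∧ f (Multiplicative.ofAdd 1, 1) = g ∧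
      f.range = centralizer {f (Multiplicative.ofAdd 1, 1)} := by
  let f₁ : Multiplicative (ZMod p) →* G := AddMonoidHom.toMultiplicativeLeft
    (ZMod.lift p ⟨zmultiplesHom (Additive G) (Additive.ofMul g), by
      show (p : ℤ) • Additive.ofMul g = 0
      rw [natCast_zsmul, ← ofMul_pow, ← hg, pow_orderOf_eq_one, ofMul_one]⟩)
  have hf₁ : f₁ (Multiplicative.ofAdd 1) = g := by
    show Additive.toMul (ZMod.lift p _ (1 : ZMod p)) = g
    rw [show (1 : ZMod p) = ((1 : ℤ) : ZMod p) from Int.cast_one.symm, ZMod.lift_coe]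
    simp
  have hgen : ∀ a : Multiplicative (ZMod p), ∃ k : ℕ, a = Multiplicative.ofAdd 1 ^ k := fun a => by
    refine ⟨(Multiplicative.toAdd a).val, ?_⟩
    rw [← ofAdd_nsmul, nsmul_one, ZMod.natCast_zmod_val, ofAdd_toAdd]
  let f₂ : K →* G := D.subtype.comp e.symm.toMonoidHom
  have hcomm : ∀ a k, Commute (f₁ a) (f₂ k) := fun a k => by
    obtain ⟨j, rfl⟩ := hgen a
    rw [map_pow, hf₁]
    exact Commute.pow_left (mem_centralizer_singleton_iff.1 (hle (e.symm k).2)).symm j
  let f := f₁.noncommCoprod f₂ hcomm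
  have hfg : f (Multiplicative.ofAdd 1, 1) = g := by
    show f₁ _ * f₂ 1 = g
    rw [hf₁, map_one, mul_one]
  have hinj : Function.Injective f := by
    refine (injective_iff_map_eq_one f).2 fun x hx => ?_
    obtain ⟨j, hj⟩ := hgen x.1
    have h : g ^ j * ((e.symm x.2 : D) : G) = 1 := by
      rw [← hf₁, ← map_pow, ← hj]; exact hx
    have h1 : orderOf (g ^ j) ∣ p := (orderOf_pow_dvd j).trans hg.dvd
    have h2 : orderOf (g ^ j) ∣ Nat.card D := by
      rw [eq_inv_of_mul_eq_one_left h, orderOf_inv, orderOf_coe]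
      exact orderOf_dvd_natCard _
    have h3 : g ^ j = 1 := orderOf_eq_one_iff.1
      (Nat.eq_one_of_dvd_coprimes ((Nat.Prime.coprime_iff_not_dvd hp.out).2 hpD) h1 h2)
    rw [h3, one_mul] at h
    refine Prod.ext ?_ (e.symm.injective (by rw [Prod.snd_one, map_one]; exact Subtype.ext h))
    obtain ⟨c, rfl⟩ := hg ▸ orderOf_dvd_of_pow_eq_one h3
    rw [hj, pow_mul, ← ofAdd_nsmul, nsmul_one, ZMod.natCast_self, ofAdd_zero, one_pow, Prod.fst_one]
  refine ⟨f, hinj, hfg, ?_⟩
  rw [hfg]
  refine eq_of_le_of_card_ge ?_ ?_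
  · rintro _ ⟨x, rfl⟩
    obtain ⟨j, hj⟩ := hgen x.1
    refine mul_mem ?_ (hle (e.symm x.2).2)
    rw [hj, map_pow, hf₁]
    exact pow_mem (mem_centralizer_singleton_iff.2 rfl) j
  · rw [hc, ← Nat.card_congr (MonoidHom.ofInjective hinj).toEquiv, Nat.card_prod,
      ← Nat.card_congr e.toEquiv]
    have : Nat.card (Multiplicative (ZMod p)) = p :=
      (Nat.card_congr Multiplicative.toAdd).trans (Nat.card_zmod p)
    rw [this]

/-- The exponents of conjugation form a set of `[N : C]` residues closed under multiplication. -/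
theorem exists_exponents {g : G} (hg : orderOf g = p) :
    ∃ A : Finset ℕ, A ⊆ Finset.range p ∧
      A.card * Nat.card (centralizer ({g} : Set G)) =
        Nat.card (normalizer ((zpowers g : Subgroup G) : Set G)) ∧
      (∀ a ∈ A, ∀ b ∈ A, a * b % p ∈ A) ∧ ∀ a < p, (a ∈ A ↔ ∃ h : G, h * g * h⁻¹ = g ^ a) := by
  classical
  set N := normalizer ((zpowers g : Subgroup G) : Set G) with hN
  let A : Finset ℕ := (Finset.range p).filter fun a => ∃ h : G, h * g * h⁻¹ = g ^ a
  have hmemN : ∀ {h : G} {a : ℕ}, h * g * h⁻¹ = g ^ a → h ∈ N := by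
    intro h a e
    have hle : (zpowers g).map (MulAut.conj h).toMonoidHom ≤ zpowers g := by
      rw [MonoidHom.map_zpowers, zpowers_le]
      exact ⟨(a : ℤ), (zpow_natCast g a).trans e.symm⟩
    have heq := eq_of_le_of_card_ge hle (by rw [card_map_of_injective (MulAut.conj h).injective])
    refine mem_normalizer_iff.2 fun w => ⟨fun hw => hle ⟨w, hw, rfl⟩, fun hw => ?_⟩
    rw [← heq] at hw
    obtain ⟨v, hv, e⟩ := hw
    exact (MulAut.conj h).injective e ▸ hv
  letI : MulAction N G := MulAction.compHom G ((MulAut.conj : G →* MulAut G).comp N.subtype)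
  have horb : (MulAction.orbit N g) = (fun a => g ^ a) '' (A : Set ℕ) := by
    ext y
    constructor
    · rintro ⟨h, rfl⟩
      have hy : (h : G) * g * (h : G)⁻¹ ∈ zpowers g := (mem_normalizer_iff.1 h.2 g).1 (mem_zpowers g)
      rw [← mem_powers_iff_mem_zpowers, Submonoid.mem_powers_iff] at hy
      obtain ⟨j, hj⟩ := hy
      have e : g ^ (j % p) = g ^ j := by rw [← hg, pow_mod_orderOf]
      exact ⟨j % p, Finset.mem_filter.2 ⟨Finset.mem_range.2 (Nat.mod_lt _ hp.out.pos), h, (e.trans hj).symm⟩,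
        e.trans hj⟩
    · rintro ⟨a, ha, rfl⟩
      obtain ⟨h, e⟩ := (Finset.mem_filter.1 ha).2
      exact ⟨⟨h, hmemN e⟩, e⟩
  have hstab : Nat.card (MulAction.stabilizer N g) = Nat.card (centralizer ({g} : Set G)) := by
    have heq : MulAction.stabilizer N g = (centralizer ({g} : Set G)).subgroupOf N := by
      ext h
      rw [MulAction.mem_stabilizer_iff, mem_subgroupOf, mem_centralizer_singleton_iff]
      exact mul_inv_eq_iff_eq_mul
    rw [heq]
    exact Nat.card_congr (subgroupOfEquivOfLe (le_norm g)).toEquiv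
  refine ⟨A, Finset.filter_subset _ _, ?_, ?_, fun a ha => ?_⟩
  · rw [← hstab, ← Nat.card_congr (MulAction.orbitProdStabilizerEquivGroup N g), Nat.card_prod, horb,
      Nat.card_coe_set_eq, Set.ncard_image_of_injOn, Set.ncard_coe_finset]
    intro a ha b hb e
    have ha' := Finset.mem_range.1 (Finset.filter_subset _ _ ha)
    have hb' := Finset.mem_range.1 (Finset.filter_subset _ _ hb)
    have h := pow_eq_pow_iff_modEq.1 e
    rwa [hg, Nat.ModEq, Nat.mod_eq_of_lt ha', Nat.mod_eq_of_lt hb'] at h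
  · intro a ha b hb
    obtain ⟨h, eh⟩ := (Finset.mem_filter.1 ha).2
    obtain ⟨k, ek⟩ := (Finset.mem_filter.1 hb).2
    refine Finset.mem_filter.2 ⟨Finset.mem_range.2 (Nat.mod_lt _ hp.out.pos), k * h, ?_⟩
    rw [show k * h * g * (k * h)⁻¹ = k * (h * g * h⁻¹) * k⁻¹ by group, eh, ← conj_pow, ek, ← pow_mul,
      ← hg, mul_comm a b, pow_mod_orderOf]
  · exact ⟨fun h => (Finset.mem_filter.1 h).2, fun h => Finset.mem_filter.2 ⟨Finset.mem_range.2 ha, h⟩⟩

/-- In a simple group the centralizer is not the whole normalizer. -/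
theorem cent_ne_norm [IsSimpleGroup G] (hP : ∀ P : Sylow p G, Nat.card (P : Subgroup G) = p)
    (hne : Nat.card G ≠ p) {g : G} (hg : orderOf g = p) :
    Nat.card (centralizer ({g} : Set G)) ≠
      Nat.card (normalizer ((zpowers g : Subgroup G) : Set G)) := by
  intro h
  obtain ⟨P, hPe⟩ := exists_sylow_eq hP hg
  have hle : normalizer ((P : Subgroup G) : Set G) ≤ centralizer ((P : Subgroup G) : Set G) := by
    have e : centralizer ({g} : Set G) = normalizer ((zpowers g : Subgroup G) : Set G) :=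
      eq_of_le_of_card_ge (le_norm g) h.ge
    rw [hPe, ← e, zpowers_eq_closure, centralizer_closure]
  have hc := MonoidHom.ker_transferSylow_isComplement' P hle
  have hm := hc.card_mul
  rw [hP] at hm
  rcases (MonoidHom.transferSylow P hle).normal_ker.eq_bot_or_eq_top with e | e
  · rw [e, card_bot, one_mul] at hm
    exact hne hm.symm
  · rw [e, card_top] at hm
    have h1 : Nat.card G * p = Nat.card G * 1 := by rw [mul_one]; exact hm
    exact hp.out.ne_one (Nat.eq_of_mul_eq_mul_left Nat.card_pos h1)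

end Prime

/-- A group in which the Sylow subgroups are self-normalizing of prime order acts faithfully on them. -/
theorem exists_perm {D : Type u} [Group D] [Finite D] {q n : ℕ} [Fact q.Prime] (hn : 2 ≤ n)
    (hS : ∀ P : Sylow q D, Nat.card (P : Subgroup D) = q) (hcount : Nat.card (Sylow q D) = n)
    (hD : Nat.card D = n * q) : ∃ ψ : D →* Equiv.Perm (Fin n), Function.Injective ψ := by
  classical
  let e : Sylow q D ≃ Fin n := (Finite.equivFin (Sylow q D)).trans (finCongr hcount)
  refine ⟨(e.permCongrHom : Equiv.Perm (Sylow q D) →* Equiv.Perm (Fin n)).comp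
    (MulAction.toPermHom D (Sylow q D)), (injective_iff_map_eq_one _).2 fun d hd => ?_⟩
  have hfix : ∀ P : Sylow q D, d • P = P := fun P => by
    have h1 : e.permCongrHom (MulAction.toPermHom D (Sylow q D) d) = 1 := hd
    rw [map_eq_one_iff _ e.permCongrHom.injective] at h1
    exact Equiv.ext_iff.1 h1 P
  have hNP : ∀ P : Sylow q D, normalizer ((P : Subgroup D) : Set D) = P := fun P => by
    refine (eq_of_le_of_card_ge le_normalizer ?_).symm
    have h1 := card_mul_index (normalizer ((P : Subgroup D) : Set D))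
    have h2 : (normalizer ((P : Subgroup D) : Set D)).index = n :=
      (Sylow.card_eq_index_normalizer P).symm.trans hcount
    rw [h2, hD, mul_comm n q] at h1
    rw [hS, Nat.eq_of_mul_eq_mul_right (by omega) h1]
  obtain ⟨P, Q, hPQ⟩ : ∃ P Q : Sylow q D, P ≠ Q := by
    have : Nontrivial (Sylow q D) := Finite.one_lt_card_iff_nontrivial.1 (by omega)
    exact exists_pair_ne _
  have hmem : ∀ R : Sylow q D, d ∈ (R : Subgroup D) := fun R =>
    hNP R ▸ Sylow.smul_eq_iff_mem_normalizer.1 (hfix R)
  by_contra hd1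
  have hd' : orderOf d ∣ q := hS P ▸ Subgroup.orderOf_dvd_natCard _ (hmem P)
  have ho : orderOf d = q :=
    ((Nat.dvd_prime Fact.out).1 hd').resolve_left fun h => hd1 (orderOf_eq_one_iff.1 h)
  have hgen : ∀ R : Sylow q D, (R : Subgroup D) = zpowers d := fun R =>
    (eq_of_le_of_card_ge (zpowers_le.2 (hmem R)) (by rw [hS, Nat.card_zpowers, ho])).symm
  exact hPQ (Sylow.ext ((hgen P).trans (hgen Q).symm))

/-- Apart from orders one and two the count of each order is even. -/
theorem even_count {D : Type u} [Group D] [Finite D] {m : ℕ} (hm : 3 ≤ m) :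
    2 ∣ Nat.card {d : D // orderOf d = m} := by
  classical
  have := Fintype.ofFinite {d : D // orderOf d = m}
  rw [← ZMod.natCast_eq_zero_iff, Nat.card_eq_fintype_card, Fintype.card, Finset.card_eq_sum_ones,
    Nat.cast_sum]
  refine Finset.sum_involution (fun d _ => ⟨d.1⁻¹, by rw [orderOf_inv]; exact d.2⟩) (fun d _ => rfl)
    (fun d _ _ h => ?_) (fun d _ => Finset.mem_univ _) (fun d _ => Subtype.ext (inv_inv d.1))
  have h' : d.1 * d.1 = 1 := by
    conv_lhs => arg 1; rw [← congrArg Subtype.val h]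
    exact inv_mul_cancel d.1
  have := Nat.le_of_dvd (by norm_num)
    (orderOf_dvd_of_pow_eq_one (show d.1 ^ 2 = 1 by rw [pow_two]; exact h'))
  have := d.2
  omega

/-- A group of even order has an odd number of involutions. -/
theorem odd_two {t : G} (ht : orderOf t = 2) : Nat.card {x : G // orderOf x = 2} % 2 = 1 := by
  classical
  haveI : Fact (Nat.Prime 2) := ⟨Nat.prime_two⟩
  have h0 : 2 ∣ Nat.card {x : G // x * x = 1} := by
    have htt : t * t = 1 := by rw [← pow_two, ← ht, pow_orderOf_eq_one]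
    have hmod := Fg24.M23.fixed_mod ht {x : G | x * x = 1} (fun x => by
      show x * x = 1 ↔ t * x * t⁻¹ * (t * x * t⁻¹) = 1
      rw [show t * x * t⁻¹ * (t * x * t⁻¹) = t * (x * x) * t⁻¹ by group, conj_eq_one_iff])
    refine Nat.modEq_zero_iff_dvd.1 (hmod.trans (Nat.modEq_zero_iff_dvd.2 ?_))
    let S := {x : {x : G | x * x = 1} // t * (x : G) = x * t}
    have hS : ∀ x : S, (t * x.1.1) * (t * x.1.1) = 1 := fun x => by
      rw [x.2, show x.1.1 * t * (x.1.1 * t) = x.1.1 * (t * x.1.1) * t by simp only [mul_assoc], x.2,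
        show x.1.1 * (x.1.1 * t) * t = (x.1.1 * x.1.1) * (t * t) by simp only [mul_assoc],
        show x.1.1 * x.1.1 = 1 from x.1.2, htt, one_mul]
    have := Fintype.ofFinite S
    show 2 ∣ Nat.card S
    rw [← ZMod.natCast_eq_zero_iff, Nat.card_eq_fintype_card, Fintype.card, Finset.card_eq_sum_ones,
      Nat.cast_sum]
    refine Finset.sum_involution (fun x _ => (⟨⟨t * x.1.1, hS x⟩, ?_⟩ : S)) (fun x _ => rfl)
      (fun x _ _ h => ?_) (fun x _ => Finset.mem_univ _) (fun x _ => Subtype.ext (Subtype.ext ?_))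
    · show t * (t * x.1.1) = t * x.1.1 * t
      rw [mul_assoc, ← x.2]
    · have h1 : t * x.1.1 = x.1.1 := congrArg (fun s : S => s.1.1) h
      rw [mul_eq_right] at h1
      rw [h1, orderOf_one] at ht
      exact absurd ht (by norm_num)
    · show t * (t * x.1.1) = x.1.1
      rw [← mul_assoc, htt, one_mul]
  have hsplit : Nat.card {x : G // x * x = 1} = Nat.card {x : G // orderOf x = 2} + 1 := by
    have e : ({x : G | x * x = 1} : Set G) = insert 1 {x : G | orderOf x = 2} := by
      ext x
      constructor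
      · intro h
        by_cases h1 : x = 1
        · exact Or.inl h1
        · exact Or.inr (orderOf_eq_prime (by rw [pow_two]; exact h) h1)
      · rintro (rfl | h)
        · exact one_mul 1
        · show x * x = 1
          rw [← pow_two, ← (show orderOf x = 2 from h), pow_orderOf_eq_one]
    have e1 : Nat.card {x : G // x * x = 1} = ({x : G | x * x = 1} : Set G).ncard :=
      Nat.card_coe_set_eq _
    have e2 : Nat.card {x : G // orderOf x = 2} = ({x : G | orderOf x = 2} : Set G).ncard :=
      Nat.card_coe_set_eq _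
    rw [e1, e2, e, Set.ncard_insert_of_notMem (by simp)]
  omega

section Counts

local instance fact_five_nse : Fact (Nat.Prime 5) := ⟨by norm_num⟩
local instance fact_seven_nse : Fact (Nat.Prime 7) := ⟨by norm_num⟩
local instance fact_eleven_nse : Fact (Nat.Prime 11) := ⟨by norm_num⟩
local instance fact_twentythree_nse : Fact (Nat.Prime 23) := ⟨by norm_num⟩

variable (hG : Nat.card G = ord) (hc : ∀ n, Counts (Nat.card {g : G // orderOf g = n}))
include hG

theorem sylow_card {p : ℕ} [Fact p.Prime] (hp : p = 5 ∨ p = 7 ∨ p = 11 ∨ p = 23)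
    (P : Sylow p G) : Nat.card (P : Subgroup G) = p := by
  have h : ∀ m, ord = p * m → ¬ p ∣ m → Nat.card (P : Subgroup G) = p := fun m hm hpm => by
    simpa using SmallOrder.card_sylow_eq_pow (a := 1) (by rw [hG, hm, pow_one]) hpm P
  rcases hp with rfl | rfl | rfl | rfl
  · exact h 48964608 (by norm_num [ord]) (by norm_num)
  · exact h 34974720 (by norm_num [ord]) (by norm_num)
  · exact h 22256640 (by norm_num [ord]) (by norm_num)
  · exact h 10644480 (by norm_num [ord]) (by norm_num)

include hc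

/-- The four Sylow numbers. -/
theorem sylow_count {p : ℕ} [Fact p.Prime] (hp : p = 5 ∨ p = 7 ∨ p = 11 ∨ p = 23) :
    (p = 5 → Nat.card (Sylow p G) = 1020096) ∧ (p = 7 → Nat.card (Sylow p G) = 1943040) ∧
      (p = 11 → Nat.card (Sylow p G) = 2225664) ∧ (p = 23 → Nat.card (Sylow p G) = 967680) := by
  have hmod : Nat.card (Sylow p G) % p = 1 := SmallOrder.card_sylow_mod (G := G) p
  have h := hc p
  rw [SmallOrder.card_orderOf_eq_mul (sylow_card hG hp)] at h
  obtain ⟨P⟩ : Nonempty (Sylow p G) := inferInstance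
  have hd : Nat.card (Sylow p G) ∣ ord := by
    rw [Sylow.card_eq_index_normalizer P, ← hG]
    exact index_dvd_card _
  have hle := Nat.le_of_dvd (by norm_num [ord]) hd
  simp only [Counts, ord] at h hd hle
  rcases hp with rfl | rfl | rfl | rfl <;> refine ⟨?_, ?_, ?_, ?_⟩ <;> intro e <;> try omega
  all_goals
    rcases h with h | h | h | h | h | h | h | h | h | h | h | h <;> omega

theorem norm_card {p : ℕ} [Fact p.Prime] (hp : p = 5 ∨ p = 7 ∨ p = 11 ∨ p = 23) {g : G}
    (hg : orderOf g = p) :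
    (p = 5 → Nat.card (normalizer ((zpowers g : Subgroup G) : Set G)) = 240) ∧
    (p = 7 → Nat.card (normalizer ((zpowers g : Subgroup G) : Set G)) = 126) ∧
    (p = 11 → Nat.card (normalizer ((zpowers g : Subgroup G) : Set G)) = 110) ∧
    (p = 23 → Nat.card (normalizer ((zpowers g : Subgroup G) : Set G)) = 253) := by
  have h := card_norm_mul (sylow_card hG hp) hg
  obtain ⟨h5, h7, h11, h23⟩ := sylow_count hG hc hp
  rw [hG] at h
  simp only [ord] at h
  refine ⟨?_, ?_, ?_, ?_⟩ <;> intro e
  · rw [h5 e] at h; omega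
  · rw [h7 e] at h; omega
  · rw [h11 e] at h; omega
  · rw [h23 e] at h; omega

theorem cent_twentythree {g : G} (hg : orderOf g = 23) :
    Nat.card (centralizer ({g} : Set G)) = 23 := by
  have hN := (norm_card hG hc (by norm_num : (23 : ℕ) = 5 ∨ 23 = 7 ∨ 23 = 11 ∨ 23 = 23) hg).2.2.2 rfl
  obtain ⟨D, hle, hD, hD23, hall⟩ := exists_compl (sylow_card hG (by norm_num)) hg
  have hd := hN ▸ card_dvd_of_le (le_norm g)
  rw [hD] at hd
  rcases (Nat.dvd_prime (by norm_num : Nat.Prime 11)).1
    (Nat.dvd_of_mul_dvd_mul_left (by norm_num) (hd : 23 * Nat.card D ∣ 23 * 11)) with h | h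
  · rw [hD, h]
  exfalso
  obtain ⟨x, hx⟩ := exists_prime_orderOf_dvd_card' (G := D) 11 (by rw [h])
  have hj : 0 < Nat.card {d : G // d ∈ centralizer ({g} : Set G) ∧ orderOf d = 11} := by
    have : Nonempty {d : G // d ∈ centralizer ({g} : Set G) ∧ orderOf d = 11} :=
      ⟨⟨x, hle x.2, (orderOf_coe x).trans hx⟩⟩
    exact Nat.card_pos
  have hj' : Nat.card {d : G // d ∈ centralizer ({g} : Set G) ∧ orderOf d = 11} ≤ 11 := by
    rw [← card_compl (p := 23) hle hall (by norm_num)]
    exact (Finite.card_subtype_le _).trans h.le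
  have hev : 2 ∣ Nat.card {d : G // d ∈ centralizer ({g} : Set G) ∧ orderOf d = 11} := by
    rw [← card_compl (p := 23) hle hall (by norm_num)]
    exact even_count (by norm_num)
  have hm := count_mul (sylow_card hG (by norm_num)) hg (m := 11) (by norm_num)
  rw [SmallOrder.card_orderOf_eq_mul (p := 23) (sylow_card hG (by norm_num)),
    (sylow_count hG hc (by norm_num : (23 : ℕ) = 5 ∨ 23 = 7 ∨ 23 = 11 ∨ 23 = 23)).2.2.2 rfl] at hm
  have := hc (23 * 11)
  rw [hm] at this
  simp only [Counts] at this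
  omega

theorem cent_eleven {g : G} (hg : orderOf g = 11) :
    Nat.card (centralizer ({g} : Set G)) = 11 := by
  have hN := (norm_card hG hc (by norm_num : (11 : ℕ) = 5 ∨ 11 = 7 ∨ 11 = 11 ∨ 11 = 23) hg).2.2.1 rfl
  obtain ⟨D, hle, hD, hD11, hall⟩ := exists_compl (sylow_card hG (by norm_num)) hg
  have hd : Nat.card D ∣ 10 := by
    have h := hN ▸ card_dvd_of_le (le_norm g)
    rw [hD] at h
    exact Nat.dvd_of_mul_dvd_mul_left (by norm_num) (h : 11 * Nat.card D ∣ 11 * 10)
  have hle10 := Nat.le_of_dvd (by norm_num) hd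
  suffices h1 : Nat.card D = 1 by rw [hD, h1]
  by_contra hne
  obtain ⟨q, hq, hqd⟩ := Nat.exists_prime_and_dvd hne
  haveI : Fact q.Prime := ⟨hq⟩
  have hq' : q = 2 ∨ q = 5 := by
    rcases (Nat.Prime.dvd_mul hq).1 (hqd.trans hd : q ∣ 2 * 5) with h | h
    · exact Or.inl ((Nat.prime_dvd_prime_iff_eq hq Nat.prime_two).1 h)
    · exact Or.inr ((Nat.prime_dvd_prime_iff_eq hq (by norm_num)).1 h)
  obtain ⟨x, hx⟩ := exists_prime_orderOf_dvd_card' (G := D) q hqd
  rcases hq' with rfl | rfl
  · -- an involution would have to commute with the elements of order 23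
    obtain ⟨y, hy⟩ := exists_prime_orderOf_dvd_card' (G := G) 23 (by rw [hG]; norm_num [ord])
    have h23 := Fg24.M23.dvd_count hy (cent_twentythree hG hc hy) (n := 2) (by norm_num) (by norm_num)
    have hmod := Fg24.M23.count_mod hg 2
    have e : Nat.card {d : centralizer ({g} : Set G) // orderOf d = 2} = Nat.card {d : D // orderOf d = 2} := by
      rw [card_compl (p := 11) hle hall (by norm_num)]
      exact Nat.card_congr
        { toFun := fun d => ⟨d.1, d.1.2, (orderOf_coe d.1).trans d.2⟩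
          invFun := fun d => ⟨⟨d.1, d.2.1⟩, (orderOf_mk _ _).trans d.2.2⟩
          left_inv := fun d => rfl
          right_inv := fun d => rfl }
    have hpos : 0 < Nat.card {d : D // orderOf d = 2} := by
      have : Nonempty {d : D // orderOf d = 2} := ⟨⟨x, hx⟩⟩
      exact Nat.card_pos
    have hle2 : Nat.card {d : D // orderOf d = 2} ≤ 9 := by
      have h1 : Nat.card {d : D // orderOf d = 2} < Nat.card D := by
        classical
        have := Fintype.ofFinite D
        rw [Nat.card_eq_fintype_card, Nat.card_eq_fintype_card]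
        exact Fintype.card_subtype_lt (x := 1) (by simp)
      omega
    have := hc 2
    rw [e] at hmod
    simp only [Counts, Nat.ModEq] at this hmod
    omega
  · have hj : Nat.card {d : G // d ∈ centralizer ({g} : Set G) ∧ orderOf d = 5} =
        Nat.card (Sylow 5 D) * 4 := by
      rw [← card_compl (p := 11) hle hall (by norm_num)]
      refine SmallOrder.card_orderOf_eq_mul fun P => ?_
      obtain ⟨c, hc'⟩ := hqd
      rw [hc'] at hle10 hd
      have hc2 : c ≤ 2 := by omega
      simpa using SmallOrder.card_sylow_eq_pow (a := 1) (by rw [pow_one]; exact hc')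
        (fun h5 => by obtain ⟨k, rfl⟩ := h5; have := Nat.card_pos (α := D); omega) P
    have hn5 : Nat.card (Sylow 5 D) ≤ 10 := by
      obtain ⟨P⟩ : Nonempty (Sylow 5 D) := inferInstance
      rw [Sylow.card_eq_index_normalizer P]
      exact (Nat.le_of_dvd Nat.card_pos (index_dvd_card _)).trans hle10
    have hn5' : Nat.card (Sylow 5 D) % 5 = 1 := SmallOrder.card_sylow_mod (G := D) 5
    have hm := count_mul (sylow_card hG (by norm_num)) hg (m := 5) (by norm_num)
    rw [SmallOrder.card_orderOf_eq_mul (p := 11) (sylow_card hG (by norm_num)),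
      (sylow_count hG hc (by norm_num : (11 : ℕ) = 5 ∨ 11 = 7 ∨ 11 = 11 ∨ 11 = 23)).2.2.1 rfl, hj] at hm
    have := hc (11 * 5)
    rw [hm] at this
    simp only [Counts] at this
    omega

theorem count_two : Nat.card {x : G // orderOf x = 2} = 43263 := by
  obtain ⟨x, hx⟩ := exists_prime_orderOf_dvd_card' (G := G) 11 (by rw [hG]; norm_num [ord])
  obtain ⟨y, hy⟩ := exists_prime_orderOf_dvd_card' (G := G) 23 (by rw [hG]; norm_num [ord])
  have h11 := Fg24.M23.dvd_count hx (cent_eleven hG hc hx) (n := 2) (by norm_num) (by norm_num)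
  have h23 := Fg24.M23.dvd_count hy (cent_twentythree hG hc hy) (n := 2) (by norm_num) (by norm_num)
  haveI : Fact (Nat.Prime 2) := ⟨Nat.prime_two⟩
  obtain ⟨t, ht⟩ := exists_prime_orderOf_dvd_card' (G := G) 2 (by rw [hG]; norm_num [ord])
  have hodd := odd_two ht
  have := hc 2
  simp only [Counts] at this
  generalize Nat.card {x : G // orderOf x = 2} = c at *
  rcases this with rfl | rfl | rfl | rfl | rfl | rfl | rfl | rfl | rfl | rfl | rfl | h
  all_goals first | rfl | omega

theorem simple : IsSimpleGroup G := by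
  classical
  have h11 := fun g hg => cent_eleven hG hc (g := g) hg
  have h23 := fun g hg => cent_twentythree hG hc (g := g) hg
  haveI : Nontrivial G := Finite.one_lt_card_iff_nontrivial.1 (by rw [hG]; norm_num [ord])
  obtain ⟨x, hx⟩ := exists_prime_orderOf_dvd_card' (G := G) 11 (by rw [hG]; norm_num [ord])
  obtain ⟨y, hy⟩ := exists_prime_orderOf_dvd_card' (G := G) 23 (by rw [hG]; norm_num [ord])
  have hdvd : ∀ {p : ℕ} [Fact p.Prime], (p = 5 ∨ p = 7 ∨ p = 11 ∨ p = 23) → ∀ (N : Subgroup G), N.Normal →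
      p ∣ Nat.card N → Nat.card (Sylow p G) ∣ Nat.card N := by
    intro p hpf hp N hN hpN
    obtain ⟨⟨g₀, hg₀N⟩, hg₀⟩ := exists_prime_orderOf_dvd_card' p hpN
    replace hg₀ : orderOf g₀ = p := (orderOf_coe ⟨g₀, hg₀N⟩).trans hg₀
    obtain ⟨P, hPe⟩ := exists_sylow_eq (sylow_card hG hp) hg₀
    have hall : ∀ g : G, orderOf g = p → g ∈ N := fun g hg => by
      obtain ⟨P', hP'⟩ := exists_sylow_eq (sylow_card hG hp) hg
      obtain ⟨a, ha⟩ := MulAction.exists_smul_eq G P P'
      have hgP : g ∈ (P' : Subgroup G) := hP' ▸ mem_zpowers g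
      rw [← ha, Sylow.coe_subgroup_smul] at hgP
      obtain ⟨w, hw, rfl⟩ := hgP
      exact hN.conj_mem w (zpowers_le.2 hg₀N (hPe ▸ hw)) a
    have hNP : ∀ Q : Sylow p N, Nat.card (Q : Subgroup N) = p := fun Q => by
      obtain ⟨P', hP'⟩ := (Q.isPGroup'.map N.subtype).exists_le_sylow
      have h := card_dvd_of_le hP'
      rw [sylow_card hG hp P', card_map_of_injective N.subtype_injective] at h
      exact Nat.dvd_antisymm h (Q.dvd_card_of_dvd_card hpN)
    have e : Nat.card {g : N // orderOf g = p} = Nat.card {g : G // orderOf g = p} := Nat.card_congr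
      { toFun := fun x => ⟨(x.1 : G), by rw [orderOf_coe]; exact x.2⟩
        invFun := fun x => ⟨⟨x.1, hall x.1 x.2⟩, by rw [orderOf_mk]; exact x.2⟩
        left_inv := fun x => rfl
        right_inv := fun x => rfl }
    rw [SmallOrder.card_orderOf_eq_mul hNP, SmallOrder.card_orderOf_eq_mul (sylow_card hG hp)] at e
    rw [← Nat.eq_of_mul_eq_mul_right (Nat.sub_pos_of_lt hpf.out.one_lt) e]
    obtain ⟨Q⟩ : Nonempty (Sylow p N) := inferInstance
    rw [Sylow.card_eq_index_normalizer Q]
    exact index_dvd_card _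
  refine ⟨fun N hN => ?_⟩
  have hd : Nat.card N ∣ ord := hG ▸ card_subgroup_dvd_card N
  have hn11 := (sylow_count hG hc (by norm_num : (11 : ℕ) = 5 ∨ 11 = 7 ∨ 11 = 11 ∨ 11 = 23)).2.2.1 rfl
  have hn23 := (sylow_count hG hc (by norm_num : (23 : ℕ) = 5 ∨ 23 = 7 ∨ 23 = 11 ∨ 23 = 23)).2.2.2 rfl
  by_cases hN11 : 11 ∣ Nat.card N
  · refine Or.inr (card_eq_iff_eq_top N |>.1 (Nat.dvd_antisymm (card_subgroup_dvd_card N) ?_))
    have ha := hn11 ▸ hdvd (by norm_num) N hN hN11
    have hb := hn23 ▸ hdvd (by norm_num) N hN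
      ((show 23 ∣ 2225664 by norm_num).trans ha : 23 ∣ Nat.card N)
    rw [hG, show ord = (11 * 23) * 967680 by norm_num [ord]]
    exact (by norm_num : Nat.Coprime (11 * 23) 967680).mul_dvd_of_dvd_of_dvd
      ((by norm_num : Nat.Coprime 11 23).mul_dvd_of_dvd_of_dvd hN11
        ((show 23 ∣ 2225664 by norm_num).trans ha)) hb
  refine Or.inl (eq_bot_of_card_eq _ ?_)
  have hm := Fg24.M23.normal_mod hx (h11 x hx) N hN11
  have hd' : Nat.card N ∣ 22256640 :=
    ((Nat.Prime.coprime_iff_not_dvd (by norm_num)).2 hN11).symm.dvd_of_dvd_mul_left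
      (show Nat.card N ∣ 11 * 22256640 from hd)
  by_cases hN23 : 23 ∣ Nat.card N
  · exfalso
    have hb := hn23 ▸ hdvd (by norm_num) N hN hN23
    have he : Nat.card N = 22256640 := Nat.dvd_antisymm hd'
      ((by norm_num : Nat.Coprime 23 967680).mul_dvd_of_dvd_of_dvd hN23 hb)
    rw [he] at hm
    exact absurd hm (by decide +kernel)
  · have hm' := Fg24.M23.normal_mod hy (h23 y hy) N hN23
    have hd'' : Nat.card N ∣ 967680 :=
      ((Nat.Prime.coprime_iff_not_dvd (by norm_num)).2 hN23).symm.dvd_of_dvd_mul_left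
        (show Nat.card N ∣ 23 * 967680 from hd')
    have key : ∀ d ∈ List.range 3825, 967680 % (253 * d + 1) = 0 → d = 0 := by decide +kernel
    have h253 : Nat.card N % 253 = 1 :=
      (Nat.modEq_and_modEq_iff_modEq_mul (by norm_num : Nat.Coprime 11 23)).1 ⟨hm, hm'⟩
    have hle := Nat.le_of_dvd (by norm_num) hd''
    have := key (Nat.card N / 253) (List.mem_range.2 (by omega))
      (by rw [show 253 * (Nat.card N / 253) + 1 = Nat.card N by omega]
          exact Nat.mod_eq_zero_of_dvd hd'')
    omega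

/-- Multipliers of the count at five. -/
theorem allowed_five {j : ℕ} (hj : j ≤ 48) (h : Counts (4080384 * j)) :
    j = 0 ∨ j = 1 ∨ j = 3 ∨ j = 8 ∨ 5 ∣ j := by
  have := hG
  simp only [Counts] at h
  omega

theorem allowed_seven {j : ℕ} (hj : j ≤ 18) (h : Counts (11658240 * j)) :
    j = 0 ∨ j = 1 ∨ j = 2 ∨ j = 3 ∨ 7 ∣ j := by
  have := hG
  simp only [Counts] at h
  omega

theorem five : ∃ (f : Multiplicative (ZMod 5) × alternatingGroup (Fin 4) →* G) (g : G),
    Function.Injective f ∧ f.range = centralizer ({f (Multiplicative.ofAdd 1, 1)} : Set G) ∧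
      g * f (Multiplicative.ofAdd 1, 1) * g⁻¹ = f (Multiplicative.ofAdd 1, 1) ^ 2 := by
  classical
  haveI := simple hG hc
  haveI : Fact (Nat.Prime 2) := ⟨Nat.prime_two⟩
  haveI : Fact (Nat.Prime 3) := ⟨Nat.prime_three⟩
  obtain ⟨x, hx⟩ := exists_prime_orderOf_dvd_card' (G := G) 5 (by rw [hG]; norm_num [ord])
  have hP := fun P => sylow_card hG (p := 5) (by norm_num) P
  have hN := (norm_card hG hc (by norm_num : (5 : ℕ) = 5 ∨ 5 = 7 ∨ 5 = 11 ∨ 5 = 23) hx).1 rfl
  obtain ⟨D, hle, hD, hD5, hall⟩ := exists_compl hP hx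
  obtain ⟨A, hAsub, hAcard, hAmul, hAiff⟩ := exists_exponents hx
  rw [hN, hD] at hAcard
  have hA4 : A.card ≤ 4 := by
    have h0 : 0 ∉ A := fun h => by
      obtain ⟨k, hk⟩ := (hAiff 0 (by norm_num)).1 h
      rw [pow_zero, conj_eq_one_iff] at hk
      rw [hk, orderOf_one] at hx
      exact absurd hx (by norm_num)
    refine (Finset.card_le_card (t := (Finset.range 5).erase 0) fun a ha => ?_).trans (by simp)
    exact Finset.mem_erase.2 ⟨fun e => h0 (e ▸ ha), hAsub ha⟩
  have hA1 : A.card ≠ 1 := fun h => by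
    refine cent_ne_norm hP (by rw [hG]; norm_num [ord]) hx ?_
    rw [hD, hN]
    rw [h] at hAcard
    omega
  have hle48 : Nat.card D ≤ 48 := by
    have := Nat.mul_le_mul_right (5 * Nat.card D) (show 1 ≤ A.card by
      by_contra h
      rw [show A.card = 0 by omega] at hAcard
      omega)
    omega
  -- the multiplicities
  have hsub : ∀ m, Nat.card {d : D // orderOf d = m} ≤ 48 := fun m =>
    (Finite.card_subtype_le _).trans hle48
  have hmult : ∀ m, ¬ 5 ∣ m → Nat.card {d : D // orderOf d = m} ∈ ({0, 1, 3, 8} : Finset ℕ) ∨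
      5 ∣ Nat.card {d : D // orderOf d = m} := by
    intro m hm
    have h := count_mul hP hx (m := m) ((Nat.Prime.coprime_iff_not_dvd (by norm_num)).2 hm)
    rw [SmallOrder.card_orderOf_eq_mul hP,
      (sylow_count hG hc (by norm_num : (5 : ℕ) = 5 ∨ 5 = 7 ∨ 5 = 11 ∨ 5 = 23)).1 rfl,
      ← card_compl (p := 5) hle hall hm] at h
    have hm5 := hc (5 * m)
    rw [h] at hm5
    rcases allowed_five hG hc (hsub m) hm5 with e | e | e | e | e
    all_goals first | exact Or.inr e | exact Or.inl (by simp [e])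
  have hinv : Nat.card {d : D // orderOf d = 2} = 3 := by
    have hmod := Fg24.M23.count_mod hx 2
    have e : Nat.card {d : centralizer ({x} : Set G) // orderOf d = 2} = Nat.card {d : D // orderOf d = 2} := by
      rw [card_compl (p := 5) hle hall (by norm_num)]
      exact Nat.card_congr
        { toFun := fun d => ⟨d.1, d.1.2, (orderOf_coe d.1).trans d.2⟩
          invFun := fun d => ⟨⟨d.1, d.2.1⟩, (orderOf_mk _ _).trans d.2.2⟩
          left_inv := fun d => rfl
          right_inv := fun d => rfl }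
    rw [count_two hG hc, e, Nat.ModEq] at hmod
    have h := hmult 2 (by norm_num)
    simp only [Finset.mem_insert, Finset.mem_singleton] at h
    have hj8 : Nat.card {d : D // orderOf d = 2} ≠ 8 := by
      intro h8
      obtain ⟨⟨t, ht⟩⟩ : Nonempty {d : D // orderOf d = 2} :=
        (Nat.card_pos_iff.1 (by rw [h8]; norm_num)).1
      have := odd_two ht
      omega
    have := hsub 2
    omega
  -- the order is 12 or 24
  have hAc : A.card = 2 ∧ Nat.card D = 24 ∨ A.card = 4 ∧ Nat.card D = 12 ∨ A.card = 3 ∧ Nat.card D = 16 := by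
    rcases Nat.eq_zero_or_pos A.card with h | h
    · rw [h] at hAcard; omega
    interval_cases hk : A.card <;> omega
  have h3 : Nat.card D ≠ 16 := by
    intro h16
    rcases hAc with ⟨-, h⟩ | ⟨-, h⟩ | ⟨ha, -⟩
    · omega
    · omega
    · -- three residues closed under multiplication
      have key : ∀ B ∈ (Finset.range 5).powerset, B.card = 3 → 0 ∉ B →
          ¬ ∀ a ∈ B, ∀ b ∈ B, a * b % 5 ∈ B := by decide +kernel
      refine key A (Finset.mem_powerset.2 hAsub) ha (fun h => ?_) hAmul
      obtain ⟨k, hk⟩ := (hAiff 0 (by norm_num)).1 h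
      rw [pow_zero, conj_eq_one_iff] at hk
      rw [hk, orderOf_one] at hx
      exact absurd hx (by norm_num)
  have h3dvd : 3 ∣ Nat.card D := by omega
  have hS3 : ∀ P : Sylow 3 D, Nat.card (P : Subgroup D) = 3 := fun P => by
    obtain ⟨c, hc'⟩ := h3dvd
    simpa using SmallOrder.card_sylow_eq_pow (a := 1) (by rw [pow_one]; exact hc')
      (fun h => by obtain ⟨k, rfl⟩ := h; omega) P
  have hn3 : Nat.card (Sylow 3 D) = 4 ∧ Nat.card {d : D // orderOf d = 3} = 8 := by
    have h := hmult 3 (by norm_num)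
    have e := SmallOrder.card_orderOf_eq_mul hS3
    have hmod : Nat.card (Sylow 3 D) % 3 = 1 := SmallOrder.card_sylow_mod (G := D) 3
    obtain ⟨P⟩ : Nonempty (Sylow 3 D) := inferInstance
    have hd : Nat.card (Sylow 3 D) ∣ Nat.card D := by
      rw [Sylow.card_eq_index_normalizer P]; exact index_dvd_card _
    have hdle := Nat.le_of_dvd Nat.card_pos hd
    simp only [Finset.mem_insert, Finset.mem_singleton] at h
    rcases hAc with ⟨-, h24⟩ | ⟨-, h12⟩ | ⟨-, h16⟩
    · rw [h24] at hd
      have h' := Nat.mem_divisors.2 ⟨hd, by norm_num⟩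
      rw [show Nat.divisors 24 = {1, 2, 3, 4, 6, 8, 12, 24} by decide +kernel] at h'
      simp only [Finset.mem_insert, Finset.mem_singleton] at h'
      omega
    · rw [h12] at hd
      have h' := Nat.mem_divisors.2 ⟨hd, by norm_num⟩
      rw [show Nat.divisors 12 = {1, 2, 3, 4, 6, 12} by decide +kernel] at h'
      simp only [Finset.mem_insert, Finset.mem_singleton] at h'
      omega
    · exact absurd h16 h3
  have h12 : A.card = 4 ∧ Nat.card D = 12 := by
    rcases hAc with ⟨-, h24⟩ | h | ⟨-, h16⟩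
    · exfalso
      have := Fintype.ofFinite D
      have hsum : ∑ m ∈ Nat.divisors 24, Nat.card {d : D // orderOf d = m} = 24 := by
        simp only [Nat.card_eq_fintype_card, Fintype.card_subtype]
        rw [← Finset.card_eq_sum_card_fiberwise fun d _ => ?_, Finset.card_univ, ← Nat.card_eq_fintype_card, h24]
        rw [Finset.mem_coe, Nat.mem_divisors]
        exact ⟨h24 ▸ orderOf_dvd_natCard d, by norm_num⟩
      rw [show Nat.divisors 24 = {1, 2, 3, 4, 6, 8, 12, 24} by decide +kernel] at hsum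
      have h1 : Nat.card {d : D // orderOf d = 1} = 1 := by
        rw [Nat.card_congr (Equiv.subtypeEquivRight fun d : D => orderOf_eq_one_iff)]
        simp
      simp only [Finset.sum_insert, Finset.mem_insert, Finset.mem_singleton, Finset.sum_singleton,
        Nat.reduceEqDiff, or_self, not_false_eq_true, h1, hinv, hn3.2] at hsum
      have hev : ∀ m, 3 ≤ m → ¬ 5 ∣ m → (Nat.card {d : D // orderOf d = m} = 0 ∨
          8 ≤ Nat.card {d : D // orderOf d = m}) ∧ Nat.card {d : D // orderOf d = m} ≠ 12 := by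
        intro m hm3 hm5
        have h := hmult m hm5
        have := even_count (D := D) hm3
        simp only [Finset.mem_insert, Finset.mem_singleton] at h
        omega
      have m4 := hev 4 (by norm_num) (by norm_num)
      have m6 := hev 6 (by norm_num) (by norm_num)
      have m8 := hev 8 (by norm_num) (by norm_num)
      have m12 := hev 12 (by norm_num) (by norm_num)
      have m24 := hev 24 (by norm_num) (by norm_num)
      omega
    · exact h
    · exact absurd h16 h3
  obtain ⟨ψ, hψ⟩ := exists_perm (D := D) (q := 3) (n := 4) (by norm_num) hS3 hn3.1 (by rw [h12.2])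
  have hrange : ψ.range = alternatingGroup (Fin 4) := by
    refine Equiv.Perm.eq_alternatingGroup_of_index_eq_two ?_
    have h := card_mul_index ψ.range
    rw [← Nat.card_congr (MonoidHom.ofInjective hψ).toEquiv, h12.2, Nat.card_eq_fintype_card (α := Equiv.Perm _),
      Fintype.card_perm, Fintype.card_fin, show Nat.factorial 4 = 24 from rfl] at h
    omega
  obtain ⟨f, hf, hfx, hfr⟩ := exists_hom hx hle hD hD5
    ((MonoidHom.ofInjective hψ).trans (MulEquiv.subgroupCongr hrange))
  obtain ⟨g, hg⟩ : ∃ g : G, g * x * g⁻¹ = x ^ 2 := by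
    refine (hAiff 2 (by norm_num)).1 ?_
    have key : ∀ B ∈ (Finset.range 5).powerset, B.card = 4 → 0 ∉ B → 2 ∈ B := by decide +kernel
    refine key A (Finset.mem_powerset.2 hAsub) h12.1 fun h => ?_
    obtain ⟨k, hk⟩ := (hAiff 0 (by norm_num)).1 h
    rw [pow_zero, conj_eq_one_iff] at hk
    rw [hk, orderOf_one] at hx
    exact absurd hx (by norm_num)
  exact ⟨f, g, hf, hfr, by rw [hfx]; exact hg⟩

theorem seven : ∃ (f : Multiplicative (ZMod 7) × Equiv.Perm (Fin 3) →* G) (g : G),
    Function.Injective f ∧ f.range = centralizer ({f (Multiplicative.ofAdd 1, 1)} : Set G) ∧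
      g * f (Multiplicative.ofAdd 1, 1) * g⁻¹ = f (Multiplicative.ofAdd 1, 1) ^ 2 ∧
      ∀ h : G, h * f (Multiplicative.ofAdd 1, 1) * h⁻¹ ≠ (f (Multiplicative.ofAdd 1, 1))⁻¹ := by
  classical
  haveI := simple hG hc
  haveI : Fact (Nat.Prime 2) := ⟨Nat.prime_two⟩
  obtain ⟨x, hx⟩ := exists_prime_orderOf_dvd_card' (G := G) 7 (by rw [hG]; norm_num [ord])
  have hP := fun P => sylow_card hG (p := 7) (by norm_num) P
  have hN := (norm_card hG hc (by norm_num : (7 : ℕ) = 5 ∨ 7 = 7 ∨ 7 = 11 ∨ 7 = 23) hx).2.1 rfl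
  obtain ⟨D, hle, hD, hD7, hall⟩ := exists_compl hP hx
  obtain ⟨A, hAsub, hAcard, hAmul, hAiff⟩ := exists_exponents hx
  rw [hN, hD] at hAcard
  have h0 : 0 ∉ A := fun h => by
    obtain ⟨k, hk⟩ := (hAiff 0 (by norm_num)).1 h
    rw [pow_zero, conj_eq_one_iff] at hk
    rw [hk, orderOf_one] at hx
    exact absurd hx (by norm_num)
  have hA6 : A.card ≤ 6 := by
    refine (Finset.card_le_card (t := (Finset.range 7).erase 0) fun a ha => ?_).trans (by simp)
    exact Finset.mem_erase.2 ⟨fun e => h0 (e ▸ ha), hAsub ha⟩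
  have hA1 : A.card ≠ 1 := fun h => by
    refine cent_ne_norm hP (by rw [hG]; norm_num [ord]) hx ?_
    rw [hD, hN]
    rw [h] at hAcard
    omega
  have hle18 : Nat.card D ≤ 18 := by
    have := Nat.mul_le_mul_right (7 * Nat.card D) (show 1 ≤ A.card by
      by_contra h
      rw [show A.card = 0 by omega] at hAcard
      omega)
    omega
  have hinv : Nat.card {d : D // orderOf d = 2} = 3 := by
    have hmod := Fg24.M23.count_mod hx 2
    have e : Nat.card {d : centralizer ({x} : Set G) // orderOf d = 2} = Nat.card {d : D // orderOf d = 2} := by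
      rw [card_compl (p := 7) hle hall (by norm_num)]
      exact Nat.card_congr
        { toFun := fun d => ⟨d.1, d.1.2, (orderOf_coe d.1).trans d.2⟩
          invFun := fun d => ⟨⟨d.1, d.2.1⟩, (orderOf_mk _ _).trans d.2.2⟩
          left_inv := fun d => rfl
          right_inv := fun d => rfl }
    rw [count_two hG hc, e, Nat.ModEq] at hmod
    have h := count_mul hP hx (m := 2) (by norm_num)
    rw [SmallOrder.card_orderOf_eq_mul hP,
      (sylow_count hG hc (by norm_num : (7 : ℕ) = 5 ∨ 7 = 7 ∨ 7 = 11 ∨ 7 = 23)).2.1 rfl,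
      ← card_compl (p := 7) hle hall (by norm_num : ¬ 7 ∣ 2)] at h
    have h14 := hc (7 * 2)
    rw [h] at h14
    have hs : Nat.card {d : D // orderOf d = 2} ≤ 18 := (Finite.card_subtype_le _).trans hle18
    rcases allowed_seven hG hc hs h14 with e | e | e | e | e <;> omega
  have h2 : 2 ∣ Nat.card D := by
    have : Nonempty {d : D // orderOf d = 2} := (Nat.card_pos_iff.1 (by rw [hinv]; norm_num)).1
    obtain ⟨d, hd⟩ := this
    exact hd ▸ orderOf_dvd_natCard d
  have h6 : A.card = 3 ∧ Nat.card D = 6 := by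
    interval_cases hk : A.card <;> omega
  have hS2 : ∀ P : Sylow 2 D, Nat.card (P : Subgroup D) = 2 := fun P => by
    simpa using SmallOrder.card_sylow_eq_pow (a := 1) (m := 3) (by rw [pow_one]; omega) (by norm_num) P
  have hn2 : Nat.card (Sylow 2 D) = 3 := by
    have e := SmallOrder.card_orderOf_eq_mul hS2
    omega
  obtain ⟨ψ, hψ⟩ := exists_perm (D := D) (q := 2) (n := 3) (by norm_num) hS2 hn2 (by rw [h6.2])
  have hbij : Function.Bijective ψ := (Nat.bijective_iff_injective_and_card ψ).2 ⟨hψ, by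
    rw [h6.2, Nat.card_eq_fintype_card, Fintype.card_perm, Fintype.card_fin]; rfl⟩
  obtain ⟨f, hf, hfx, hfr⟩ := exists_hom hx hle hD hD7 (MulEquiv.ofBijective ψ hbij)
  have key : ∀ B ∈ (Finset.range 7).powerset, B.card = 3 → 0 ∉ B →
      (∀ a ∈ B, ∀ b ∈ B, a * b % 7 ∈ B) → 2 ∈ B ∧ 6 ∉ B := by decide +kernel
  obtain ⟨h2A, h6A⟩ := key A (Finset.mem_powerset.2 hAsub) h6.1 h0 hAmul
  obtain ⟨g, hg⟩ := (hAiff 2 (by norm_num)).1 h2A
  refine ⟨f, g, hf, hfr, by rw [hfx]; exact hg, fun h he => h6A ((hAiff 6 (by norm_num)).2 ⟨h, ?_⟩)⟩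
  rw [hfx] at he
  rw [he]
  refine inv_eq_of_mul_eq_one_left ?_
  rw [← pow_succ, show 6 + 1 = 7 from rfl, ← hx, pow_orderOf_eq_one]

/-- The local facts. -/
theorem facts_of_counts : Facts G where
  card := hG
  simple := simple hG hc
  cent_twentythree _ hg := cent_twentythree hG hc hg
  norm_twentythree _ hg := (norm_card hG hc (by norm_num : (23 : ℕ) = 5 ∨ 23 = 7 ∨ 23 = 11 ∨ 23 = 23) hg).2.2.2 rfl
  cent_eleven _ hg := cent_eleven hG hc hg
  norm_eleven _ hg := (norm_card hG hc (by norm_num : (11 : ℕ) = 5 ∨ 11 = 7 ∨ 11 = 11 ∨ 11 = 23) hg).2.2.1 rfl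
  five := five hG hc
  seven := seven hG hc

end Counts

end Cfsg.Agent.M24Nse
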