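import Mathlib

/-!
# Counting elements of given orders: classes, congruences and commuting pairs
-/

set_option autoImplicit false
set_option linter.unusedSectionVars false
set_option linter.style.haveILetI false

namespace Cfsg.Agent.M24Nse

universe u

variable {G : Type u} [Group G] [Finite G]

/-- The size of a class times the order of the centralizer. -/
theorem card_class_mul (t : G) :
    Nat.card {g : G // IsConj t g} * Nat.card (Subgroup.centralizer ({t} : Set G)) = Nat.card G := by
  let f : G ⧸ Subgroup.centralizer ({t} : Set G) → {g : G // IsConj t g} :=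
    Quotient.lift (fun a => ⟨a * t * a⁻¹, isConj_iff.2 ⟨a, rfl⟩⟩) fun a b h => by
      have h' : a⁻¹ * b ∈ Subgroup.centralizer ({t} : Set G) := QuotientGroup.leftRel_apply.1 h
      rw [Subgroup.mem_centralizer_singleton_iff] at h'
      refine Subtype.ext ?_
      show a * t * a⁻¹ = b * t * b⁻¹
      calc a * t * a⁻¹ = a * (t * (a⁻¹ * b)) * b⁻¹ := by group
        _ = a * ((a⁻¹ * b) * t) * b⁻¹ := by rw [h']
        _ = b * t * b⁻¹ := by group
  have hf : Function.Bijective f := by
    refine ⟨fun a b => ?_, fun g => ?_⟩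
    · induction a using QuotientGroup.induction_on with
      | H a =>
        induction b using QuotientGroup.induction_on with
        | H b =>
          intro h
          have h' : a * t * a⁻¹ = b * t * b⁻¹ := congrArg Subtype.val h
          refine QuotientGroup.eq.2 (Subgroup.mem_centralizer_singleton_iff.2 ?_)
          calc a⁻¹ * b * t = a⁻¹ * (b * t * b⁻¹) * b := by group
            _ = a⁻¹ * (a * t * a⁻¹) * b := by rw [h']
            _ = t * (a⁻¹ * b) := by group
    · obtain ⟨c, hc⟩ := isConj_iff.1 g.2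
      exact ⟨QuotientGroup.mk c, Subtype.ext hc⟩
  rw [← Nat.card_congr (Equiv.ofBijective f hf), ← Subgroup.card_eq_card_quotient_mul_card_subgroup]

/-- Two classes exhausting the elements of an order. -/
theorem count_two_classes {n : ℕ} (a b : G) (ha : orderOf a = n) (hb : orderOf b = n)
    (hne : ¬ IsConj a b) (hall : ∀ g : G, orderOf g = n → IsConj a g ∨ IsConj b g) :
    Nat.card {g : G // orderOf g = n} =
      Nat.card G / Nat.card (Subgroup.centralizer ({a} : Set G)) +
        Nat.card G / Nat.card (Subgroup.centralizer ({b} : Set G)) := by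
  classical
  have hcl : ∀ t : G, Nat.card G / Nat.card (Subgroup.centralizer ({t} : Set G)) =
      Nat.card {g : G // IsConj t g} := fun t => by
    rw [← card_class_mul t, Nat.mul_div_cancel _ Nat.card_pos]
  have hord : ∀ t g : G, IsConj t g → orderOf t = n → orderOf g = n := fun t g h ht => by
    obtain ⟨c, rfl⟩ := isConj_iff.1 h
    exact ((MulAut.conj c).orderOf_eq t).trans ht
  rw [hcl, hcl, ← Nat.card_sum]
  refine Nat.card_congr (Equiv.ofBijective
    (fun g : {g : G // orderOf g = n} =>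
      if h : IsConj a g.1 then Sum.inl ⟨g.1, h⟩ else Sum.inr ⟨g.1, (hall g.1 g.2).resolve_left h⟩)
    ⟨fun x y h => ?_, fun s => ?_⟩)
  · refine Subtype.ext ?_
    dsimp only at h
    split_ifs at h with h1 h2 h2
    · injection h with h'
      exact Subtype.mk.inj h'
    · injection h with h'
      exact Subtype.mk.inj h'
  · rcases s with ⟨g, hg⟩ | ⟨g, hg⟩
    · exact ⟨⟨g, hord a g hg ha⟩, dif_pos hg⟩
    · exact ⟨⟨g, hord b g hg hb⟩, dif_neg fun h => hne (h.trans hg.symm)⟩

/-- An element of prime order permutes the elements of each order. -/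
theorem card_modEq_cent {p : ℕ} [hp : Fact p.Prime] {g : G} (hg : orderOf g = p) (n : ℕ) :
    Nat.card {x : G // orderOf x = n} ≡
      Nat.card {x : Subgroup.centralizer ({g} : Set G) // orderOf x = n} [MOD p] := by
  classical
  letI := Fintype.ofFinite {x : G // orderOf x = n}
  let σ : Equiv.Perm {x : G // orderOf x = n} :=
    Equiv.subtypeEquiv (MulAut.conj g).toEquiv fun x => by
      show orderOf x = n ↔ orderOf (MulAut.conj g x) = n
      rw [MulEquiv.orderOf_eq]
  have hpow : ∀ (j : ℕ) (x : {x : G // orderOf x = n}), ((σ ^ j) x : G) = g ^ j * x * (g ^ j)⁻¹ := by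
    intro j
    induction j with
    | zero => intro x; simp
    | succ j ih =>
      intro x
      rw [pow_succ', Equiv.Perm.mul_apply]
      show g * ((σ ^ j) x : G) * g⁻¹ = _
      rw [ih, pow_succ']
      group
  have hσ : σ ^ p ^ 1 = 1 := Equiv.ext fun x => Subtype.ext (by
    rw [hpow, pow_one, ← hg, pow_orderOf_eq_one]; simp)
  have hmod := Equiv.Perm.card_compl_support_modEq hσ
  rw [← Nat.card_eq_fintype_card] at hmod
  refine hmod.symm.trans ?_
  rw [← Fintype.card_coe, ← Nat.card_eq_fintype_card]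
  refine congrArg (· % p) (Nat.card_congr ((Equiv.subtypeEquivRight
    (q := fun x : {x : G // orderOf x = n} => g * (x : G) = x * g) fun x => ?_).trans
    { toFun := fun x => ⟨⟨x.1.1, Subgroup.mem_centralizer_singleton_iff.2 x.2.symm⟩,
        by rw [Subgroup.orderOf_mk]; exact x.1.2⟩
      invFun := fun x => ⟨⟨x.1.1, by rw [Subgroup.orderOf_coe]; exact x.2⟩,
        (Subgroup.mem_centralizer_singleton_iff.1 x.1.2).symm⟩
      left_inv := fun x => rfl
      right_inv := fun x => rfl }))
  rw [Finset.mem_compl, Equiv.Perm.notMem_support]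
  refine Subtype.ext_iff.trans ?_
  show g * (x : G) * g⁻¹ = x ↔ _
  exact mul_inv_eq_iff_eq_mul

/-- Inversion pairs the elements of each order at least three. -/
theorem two_dvd_card_orderOf {n : ℕ} (hn : 3 ≤ n) : 2 ∣ Nat.card {x : G // orderOf x = n} := by
  classical
  haveI : Fact (Nat.Prime 2) := ⟨Nat.prime_two⟩
  letI := Fintype.ofFinite {x : G // orderOf x = n}
  let σ : Equiv.Perm {x : G // orderOf x = n} :=
    Equiv.subtypeEquiv (Equiv.inv G) fun x => by
      show orderOf x = n ↔ orderOf x⁻¹ = n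
      rw [orderOf_inv]
  have hσ : σ ^ 2 ^ 1 = 1 := Equiv.ext fun x => Subtype.ext (by
    rw [pow_one, pow_two, Equiv.Perm.mul_apply]
    show ((x : G)⁻¹)⁻¹ = x
    rw [inv_inv])
  have hmod := Equiv.Perm.card_compl_support_modEq hσ
  have h0 : σ.supportᶜ = ∅ := Finset.eq_empty_of_forall_notMem fun x hx => by
    rw [Finset.mem_compl, Equiv.Perm.notMem_support] at hx
    have h1 : (x : G)⁻¹ = x := congrArg Subtype.val hx
    have h2 : orderOf (x : G) ∣ 2 := orderOf_dvd_of_pow_eq_one (by
      rw [pow_two]; nth_rw 1 [← h1]; exact inv_mul_cancel _)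
    have := Nat.le_of_dvd two_pos h2
    rw [x.2] at this
    omega
  rw [h0, Finset.card_empty, ← Nat.card_eq_fintype_card] at hmod
  exact Nat.modEq_zero_iff_dvd.1 hmod.symm

/-- The elements of order `p * q` are the commuting products of elements of orders `p` and `q`. -/
theorem card_orderOf_prime_mul {p q k : ℕ} (hp : p.Prime) (hq : q.Prime) (hpq : p ≠ q)
    (hk : ∀ x : G, orderOf x = p →
      Nat.card {y : Subgroup.centralizer ({x} : Set G) // orderOf y = q} = k) :
    Nat.card {g : G // orderOf g = p * q} = Nat.card {x : G // orderOf x = p} * k := by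
  classical
  letI := Fintype.ofFinite {x : G // orderOf x = p}
  have hcop : Nat.Coprime p q := (Nat.coprime_primes hp hq).2 hpq
  let F : (Σ x : {x : G // orderOf x = p}, {y : Subgroup.centralizer ({x.1} : Set G) // orderOf y = q}) →
      {g : G // orderOf g = p * q} := fun s => ⟨s.1.1 * (s.2.1 : G), by
    have hc : Commute s.1.1 (s.2.1 : G) :=
      (Subgroup.mem_centralizer_singleton_iff.1 s.2.1.2).symm
    rw [hc.orderOf_mul_eq_mul_orderOf_of_coprime (by rw [s.1.2, Subgroup.orderOf_coe, s.2.2]; exact hcop),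
      s.1.2, Subgroup.orderOf_coe, s.2.2]⟩
  obtain ⟨a, ha1, ha0⟩ := Nat.chineseRemainder hcop 1 0
  obtain ⟨b, hb0, hb1⟩ := Nat.chineseRemainder hcop 0 1
  have hpow : ∀ (x : G) (r i j : ℕ), orderOf x = r → i ≡ j [MOD r] → x ^ i = x ^ j := fun x r i j hx h =>
    pow_eq_pow_iff_modEq.2 (hx ▸ h)
  have hx_eq : ∀ (x y : G), Commute x y → orderOf x = p → orderOf y = q → (x * y) ^ a = x := by
    intro x y hc hx hy
    rw [hc.mul_pow, hpow x p a 1 hx ha1, hpow y q a 0 hy ha0, pow_one, pow_zero, mul_one]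
  have hF : Function.Bijective F := by
    refine ⟨fun s s' h => ?_, fun g => ?_⟩
    · obtain ⟨⟨x, hx⟩, ⟨⟨y, hy⟩, hyo⟩⟩ := s
      obtain ⟨⟨x', hx'⟩, ⟨⟨y', hy'⟩, hyo'⟩⟩ := s'
      have h' : x * y = x' * y' := congrArg Subtype.val h
      have e1 := hx_eq x y (Subgroup.mem_centralizer_singleton_iff.1 hy).symm hx
        (by rw [← hyo, Subgroup.orderOf_mk])
      have e2 := hx_eq x' y' (Subgroup.mem_centralizer_singleton_iff.1 hy').symm hx'
        (by rw [← hyo', Subgroup.orderOf_mk])
      obtain rfl : x = x' := by rw [← e1, h', e2]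
      obtain rfl : y = y' := mul_left_cancel h'
      rfl
    · have hg := g.2
      have hab : a + b ≡ 1 [MOD p * q] :=
        (Nat.modEq_and_modEq_iff_modEq_mul hcop).1 ⟨(ha1.add hb0 : a + b ≡ 1 + 0 [MOD p]), (ha0.add hb1 : a + b ≡ 0 + 1 [MOD q])⟩
      have hxy : g.1 ^ a * g.1 ^ b = g.1 := by
        rw [← pow_add, hpow g.1 (p * q) _ 1 hg hab, pow_one]
      have hxp : (g.1 ^ a) ^ p = 1 := by
        rw [← pow_mul]
        refine orderOf_dvd_iff_pow_eq_one.1 ?_
        rw [hg, mul_comm a p]
        exact Nat.mul_dvd_mul_left p (Nat.modEq_zero_iff_dvd.1 ha0)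
      have hyq : (g.1 ^ b) ^ q = 1 := by
        rw [← pow_mul]
        refine orderOf_dvd_iff_pow_eq_one.1 ?_
        rw [hg]
        exact Nat.mul_dvd_mul_right (Nat.modEq_zero_iff_dvd.1 hb0) q
      haveI := Fact.mk hp
      haveI := Fact.mk hq
      have hxo : orderOf (g.1 ^ a) = p := orderOf_eq_prime hxp fun e => by
        rw [e, one_mul] at hxy
        rw [hxy] at hyq
        have := Nat.le_of_dvd hq.pos (hg ▸ orderOf_dvd_of_pow_eq_one hyq)
        have := Nat.mul_le_mul_right q hp.two_le
        have := hq.pos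
        omega
      have hyo : orderOf (g.1 ^ b) = q := orderOf_eq_prime hyq fun e => by
        rw [e, mul_one] at hxy
        rw [hxy] at hxp
        have := Nat.le_of_dvd hp.pos (hg ▸ orderOf_dvd_of_pow_eq_one hxp)
        have := Nat.mul_le_mul_left p hq.two_le
        have := hp.pos
        omega
      exact ⟨⟨⟨g.1 ^ a, hxo⟩, ⟨⟨g.1 ^ b, Subgroup.mem_centralizer_singleton_iff.2
        (((Commute.refl g.1).pow_left b).pow_right a).eq⟩, by rw [Subgroup.orderOf_mk]; exact hyo⟩⟩,
        Subtype.ext hxy⟩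
  rw [← Nat.card_congr (Equiv.ofBijective F hF), Nat.card_sigma,
    Finset.sum_congr rfl (g := fun _ => k) fun x _ => hk x.1 x.2, Finset.sum_const, Finset.card_univ,
    smul_eq_mul, Nat.card_eq_fintype_card (α := {x : G // orderOf x = p})]

/-! ### A subgroup of prime order -/

theorem mem_normalizer_zpowers (x n : G) :
    n ∈ Subgroup.normalizer ((Subgroup.zpowers x : Subgroup G) : Set G) ↔
      n * x * n⁻¹ ∈ Subgroup.zpowers x := by
  rw [Subgroup.mem_normalizer_iff]
  refine ⟨fun h => (h x).1 (Subgroup.mem_zpowers x), fun h => ?_⟩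
  have hle : (Subgroup.zpowers x).map (MulAut.conj n).toMonoidHom ≤ Subgroup.zpowers x := by
    rw [MonoidHom.map_zpowers, Subgroup.zpowers_le]
    exact h
  have heq := Subgroup.eq_of_le_of_card_ge hle
    (by rw [Subgroup.card_map_of_injective (MulAut.conj n).injective])
  intro y
  constructor
  · intro hy
    exact hle ⟨y, hy, rfl⟩
  · intro hy
    rw [← heq] at hy
    obtain ⟨z, hz, hzy⟩ := hy
    have : z = y := (MulAut.conj n).injective hzy
    exact this ▸ hz

/-- The normalizer of a subgroup of order `p`, in the whole group and in a subgroup `H`. -/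
theorem sylow_data {p : ℕ} [hp : Fact p.Prime] (hfac : (Nat.card G).factorization p = 1) {x : G}
    (hx : orderOf x = p) :
    ∃ e, e ∣ p - 1 ∧ Nat.card (Subgroup.centralizer ({x} : Set G)) * e ∣ Nat.card G ∧
      (Nat.card G / (Nat.card (Subgroup.centralizer ({x} : Set G)) * e)) % p = 1 ∧
      Nat.card {g : G // orderOf g = p} =
        Nat.card G / (Nat.card (Subgroup.centralizer ({x} : Set G)) * e) * (p - 1) ∧
      ∀ H : Subgroup G, x ∈ H → ∃ e', e' ∣ e ∧
        Nat.card ↥(Subgroup.centralizer ({x} : Set G) ⊓ H) * e' ∣ Nat.card H ∧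
        (Nat.card H / (Nat.card ↥(Subgroup.centralizer ({x} : Set G) ⊓ H) * e')) % p = 1 := by
  classical
  set Z := Subgroup.zpowers x with hZdef
  set N := Subgroup.normalizer (Z : Set G) with hNdef
  set C := Subgroup.centralizer ({x} : Set G) with hCdef
  have hC : C = Subgroup.centralizer (Z : Set G) := by
    rw [hCdef, hZdef, Subgroup.zpowers_eq_closure, Subgroup.centralizer_closure]
  have hCN : C ≤ N := hC ▸ Subgroup.centralizer_le_normalizer _
  let φ := Subgroup.normalizerMonoidHom Z
  have hker : φ.ker = C.subgroupOf N := by rw [hC]; exact Subgroup.normalizerMonoidHom_ker Z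
  haveI hnorm : (C.subgroupOf N).Normal := hker ▸ MonoidHom.normal_ker φ
  have he : C.relIndex N ∣ p - 1 := by
    show (C.subgroupOf N).index ∣ p - 1
    rw [← hker, Subgroup.index_ker]
    refine (Subgroup.card_subgroup_dvd_card φ.range).trans ?_
    rw [IsCyclic.card_mulAut, Nat.card_zpowers, hx, Nat.totient_prime hp.out]
  have mul_rel : ∀ A B : Subgroup G, A ≤ B → Nat.card A * A.relIndex B = Nat.card B := fun A B h => by
    rw [← Nat.card_congr (Subgroup.subgroupOfEquivOfLe h).toEquiv]
    exact Subgroup.card_mul_index _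
  have hNcard : Nat.card N = Nat.card C * C.relIndex N := (mul_rel C N hCN).symm
  -- the subgroup of order `p` in a subgroup containing `x`
  have hsub : ∀ H : Subgroup G, x ∈ H →
      Nat.card ↥(N ⊓ H) ∣ Nat.card H ∧ (Nat.card H / Nat.card ↥(N ⊓ H)) % p = 1 := by
    intro H hxH
    have hzcard : Nat.card (Subgroup.zpowers (⟨x, hxH⟩ : H)) = p := by
      rw [Nat.card_zpowers, ← hx, ← Subgroup.orderOf_coe]
    obtain ⟨P, hP⟩ := (IsPGroup.of_card (n := 1) (by rw [hzcard, pow_one]) :
      IsPGroup p (Subgroup.zpowers (⟨x, hxH⟩ : H))).exists_le_sylow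
    have hfH : (Nat.card H).factorization p ≤ 1 :=
      hfac ▸ (Nat.factorization_le_iff_dvd Nat.card_pos.ne' Nat.card_pos.ne').2
        (Subgroup.card_subgroup_dvd_card H) p
    have hPle : Nat.card (P : Subgroup H) ≤ p := by
      rw [P.card_eq_multiplicity]
      calc p ^ _ ≤ p ^ 1 := Nat.pow_le_pow_right hp.out.pos hfH
        _ = p := pow_one p
    have heq := Subgroup.eq_of_le_of_card_ge hP (by rw [hzcard]; exact hPle)
    have hNP : Subgroup.normalizer ((P : Subgroup H) : Set H) = (N ⊓ H).subgroupOf H := by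
      ext n
      rw [← heq, mem_normalizer_zpowers, Subgroup.mem_subgroupOf, Subgroup.mem_inf,
        mem_normalizer_zpowers, Subgroup.mem_zpowers_iff, Subgroup.mem_zpowers_iff]
      constructor
      · rintro ⟨i, hi⟩
        exact ⟨⟨i, congrArg Subtype.val hi⟩, n.2⟩
      · rintro ⟨⟨i, hi⟩, -⟩
        exact ⟨i, Subtype.ext hi⟩
    have h1 : Nat.card (Sylow p H) = (Subgroup.normalizer ((P : Subgroup H) : Set H)).index :=
      P.card_eq_index_normalizer
    rw [hNP] at h1
    have h2 : Nat.card ↥(N ⊓ H) * Nat.card (Sylow p H) = Nat.card H := by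
      rw [h1]
      exact mul_rel _ _ inf_le_right
    refine ⟨Dvd.intro _ h2, ?_⟩
    rw [← h2, Nat.mul_div_cancel_left _ Nat.card_pos]
    have h3 := card_sylow_modEq_one p H
    rwa [Nat.ModEq, Nat.one_mod_eq_one.2 hp.out.ne_one] at h3
  obtain ⟨htop1, htop2⟩ := hsub ⊤ (Subgroup.mem_top x)
  rw [inf_top_eq, Subgroup.card_top, hNcard] at htop1 htop2
  refine ⟨C.relIndex N, he, htop1, htop2, ?_, fun H hxH => ?_⟩
  · have hall : ∀ P : Sylow p G, Nat.card (P : Subgroup G) = p := fun P => by
      rw [P.card_eq_multiplicity, hfac, pow_one]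
    obtain ⟨P, hP⟩ := (IsPGroup.of_card (n := 1) (by rw [Nat.card_zpowers, hx, pow_one]) :
      IsPGroup p Z).exists_le_sylow
    have heq := Subgroup.eq_of_le_of_card_ge hP (by rw [Nat.card_zpowers, hx, hall P])
    have hn : Nat.card (Sylow p G) = Nat.card G / (Nat.card C * C.relIndex N) := by
      rw [show Nat.card (Sylow p G) = (Subgroup.normalizer ((P : Subgroup G) : Set G)).index from
        P.card_eq_index_normalizer, ← heq, ← hNcard, ← hNdef]
      rw [← Subgroup.card_mul_index N, Nat.mul_div_cancel_left _ Nat.card_pos]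
    letI := Fintype.ofFinite (Sylow p G)
    rw [← hn]
    -- each element of order `p` lies in exactly one Sylow subgroup
    have hz : ∀ (P : Sylow p G) (g : G), g ∈ (P : Subgroup G) → orderOf g = p →
        Subgroup.zpowers g = (P : Subgroup G) := fun P g hg ho =>
      Subgroup.eq_of_le_of_card_ge (Subgroup.zpowers_le.2 hg) (by rw [hall, Nat.card_zpowers, ho])
    let F : (Σ P : Sylow p G, {y : (P : Subgroup G) // y ≠ 1}) → {g : G // orderOf g = p} :=
      fun y => ⟨(y.2.1 : G), by
        rw [Subgroup.orderOf_coe]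
        refine ((Nat.dvd_prime hp.out).1 ?_).resolve_left fun h => y.2.2 (orderOf_eq_one_iff.1 h)
        exact (orderOf_dvd_natCard y.2.1).trans (hall y.1).dvd⟩
    have hF : Function.Bijective F := by
      refine ⟨?_, fun g => ?_⟩
      · rintro ⟨P, y, hy⟩ ⟨Q, z, hz'⟩ h
        have hyz : (y : G) = z := congrArg Subtype.val h
        obtain rfl : P = Q := Sylow.ext (by
          rw [← hz P y y.2 (F ⟨P, y, hy⟩).2, ← hz Q z z.2 (F ⟨Q, z, hz'⟩).2, hyz])
        obtain rfl : y = z := Subtype.ext hyz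
        rfl
      · obtain ⟨Q, hQ⟩ := (IsPGroup.of_card (n := 1)
          (by rw [Nat.card_zpowers, g.2, pow_one]) : IsPGroup p (Subgroup.zpowers g.1)).exists_le_sylow
        refine ⟨⟨Q, ⟨g, hQ (Subgroup.mem_zpowers g.1)⟩, fun h => ?_⟩, Subtype.ext rfl⟩
        have h1 := g.2
        rw [show g.1 = 1 from congrArg Subtype.val h, orderOf_one] at h1
        exact hp.out.ne_one h1.symm
    rw [← Nat.card_congr (Equiv.ofBijective F hF), Nat.card_sigma,
      Finset.sum_congr rfl (g := fun _ => p - 1) fun Q _ => ?_, Finset.sum_const, Finset.card_univ,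
      smul_eq_mul, Nat.card_eq_fintype_card (α := Sylow p G)]
    letI := Fintype.ofFinite (Q : Subgroup G)
    rw [Nat.card_eq_fintype_card, Fintype.card_subtype_compl, Fintype.card_subtype_eq,
      ← Nat.card_eq_fintype_card, hall]
  · have hle : C ⊓ H ≤ N ⊓ H := inf_le_inf_right H hCN
    refine ⟨(C ⊓ H).relIndex (N ⊓ H), ?_, ?_⟩
    · have e1 : (C ⊓ H).relIndex (N ⊓ H) = C.relIndex (N ⊓ H) := by
        rw [← Subgroup.inf_relIndex_right C (N ⊓ H)]
        congr 1
        exact le_antisymm (le_inf inf_le_left hle) (le_inf inf_le_left (inf_le_right.trans inf_le_right))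
      rw [e1, ← Subgroup.relIndex_subgroupOf (inf_le_left : N ⊓ H ≤ N)]
      exact Subgroup.relIndex_dvd_index_of_normal _ _
    · rw [mul_rel _ _ hle]
      exact hsub H hxH

/-- The elements of a centralizer, through a map with kernel generated by the element. -/
theorem cent_profile {C R : Type*} [Group C] [Finite C] [Group R] {p : ℕ} (hp : p.Prime) (φ : C →* R)
    (x : C) (hx : orderOf x = p) (hker : φ.ker = Subgroup.zpowers x) (hcen : ∀ c, Commute x c) :
    (∀ (c : C) (j : ℕ), φ c ^ j = 1 → orderOf c ∣ p * j) ∧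
      ∀ q : ℕ, q.Prime → q ≠ p →
        Nat.card {c : C // orderOf c = q} = Nat.card {r : φ.range // orderOf r = q} := by
  have hxp : ∀ i : ℤ, (x ^ i) ^ p = 1 := fun i => by
    rw [← zpow_natCast, ← zpow_mul, mul_comm, zpow_mul, zpow_natCast, ← hx, pow_orderOf_eq_one, one_zpow]
  refine ⟨fun c j h => ?_, fun q hq hqp => ?_⟩
  · have hmem : c ^ j ∈ φ.ker := by rw [MonoidHom.mem_ker, map_pow]; exact h
    rw [hker] at hmem
    obtain ⟨i, hi⟩ := hmem
    refine orderOf_dvd_of_pow_eq_one ?_
    rw [mul_comm, pow_mul, ← hi]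
    exact hxp i
  haveI := Fact.mk hq
  have hcop : Nat.Coprime p q := (Nat.coprime_primes hp hq).2 hqp.symm
  have hkey : ∀ c : C, orderOf c = q → φ c ≠ 1 := fun c hc h => by
    have hmem : c ∈ φ.ker := h
    rw [hker] at hmem
    obtain ⟨i, hi⟩ := hmem
    have h2 : orderOf c ∣ p := orderOf_dvd_of_pow_eq_one (hi ▸ hxp i)
    rw [hc] at h2
    exact hqp ((Nat.prime_dvd_prime_iff_eq hq hp).1 h2)
  let F : {c : C // orderOf c = q} → {r : φ.range // orderOf r = q} := fun c => ⟨⟨φ c, c.1, rfl⟩,
    orderOf_eq_prime (Subtype.ext (by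
      show φ c.1 ^ q = 1
      rw [← map_pow, orderOf_dvd_iff_pow_eq_one.1 (dvd_of_eq c.2), map_one])) fun e => hkey c c.2 (congrArg Subtype.val e)⟩
  refine Nat.card_congr (Equiv.ofBijective F ⟨fun c d h => ?_, fun r => ?_⟩)
  · have h1 : φ c.1 = φ d.1 := congrArg (fun v : {r : φ.range // orderOf r = q} => (v.1 : R)) h
    have hmem : d.1⁻¹ * c.1 ∈ φ.ker := by rw [MonoidHom.mem_ker, map_mul, map_inv, h1, inv_mul_cancel]
    rw [hker] at hmem
    obtain ⟨i, hi⟩ := hmem
    have hi : x ^ i = d.1⁻¹ * c.1 := hi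
    have hc : c.1 = d.1 * x ^ i := by rw [hi, mul_inv_cancel_left]
    have h3 : (x ^ i) ^ q = 1 := by
      have := orderOf_dvd_iff_pow_eq_one.1 (dvd_of_eq c.2)
      rwa [hc, ((hcen d.1).zpow_left i).symm.mul_pow, orderOf_dvd_iff_pow_eq_one.1 (dvd_of_eq d.2),
        one_mul] at this
    have h4 : x ^ i = 1 := by
      have h5 := pow_gcd_eq_one.2 ⟨hxp i, h3⟩
      rwa [hcop, pow_one] at h5
    exact Subtype.ext (by rw [hc, h4, mul_one])
  · obtain ⟨⟨s, c, rfl⟩, hr⟩ := r
    obtain ⟨a, ha0, ha1⟩ := Nat.chineseRemainder hcop 0 1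
    have hs : orderOf (φ c) = q := (Subgroup.orderOf_mk _ _).symm.trans hr
    have hsa : φ (c ^ a) = φ c := by
      rw [map_pow, pow_eq_pow_iff_modEq.2 (hs.symm ▸ ha1 : a ≡ 1 [MOD orderOf (φ c)]), pow_one]
    refine ⟨⟨c ^ a, orderOf_eq_prime ?_ fun e => ?_⟩, Subtype.ext (Subtype.ext hsa)⟩
    · have hmem : c ^ q ∈ φ.ker := by
        rw [MonoidHom.mem_ker, map_pow, ← hs, pow_orderOf_eq_one]
      rw [hker] at hmem
      obtain ⟨i, hi⟩ := hmem
      obtain ⟨b, hb⟩ := Nat.modEq_zero_iff_dvd.1 ha0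
      rw [← pow_mul, mul_comm, pow_mul, ← hi, hb, pow_mul]
      show ((x ^ i) ^ p) ^ b = 1
      rw [hxp, one_pow]
    · rw [e, map_one] at hsa
      rw [← hsa, orderOf_one] at hs
      exact hq.ne_one hs.symm

end Cfsg.Agent.M24Nse
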