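import Cfsg.Agent.M24Nse.Basic
import Cfsg.Agent.M24Nse.ModelTools
import Cfsg.Agent.BlockApp.M24Cent

/-!
# The numbers of elements of each order of the largest Mathieu group

The centralizers of the elements of order 5, 7, 11 and 23 follow from the fixed points and the
congruences for the numbers of Sylow subgroups; the two classes of elements of order 3 follow from
the congruences at 5 and 7.
-/

set_option autoImplicit false
set_option linter.unusedSectionVars false
set_option linter.style.haveILetI false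

namespace Cfsg.Agent.M24Nse.Model

open Cfsg Cfsg.Agent
open Cfsg.Agent.BlockApp.M24Cent (G fxg mem_fxg card_G fix_count pair_data restr restr_apply fac_G)

theorem card_eq : Nat.card G = 244823040 := card_G

theorem isConj_of_reps {g h : G} {k l r : Equiv.Perm GolayPt} (hk : k ∈ M24) (hl : l ∈ M24)
    (e1 : k * (g : Equiv.Perm GolayPt) * k⁻¹ = r) (e2 : l * (h : Equiv.Perm GolayPt) * l⁻¹ = r) :
    IsConj g h := by
  refine isConj_iff.2 ⟨(⟨l, hl⟩ : G)⁻¹ * ⟨k, hk⟩, Subtype.ext ?_⟩
  show (l⁻¹ * k) * (g : Equiv.Perm GolayPt) * (l⁻¹ * k)⁻¹ = h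
  calc (l⁻¹ * k) * (g : Equiv.Perm GolayPt) * (l⁻¹ * k)⁻¹ = l⁻¹ * (k * g * k⁻¹) * l := by group
    _ = h := by rw [e1, ← e2]; group

theorem fix_conj {g h : G} (hc : IsConj g h) : (fxg g).card = (fxg h).card := by
  classical
  obtain ⟨c, rfl⟩ := isConj_iff.1 hc
  refine Finset.card_bij (fun a _ => (c : Equiv.Perm GolayPt) a) (fun a ha => ?_) (fun a _ b _ h => (c : Equiv.Perm GolayPt).injective h) fun b hb => ?_
  · rw [mem_fxg] at ha ⊢
    show ((c : Equiv.Perm GolayPt) * g * (c : Equiv.Perm GolayPt)⁻¹) ((c : Equiv.Perm GolayPt) a) = _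
    simp [ha]
  · rw [mem_fxg] at hb
    refine ⟨(c : Equiv.Perm GolayPt)⁻¹ b, ?_, by simp⟩
    rw [mem_fxg]
    have h' : ((c : Equiv.Perm GolayPt) * g * (c : Equiv.Perm GolayPt)⁻¹) b = b := hb
    rw [Equiv.Perm.mul_apply, Equiv.Perm.mul_apply] at h'
    apply (c : Equiv.Perm GolayPt).injective
    rw [h']
    simp

theorem mem_cent {x y : G} (h : Commute x y) : y ∈ Subgroup.centralizer ({x} : Set G) :=
  Subgroup.mem_centralizer_singleton_iff.2 h.symm

theorem commute_of_mem {x : G} (c : Subgroup.centralizer ({x} : Set G)) : Commute x (c : G) :=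
  (Subgroup.mem_centralizer_singleton_iff.1 c.2).symm

theorem dvd_cent {x y : G} (h : Commute x y) :
    orderOf y ∣ Nat.card (Subgroup.centralizer ({x} : Set G)) :=
  Subgroup.orderOf_dvd_natCard _ (mem_cent h)

theorem exists_of_dvd {x : G} {q : ℕ} (hq : q.Prime)
    (h : q ∣ Nat.card (Subgroup.centralizer ({x} : Set G))) :
    ∃ y : G, orderOf y = q ∧ Commute x y := by
  haveI := Fact.mk hq
  obtain ⟨z, hz⟩ := exists_prime_orderOf_dvd_card' q h
  exact ⟨z, by rw [Subgroup.orderOf_coe, hz], commute_of_mem z⟩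

/-- With one class of subgroups of order `p`, commuting passes to every element of order `p`. -/
theorem exists_commute_conj {p : ℕ} [hp : Fact p.Prime] (hfac : (Nat.card G).factorization p = 1)
    {x z t : G} (hx : orderOf x = p) (hz : orderOf z = p) (hc : Commute z t) :
    ∃ t' : G, IsConj t t' ∧ Commute x t' := by
  have hall : ∀ P : Sylow p G, Nat.card (P : Subgroup G) = p := fun P => by
    rw [P.card_eq_multiplicity, hfac, pow_one]
  have hS : ∀ w : G, orderOf w = p → ∃ P : Sylow p G, (P : Subgroup G) = Subgroup.zpowers w := by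
    intro w hw
    obtain ⟨P, hP⟩ := (IsPGroup.of_card (n := 1) (by rw [Nat.card_zpowers, hw, pow_one]) :
      IsPGroup p (Subgroup.zpowers w)).exists_le_sylow
    exact ⟨P, (Subgroup.eq_of_le_of_card_ge hP (by rw [Nat.card_zpowers, hw, hall P])).symm⟩
  obtain ⟨P, hP⟩ := hS z hz
  obtain ⟨Q, hQ⟩ := hS x hx
  obtain ⟨k, hk⟩ := MulAction.exists_smul_eq G P Q
  have hxQ : x ∈ ((k • P : Sylow p G) : Subgroup G) := by rw [hk, hQ]; exact Subgroup.mem_zpowers x
  rw [Sylow.coe_subgroup_smul, hP] at hxQ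
  obtain ⟨w, ⟨i, rfl⟩, hw⟩ := hxQ
  refine ⟨k * t * k⁻¹, isConj_iff.2 ⟨k, rfl⟩, ?_⟩
  rw [← hw]
  exact ((hc.zpow_left i).map (MulAut.conj k).toMonoidHom)

/-! ### Involutions -/

theorem exists_inv_rep (j : ℕ) (hj : j < 2) : ∃ t : G, orderOf t = 2 ∧
    (fxg t).card = if j = 0 then 8 else 0 := by
  have hl : j < Compute.syl2Reps.length := by simpa [Compute.syl2Reps] using hj
  have hh := Compute.classReps_facts.1
  rw [List.all_append, Bool.and_eq_true, List.all_eq_true, List.all_eq_true] at hh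
  have hmem := (Compute.mem_M24_of_check (hh.1 _ (List.getElem_mem hl))).2
  rw [← List.getD_eq_getElem _ Compute.rep24.one hl] at hmem
  have hord : orderOf (Compute.rep24.den (Compute.syl2Reps.getD j Compute.rep24.one)) = 2 := by
    have h := List.all_eq_true.mp Compute.classReps_facts.2.1 _ (List.getElem_mem hl)
    rw [← List.getD_eq_getElem _ Compute.rep24.one hl, Bool.and_eq_true, Bool.not_eq_true',
      Bool.eq_false_iff] at h
    have hok := (Compute.rep_ok j).1
    obtain ⟨hokp, hdenp⟩ := Compute.rep24.powCode_spec hok 2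
    have := Fact.mk Nat.prime_two
    exact orderOf_eq_prime (hdenp ▸ (Compute.idB_iff hokp).mp h.2)
      fun e => h.1 ((Compute.idB_iff hok).mpr e)
  refine ⟨⟨_, hmem⟩, by rw [← Subgroup.orderOf_coe]; exact hord, ?_⟩
  rcases (by omega : j = 0 ∨ j = 1) with rfl | rfl
  · rw [if_pos rfl]
    show (Finset.univ.filter fun p => _ = p).card = 8
    rw [Compute.fixFilter_rep (Compute.rep_ok 0).1, Compute.card_suppM]
    have h := Compute.fixMask_facts.1
    rw [Bool.and_eq_true, Nat.beq_eq] at h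
    exact h.1
  · rw [if_neg (by norm_num)]
    exact Compute.card_fixFilter_zero (Compute.fixFilter_zero (Compute.rep_ok 1).1
      Compute.fixMask_facts.2.1)

theorem count_two : Nat.card {g : G // orderOf g = 2} = 43263 := by
  obtain ⟨a, ha, hfa⟩ := exists_inv_rep 0 (by norm_num)
  obtain ⟨b, hb, hfb⟩ := exists_inv_rep 1 (by norm_num)
  rw [if_pos rfl] at hfa
  rw [if_neg (by norm_num)] at hfb
  rw [count_two_classes a b ha hb (fun h => by have := fix_conj h; omega) fun g hg => ?_, card_eq]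
  · rcases BlockApp.M24Cent.card_centralizer_inv a ha with ⟨-, hA⟩ | ⟨h, -⟩
    · rcases BlockApp.M24Cent.card_centralizer_inv b hb with ⟨h, -⟩ | ⟨-, hB⟩
      · omega
      · rw [hA, hB]
    · omega
  · have hg' : orderOf (g : Equiv.Perm GolayPt) = 2 := by rw [Subgroup.orderOf_coe, hg]
    have ha' : orderOf (a : Equiv.Perm GolayPt) = 2 := by rw [Subgroup.orderOf_coe, ha]
    have hb' : orderOf (b : Equiv.Perm GolayPt) = 2 := by rw [Subgroup.orderOf_coe, hb]
    rcases Compute.involution_cases g.2 hg' with ⟨-, -, k, hk, e⟩ | ⟨-, k, hk, e⟩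
    · rcases Compute.involution_cases a.2 ha' with ⟨-, -, l, hl, e'⟩ | ⟨h0, -⟩
      · exact Or.inl (isConj_of_reps hl hk e' e)
      · have h0' : (fxg a).card = 0 := Compute.card_fixFilter_zero h0
        omega
    · rcases Compute.involution_cases b.2 hb' with ⟨h8, -⟩ | ⟨-, l, hl, e'⟩
      · have h8' : (fxg b).card = 8 := h8
        omega
      · exact Or.inr (isConj_of_reps hl hk e' e)

/-! ### Centralizers of the elements of order 5 and 7 -/

theorem five_table : ∀ C ∈ [10, 20, 30, 60], ∀ e ∈ [1, 2, 4], 244823040 / (C * e) % 5 = 1 →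
    (C = 60 ∧ e = 4) ∨ ∀ j ∈ [10, 20, 30, 60], j ∣ C → ∀ e' ∈ [1, 2, 4], e' ∣ e →
      7680 / (j * e') % 5 ≠ 1 := by decide +kernel

theorem seven_table : ∀ C ∈ [14, 42], ∀ e ∈ [1, 2, 3, 6], 244823040 / (C * e) % 7 = 1 →
    (C = 42 ∧ e = 3) ∨ ∀ j ∈ [14, 42], j ∣ C → ∀ e' ∈ [1, 2, 3, 6], e' ∣ e →
      21504 / (j * e') % 7 ≠ 1 := by decide +kernel

set_option synthInstance.maxSize 4000 in
theorem five_cases : ∀ c : ℕ, c < 61 → c ∣ 120 → 5 ∣ c → 2 ∣ c → ¬ 8 ∣ c → c ∈ [10, 20, 30, 60] := by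
  decide +kernel

set_option synthInstance.maxSize 4000 in
theorem seven_cases : ∀ c : ℕ, c < 43 → c ∣ 42 → 7 ∣ c → 2 ∣ c → c ∈ [14, 42] := by decide +kernel

theorem dvd_four : ∀ e : ℕ, e < 5 → e ∣ 4 → e ∈ [1, 2, 4] := by decide +kernel

theorem dvd_six : ∀ e : ℕ, e < 7 → e ∣ 6 → e ∈ [1, 2, 3, 6] := by decide +kernel

theorem five_data {x : G} (hx : orderOf x = 5) :
    Nat.card (Subgroup.centralizer ({x} : Set G)) = 60 ∧
      Nat.card {g : G // orderOf g = 5} = 4080384 := by
  haveI : Fact (Nat.Prime 5) := ⟨by norm_num⟩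
  haveI : Fact (Nat.Prime 2) := ⟨Nat.prime_two⟩
  have hfac := fac_G (q := 5) (by norm_num)
  -- an involution commuting with `x`
  obtain ⟨t₀, ht₀, hf₀⟩ := exists_inv_rep 1 (by norm_num)
  rw [if_neg (by norm_num)] at hf₀
  have hC₀ : Nat.card (Subgroup.centralizer ({t₀} : Set G)) = 7680 := by
    rcases BlockApp.M24Cent.card_centralizer_inv t₀ ht₀ with ⟨h, -⟩ | ⟨-, h⟩
    · omega
    · exact h
  obtain ⟨z, hz, hzc⟩ := exists_of_dvd (x := t₀) (q := 5) (by norm_num) (by rw [hC₀]; norm_num)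
  obtain ⟨t, htc, hxt⟩ := exists_commute_conj hfac hx hz hzc.symm
  have ht : orderOf t = 2 := by
    obtain ⟨c, rfl⟩ := isConj_iff.1 htc
    exact ((MulAut.conj c).orderOf_eq t₀).trans ht₀
  have hCt : Nat.card (Subgroup.centralizer ({t} : Set G)) = 7680 := by
    rcases BlockApp.M24Cent.card_centralizer_inv t ht with ⟨h, -⟩ | ⟨-, h⟩
    · rw [← fix_conj htc] at h
      omega
    · exact h
  set C := Subgroup.centralizer ({x} : Set G) with hCdef
  obtain ⟨hb2, hb60⟩ := BlockApp.M24Cent.five_bound x hx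
  have h4 : (fxg x).card = 4 := by simpa using fix_count x (by norm_num) hx
  have hd := (BlockApp.M24Cent.card_dvd_ker_mul x).trans
    (mul_dvd_mul_right (BlockApp.M24Cent.card_ker_dvd x (Or.inl rfl) hx) _)
  rw [h4, show 5 * Nat.factorial 4 = 120 by decide] at hd
  have h8 : ¬ 8 ∣ Nat.card C := fun h => by
    have := (Nat.prime_two.pow_dvd_iff_le_factorization Nat.card_pos.ne').1
      (show 2 ^ 3 ∣ Nat.card C from h)
    exact absurd (this.trans hb2) (by norm_num)
  have hC := five_cases _ (Nat.lt_succ_of_le hb60) hd (hx ▸ dvd_cent (Commute.refl x))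
    (ht ▸ dvd_cent hxt) h8
  obtain ⟨e, he, -, hmod, hcount, hsub⟩ := sylow_data hfac hx
  rw [card_eq] at hmod hcount
  have he' := dvd_four e (Nat.lt_succ_of_le (Nat.le_of_dvd (by norm_num) he)) he
  rcases five_table _ hC e he' hmod with ⟨h1, h2⟩ | h
  · refine ⟨h1, ?_⟩
    rw [hcount, h1, h2]
  · exfalso
    have hxH : x ∈ Subgroup.centralizer ({t} : Set G) := mem_cent hxt.symm
    obtain ⟨e', hee, -, hmod'⟩ := hsub _ hxH
    rw [hCt] at hmod'
    set J := C ⊓ Subgroup.centralizer ({t} : Set G) with hJ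
    have hJC : Nat.card J ∣ Nat.card C := Subgroup.card_dvd_of_le inf_le_left
    have hxJ : 5 ∣ Nat.card J := hx ▸ Subgroup.orderOf_dvd_natCard J (x := x)
      (Subgroup.mem_inf.2 ⟨mem_cent (Commute.refl x), hxH⟩)
    have htJ : 2 ∣ Nat.card J := ht ▸ Subgroup.orderOf_dvd_natCard J (x := t)
      (Subgroup.mem_inf.2 ⟨mem_cent hxt, mem_cent (Commute.refl t)⟩)
    exact h _ (five_cases _ (Nat.lt_succ_of_le ((Nat.le_of_dvd Nat.card_pos hJC).trans hb60))
      (hJC.trans hd) hxJ htJ fun h' => h8 (h'.trans hJC)) hJC e'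
      (dvd_four e' (Nat.lt_succ_of_le (Nat.le_of_dvd (by norm_num) (hee.trans he))) (hee.trans he)) hee
      hmod'

theorem seven_data {x : G} (hx : orderOf x = 7) :
    Nat.card (Subgroup.centralizer ({x} : Set G)) = 42 ∧
      Nat.card {g : G // orderOf g = 7} = 11658240 := by
  haveI : Fact (Nat.Prime 7) := ⟨by norm_num⟩
  haveI : Fact (Nat.Prime 2) := ⟨Nat.prime_two⟩
  have hfac := fac_G (q := 7) (by norm_num)
  obtain ⟨t₀, ht₀, hf₀⟩ := exists_inv_rep 0 (by norm_num)
  rw [if_pos rfl] at hf₀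
  have hC₀ : Nat.card (Subgroup.centralizer ({t₀} : Set G)) = 21504 := by
    rcases BlockApp.M24Cent.card_centralizer_inv t₀ ht₀ with ⟨-, h⟩ | ⟨h, -⟩
    · exact h
    · omega
  obtain ⟨z, hz, hzc⟩ := exists_of_dvd (x := t₀) (q := 7) (by norm_num) (by rw [hC₀]; norm_num)
  obtain ⟨t, htc, hxt⟩ := exists_commute_conj hfac hx hz hzc.symm
  have ht : orderOf t = 2 := by
    obtain ⟨c, rfl⟩ := isConj_iff.1 htc
    exact ((MulAut.conj c).orderOf_eq t₀).trans ht₀
  have hCt : Nat.card (Subgroup.centralizer ({t} : Set G)) = 21504 := by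
    rcases BlockApp.M24Cent.card_centralizer_inv t ht with ⟨-, h⟩ | ⟨h, -⟩
    · exact h
    · rw [← fix_conj htc] at h
      omega
  set C := Subgroup.centralizer ({x} : Set G) with hCdef
  obtain ⟨-, hb42⟩ := BlockApp.M24Cent.seven_bound x hx
  have h3 : (fxg x).card = 3 := by simpa using fix_count x (by norm_num) hx
  have hd := (BlockApp.M24Cent.card_dvd_ker_mul x).trans
    (mul_dvd_mul_right (BlockApp.M24Cent.card_ker_dvd x (Or.inr rfl) hx) _)
  rw [h3, show 7 * Nat.factorial 3 = 42 by decide] at hd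
  have hC := seven_cases _ (Nat.lt_succ_of_le hb42) hd (hx ▸ dvd_cent (Commute.refl x))
    (ht ▸ dvd_cent hxt)
  obtain ⟨e, he, -, hmod, hcount, hsub⟩ := sylow_data hfac hx
  rw [card_eq] at hmod hcount
  have he' := dvd_six e (Nat.lt_succ_of_le (Nat.le_of_dvd (by norm_num) he)) he
  rcases seven_table _ hC e he' hmod with ⟨h1, h2⟩ | h
  · refine ⟨h1, ?_⟩
    rw [hcount, h1, h2]
  · exfalso
    have hxH : x ∈ Subgroup.centralizer ({t} : Set G) := mem_cent hxt.symm
    obtain ⟨e', hee, -, hmod'⟩ := hsub _ hxH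
    rw [hCt] at hmod'
    set J := C ⊓ Subgroup.centralizer ({t} : Set G) with hJ
    have hJC : Nat.card J ∣ Nat.card C := Subgroup.card_dvd_of_le inf_le_left
    have hxJ : 7 ∣ Nat.card J := hx ▸ Subgroup.orderOf_dvd_natCard J (x := x)
      (Subgroup.mem_inf.2 ⟨mem_cent (Commute.refl x), hxH⟩)
    have htJ : 2 ∣ Nat.card J := ht ▸ Subgroup.orderOf_dvd_natCard J (x := t)
      (Subgroup.mem_inf.2 ⟨mem_cent hxt, mem_cent (Commute.refl t)⟩)
    exact h _ (seven_cases _ (Nat.lt_succ_of_le ((Nat.le_of_dvd Nat.card_pos hJC).trans hb42))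
      (hJC.trans hd) hxJ htJ) hJC e'
      (dvd_six e' (Nat.lt_succ_of_le (Nat.le_of_dvd (by norm_num) (hee.trans he))) (hee.trans he)) hee
      hmod'

/-! ### The element orders in these centralizers -/

theorem card_sub_orderOf {R : Type*} [Group R] (S : Subgroup R) {q : ℕ} (hq : q.Prime) :
    Nat.card {r : S // orderOf r = q} = Nat.card {r : R // r ∈ S ∧ r ^ q = 1 ∧ r ≠ 1} := by
  haveI := Fact.mk hq
  refine Nat.card_congr
    { toFun := fun r => ⟨r.1.1, r.1.2, ?_, fun h => ?_⟩
      invFun := fun r => ⟨⟨r.1, r.2.1⟩, orderOf_eq_prime (Subtype.ext r.2.2.1)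
        fun h => r.2.2.2 (congrArg Subtype.val h)⟩
      left_inv := fun r => rfl
      right_inv := fun r => rfl }
  · exact congrArg Subtype.val (orderOf_dvd_iff_pow_eq_one.1 (dvd_of_eq r.2) : r.1 ^ q = 1)
  · have h' := r.2
    rw [show r.1 = 1 from Subtype.ext h, orderOf_one] at h'
    exact hq.ne_one h'.symm

theorem alt_facts : (∀ r : Equiv.Perm (Fin 4), Equiv.Perm.sign r = 1 → r ^ 2 = 1 ∨ r ^ 3 = 1) ∧
    Fintype.card {r : Equiv.Perm (Fin 4) // Equiv.Perm.sign r = 1 ∧ r ^ 2 = 1 ∧ r ≠ 1} = 3 ∧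
    Fintype.card {r : Equiv.Perm (Fin 4) // Equiv.Perm.sign r = 1 ∧ r ^ 3 = 1 ∧ r ≠ 1} = 8 := by
  decide +kernel

theorem sym_facts : (∀ r : Equiv.Perm (Fin 3), r ^ 2 = 1 ∨ r ^ 3 = 1) ∧
    Fintype.card {r : Equiv.Perm (Fin 3) // r ^ 2 = 1 ∧ r ≠ 1} = 3 ∧
    Fintype.card {r : Equiv.Perm (Fin 3) // r ^ 3 = 1 ∧ r ≠ 1} = 2 := by
  decide +kernel

/-- The restriction to the fixed points, as permutations of `Fin m`. -/
theorem exists_restr (x : G) {p : ℕ} (hp : p = 5 ∨ p = 7) (hx : orderOf x = p) {m : ℕ}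
    (hm : (fxg x).card = m) :
    ∃ φ : Subgroup.centralizer ({x} : Set G) →* Equiv.Perm (Fin m),
      φ.ker = Subgroup.zpowers (⟨x, mem_cent (Commute.refl x)⟩ : Subgroup.centralizer ({x} : Set G)) ∧
        p * Nat.card φ.range = Nat.card (Subgroup.centralizer ({x} : Set G)) := by
  classical
  have σ : {a // a ∈ fxg x} ≃ Fin m :=
    Fintype.equivFinOfCardEq (by rw [Fintype.card_coe, hm])
  let φ := (Equiv.permCongrHom σ).toMonoidHom.comp (restr x)
  let x' : Subgroup.centralizer ({x} : Set G) := ⟨x, mem_cent (Commute.refl x)⟩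
  have hker : φ.ker = (restr x).ker := by
    ext c
    simp only [MonoidHom.mem_ker, φ, MonoidHom.comp_apply, MulEquiv.coe_toMonoidHom,
      MulEquiv.map_eq_one_iff]
  have hxk : x' ∈ (restr x).ker := by
    rw [MonoidHom.mem_ker]
    refine Equiv.ext fun a => Subtype.ext ?_
    rw [restr_apply, Equiv.Perm.one_apply]
    exact mem_fxg.1 a.2
  have hx' : Nat.card (Subgroup.zpowers x') = p := by
    rw [Nat.card_zpowers, ← hx, ← Subgroup.orderOf_coe]
  have hpp : p.Prime := by rcases hp with rfl | rfl <;> norm_num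
  have heq : Subgroup.zpowers x' = (restr x).ker :=
    Subgroup.eq_of_le_of_card_ge (Subgroup.zpowers_le.2 hxk)
      (by rw [hx']; exact Nat.le_of_dvd hpp.pos (BlockApp.M24Cent.card_ker_dvd x hp hx))
  refine ⟨φ, hker.trans heq.symm, ?_⟩
  rw [← Subgroup.index_ker, hker, ← heq, ← hx']
  exact Subgroup.card_mul_index _

theorem five_profile {x : G} (hx : orderOf x = 5) :
    Nat.card {y : Subgroup.centralizer ({x} : Set G) // orderOf y = 2} = 3 ∧
      Nat.card {y : Subgroup.centralizer ({x} : Set G) // orderOf y = 3} = 8 ∧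
      ∀ c : Subgroup.centralizer ({x} : Set G), orderOf c ∣ 10 ∨ orderOf c ∣ 15 := by
  classical
  obtain ⟨φ, hker, hcard⟩ := exists_restr x (Or.inl rfl) hx
    (show (fxg x).card = 4 by simpa using fix_count x (by norm_num) hx)
  rw [(five_data hx).1] at hcard
  have hidx : φ.range.index = 2 := by
    have h := Subgroup.card_mul_index φ.range
    rw [Nat.card_perm, Nat.card_fin, show Nat.factorial 4 = 24 by decide,
      show Nat.card φ.range = 12 by omega] at h
    omega
  have hR : φ.range = alternatingGroup (Fin 4) := Equiv.Perm.eq_alternatingGroup_of_index_eq_two hidx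
  obtain ⟨hord, hcnt⟩ := cent_profile (p := 5) (by norm_num) φ _
    (by rw [← hx, ← Subgroup.orderOf_coe]) hker
    (fun c => Subtype.ext (commute_of_mem c).eq)
  refine ⟨?_, ?_, fun c => ?_⟩
  · rw [hcnt 2 Nat.prime_two (by norm_num), card_sub_orderOf _ Nat.prime_two]
    refine Eq.trans ?_ (Nat.card_eq_fintype_card.trans alt_facts.2.1)
    exact Nat.card_congr (Equiv.subtypeEquivRight fun r => by rw [hR, Equiv.Perm.mem_alternatingGroup])
  · rw [hcnt 3 Nat.prime_three (by norm_num), card_sub_orderOf _ Nat.prime_three]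
    refine Eq.trans ?_ (Nat.card_eq_fintype_card.trans alt_facts.2.2)
    exact Nat.card_congr (Equiv.subtypeEquivRight fun r => by rw [hR, Equiv.Perm.mem_alternatingGroup])
  · have hc : φ c ∈ alternatingGroup (Fin 4) := hR ▸ ⟨c, rfl⟩
    rcases alt_facts.1 (φ c) (Equiv.Perm.mem_alternatingGroup.1 hc) with h | h
    · exact Or.inl (hord c 2 h)
    · exact Or.inr (hord c 3 h)

theorem seven_profile {x : G} (hx : orderOf x = 7) :
    Nat.card {y : Subgroup.centralizer ({x} : Set G) // orderOf y = 2} = 3 ∧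
      Nat.card {y : Subgroup.centralizer ({x} : Set G) // orderOf y = 3} = 2 ∧
      ∀ c : Subgroup.centralizer ({x} : Set G), orderOf c ∣ 14 ∨ orderOf c ∣ 21 := by
  classical
  obtain ⟨φ, hker, hcard⟩ := exists_restr x (Or.inr rfl) hx
    (show (fxg x).card = 3 by simpa using fix_count x (by norm_num) hx)
  rw [(seven_data hx).1] at hcard
  have hR : φ.range = ⊤ := Subgroup.eq_top_of_card_eq _ (by
    rw [Nat.card_perm, Nat.card_fin, show Nat.factorial 3 = 6 by decide]; omega)
  obtain ⟨hord, hcnt⟩ := cent_profile (p := 7) (by norm_num) φ _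
    (by rw [← hx, ← Subgroup.orderOf_coe]) hker
    (fun c => Subtype.ext (commute_of_mem c).eq)
  refine ⟨?_, ?_, fun c => ?_⟩
  · rw [hcnt 2 Nat.prime_two (by norm_num), card_sub_orderOf _ Nat.prime_two]
    refine Eq.trans ?_ (Nat.card_eq_fintype_card.trans sym_facts.2.1)
    exact Nat.card_congr (Equiv.subtypeEquivRight fun r => by simp [hR])
  · rw [hcnt 3 Nat.prime_three (by norm_num), card_sub_orderOf _ Nat.prime_three]
    refine Eq.trans ?_ (Nat.card_eq_fintype_card.trans sym_facts.2.2)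
    exact Nat.card_congr (Equiv.subtypeEquivRight fun r => by simp [hR])
  · rcases sym_facts.1 (φ c) with h | h
    · exact Or.inl (hord c 2 h)
    · exact Or.inr (hord c 3 h)

/-! ### The two classes of elements of order 3 -/

theorem fix_three {y : G} (hy : orderOf y = 3) : (fxg y).card = 6 ∨ (fxg y).card = 0 := by
  have h := fix_count y Nat.prime_three hy
  simp only [List.mem_cons, Prod.mk.injEq, List.not_mem_nil, or_false] at h
  omega

theorem conj_three {y z : G} (hy : orderOf y = 3) (hz : orderOf z = 3)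
    (hf : (fxg y).card = (fxg z).card) : IsConj y z := by
  have hy' : orderOf (y : Equiv.Perm GolayPt) = 3 := by rw [Subgroup.orderOf_coe, hy]
  have hz' : orderOf (z : Equiv.Perm GolayPt) = 3 := by rw [Subgroup.orderOf_coe, hz]
  rcases Compute.three_cases y.2 hy' with ⟨a, k, hk, e⟩ | ⟨a, k, hk, e⟩ <;>
    rcases Compute.three_cases z.2 hz' with ⟨b, l, hl, e'⟩ | ⟨b, l, hl, e'⟩
  · exact isConj_of_reps hk hl e e'
  · have h1 : (fxg y).card = 6 := a
    have h2 : (fxg z).card = 0 := Compute.card_fixFilter_zero b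
    omega
  · have h1 : (fxg z).card = 6 := b
    have h2 : (fxg y).card = 0 := Compute.card_fixFilter_zero a
    omega
  · exact isConj_of_reps hk hl e e'

theorem three_dvd {y : G} (hy : orderOf y = 3) :
    8 ∣ Nat.card (Subgroup.centralizer ({y} : Set G)) ∧ ¬ 16 ∣ Nat.card (Subgroup.centralizer ({y} : Set G)) ∧
      3 ∣ Nat.card (Subgroup.centralizer ({y} : Set G)) ∧ ¬ 11 ∣ Nat.card (Subgroup.centralizer ({y} : Set G)) ∧
      ¬ 23 ∣ Nat.card (Subgroup.centralizer ({y} : Set G)) := by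
  refine ⟨?_, ?_, hy ▸ dvd_cent (Commute.refl y), ?_, ?_⟩
  · exact (Nat.prime_two.pow_dvd_iff_le_factorization (k := 3) Nat.card_pos.ne').2
      (BlockApp.M24Cent.three_lower y hy)
  · intro h
    have h4 := (Nat.prime_two.pow_dvd_iff_le_factorization (k := 4) Nat.card_pos.ne').1 h
    have := BlockApp.M24Cent.three_bound y hy
    omega
  all_goals
    intro h
    obtain ⟨x, hx, hc⟩ := exists_of_dvd (by norm_num) h
    have := BlockApp.M24Cent.big_prime x y hc.symm (by norm_num) Nat.prime_three hx hy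
    omega

theorem dvd_reduce {c r s : ℕ} (hc : c ∣ 244823040) (hrs : r * s = 35) (h16 : ¬ 16 ∣ c) (h11 : ¬ 11 ∣ c)
    (h23 : ¬ 23 ∣ c) (hr : r.Prime) (hrc : ¬ r ∣ c) : c ∣ 8 * 27 * s := by
  have hcop : Nat.Coprime c (11 * 23 * r) :=
    (((Nat.Prime.coprime_iff_not_dvd (by norm_num)).2 h11).symm.mul_right
      ((Nat.Prime.coprime_iff_not_dvd (by norm_num)).2 h23).symm).mul_right
      ((Nat.Prime.coprime_iff_not_dvd hr).2 hrc).symm
  have h1 : c ∣ 2 ^ 10 * (27 * s) := hcop.dvd_of_dvd_mul_right (by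
    rw [show 2 ^ 10 * (27 * s) * (11 * 23 * r) = 2 ^ 10 * 27 * 11 * 23 * (r * s) by ring, hrs]
    exact hc.trans (by norm_num))
  obtain ⟨a, b, ha, hb, rfl⟩ := Nat.dvd_mul.1 h1
  obtain ⟨k, -, rfl⟩ := (Nat.dvd_prime_pow Nat.prime_two).1 ha
  rw [mul_assoc]
  refine mul_dvd_mul ?_ hb
  have hk : k ≤ 3 := by
    by_contra hk
    exact h16 ((pow_dvd_pow 2 (show 4 ≤ k by omega)).trans (dvd_mul_right _ _))
  exact pow_dvd_pow 2 hk

theorem three_table : ∀ a ∈ [1, 3, 9], ∀ b ∈ [1, 3, 9],
    (244823040 / (120 * a) + 244823040 / (168 * b)) % 5 = 3 →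
      (244823040 / (120 * a) + 244823040 / (168 * b)) % 7 = 2 →
        244823040 / (120 * a) + 244823040 / (168 * b) = 712448 := by decide +kernel

theorem dvd_nine : ∀ a : ℕ, a < 10 → a ∣ 9 → a ∈ [1, 3, 9] := by decide +kernel

theorem exists_order {p : ℕ} (hp : p = 5 ∨ p = 7 ∨ p = 11 ∨ p = 23) : ∃ x : G, orderOf x = p := by
  haveI : Fact p.Prime := ⟨by rcases hp with rfl | rfl | rfl | rfl <;> norm_num⟩
  exact exists_prime_orderOf_dvd_card' p
    (by rw [card_eq]; rcases hp with rfl | rfl | rfl | rfl <;> norm_num)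

theorem count_three : Nat.card {g : G // orderOf g = 3} = 712448 := by
  haveI : Fact (Nat.Prime 5) := ⟨by norm_num⟩
  haveI : Fact (Nat.Prime 7) := ⟨by norm_num⟩
  obtain ⟨x5, hx5⟩ := exists_order (p := 5) (by norm_num)
  obtain ⟨x7, hx7⟩ := exists_order (p := 7) (by norm_num)
  have hf5 : (fxg x5).card = 4 := by simpa using fix_count x5 (by norm_num) hx5
  have hf7 : (fxg x7).card = 3 := by simpa using fix_count x7 (by norm_num) hx7
  obtain ⟨a, ha, hac⟩ := exists_of_dvd (x := x5) Nat.prime_three (by rw [(five_data hx5).1]; norm_num)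
  obtain ⟨b, hb, hbc⟩ := exists_of_dvd (x := x7) Nat.prime_three (by rw [(seven_data hx7).1]; norm_num)
  have h56 : ∀ y : G, orderOf y = 3 → ∀ x : G, orderOf x = 5 → Commute x y → (fxg y).card = 6 := by
    intro y hy x hx hc
    obtain ⟨h1, h2, h3, h4⟩ := pair_data x y hc (by norm_num) Nat.prime_three hx hy
    have hx' : (fxg x).card = 4 := by simpa using fix_count x (by norm_num) hx
    rcases fix_three hy with h | h <;> omega
  have h70 : ∀ y : G, orderOf y = 3 → ∀ x : G, orderOf x = 7 → Commute x y → (fxg y).card = 0 := by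
    intro y hy x hx hc
    obtain ⟨h1, h2, h3, h4⟩ := pair_data x y hc (by norm_num) Nat.prime_three hx hy
    have hx' : (fxg x).card = 3 := by simpa using fix_count x (by norm_num) hx
    rcases fix_three hy with h | h <;> omega
  have hfa := h56 a ha x5 hx5 hac
  have hfb := h70 b hb x7 hx7 hbc
  obtain ⟨ha8, ha16, ha3, ha11, ha23⟩ := three_dvd ha
  obtain ⟨hb8, hb16, hb3, hb11, hb23⟩ := three_dvd hb
  have ha5 : 5 ∣ Nat.card (Subgroup.centralizer ({a} : Set G)) := hx5 ▸ dvd_cent hac.symm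
  have hb7 : 7 ∣ Nat.card (Subgroup.centralizer ({b} : Set G)) := hx7 ▸ dvd_cent hbc.symm
  have ha7 : ¬ 7 ∣ Nat.card (Subgroup.centralizer ({a} : Set G)) := fun h => by
    obtain ⟨x, hx, hc⟩ := exists_of_dvd (by norm_num) h
    have := h70 a ha x hx hc.symm
    omega
  have hb5 : ¬ 5 ∣ Nat.card (Subgroup.centralizer ({b} : Set G)) := fun h => by
    obtain ⟨x, hx, hc⟩ := exists_of_dvd (by norm_num) h
    have := h56 b hb x hx hc.symm
    omega
  have hdG : ∀ y : G, Nat.card (Subgroup.centralizer ({y} : Set G)) ∣ 244823040 := fun y =>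
    card_eq ▸ Subgroup.card_subgroup_dvd_card _
  have hA := dvd_reduce (s := 5) (hdG a) rfl ha16 ha11 ha23 (by norm_num) ha7
  have hB := dvd_reduce (s := 7) (hdG b) rfl hb16 hb11 hb23 (by norm_num) hb5
  obtain ⟨i, hi⟩ : 120 ∣ Nat.card (Subgroup.centralizer ({a} : Set G)) :=
    (by norm_num : Nat.Coprime (8 * 3) 5).mul_dvd_of_dvd_of_dvd
      ((by norm_num : Nat.Coprime 8 3).mul_dvd_of_dvd_of_dvd ha8 ha3) ha5
  obtain ⟨l, hl⟩ : 168 ∣ Nat.card (Subgroup.centralizer ({b} : Set G)) :=
    (by norm_num : Nat.Coprime (8 * 3) 7).mul_dvd_of_dvd_of_dvd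
      ((by norm_num : Nat.Coprime 8 3).mul_dvd_of_dvd_of_dvd hb8 hb3) hb7
  have hi9 : i ∣ 9 := Nat.dvd_of_mul_dvd_mul_left (show 0 < 120 by norm_num) (hi ▸ hA)
  have hl9 : l ∣ 9 := Nat.dvd_of_mul_dvd_mul_left (show 0 < 168 by norm_num) (hl ▸ hB)
  have hcount := count_two_classes a b ha hb (fun h => by have := fix_conj h; omega) fun g hg => by
    rcases fix_three hg with h | h
    · exact Or.inl (conj_three ha hg (hfa.trans h.symm))
    · exact Or.inr (conj_three hb hg (hfb.trans h.symm))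
  rw [card_eq, hi, hl] at hcount
  have m5 := card_modEq_cent (p := 5) hx5 3
  have m7 := card_modEq_cent (p := 7) hx7 3
  rw [(five_profile hx5).2.1, hcount] at m5
  rw [(seven_profile hx7).2.1, hcount] at m7
  rw [hcount]
  exact three_table i (dvd_nine i (Nat.lt_succ_of_le (Nat.le_of_dvd (by norm_num) hi9)) hi9)
    l (dvd_nine l (Nat.lt_succ_of_le (Nat.le_of_dvd (by norm_num) hl9)) hl9) m5 m7

/-! ### Elements of order 11 and 23 -/

theorem big_table : (∀ e < 11, e ∣ 10 → 244823040 / (11 * e) % 11 = 1 → e = 10) ∧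
    (∀ e < 23, e ∣ 22 → 244823040 / (23 * e) % 23 = 1 → e = 11) := by decide +kernel

theorem big_cent {p : ℕ} (hp : p = 11 ∨ p = 23) {x : G} (hx : orderOf x = p) :
    Nat.card (Subgroup.centralizer ({x} : Set G)) = p := by
  have hpp : p.Prime := by rcases hp with rfl | rfl <;> norm_num
  have hk := Nat.eq_prime_pow_of_unique_prime_dvd
    (Nat.card_pos (α := Subgroup.centralizer ({x} : Set G))).ne' fun {r} hr hrd => by
      obtain ⟨y, hy, hc⟩ := exists_of_dvd hr hrd
      exact BlockApp.M24Cent.big_prime x y hc hp hr hx hy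
  have hd : p ∣ Nat.card (Subgroup.centralizer ({x} : Set G)) := hx ▸ dvd_cent (Commute.refl x)
  have hdG := Subgroup.card_subgroup_dvd_card (Subgroup.centralizer ({x} : Set G))
  have hfac := fac_G (q := p) (by omega)
  rw [hk] at hd hdG ⊢
  have h1 := (hpp.pow_dvd_iff_le_factorization Nat.card_pos.ne').1 hdG
  rw [hfac] at h1
  rcases Nat.le_one_iff_eq_zero_or_eq_one.1 h1 with h | h
  · rw [h, pow_zero] at hd
    exact absurd (Nat.dvd_one.1 hd) hpp.ne_one
  · rw [h, pow_one]

theorem count_eleven : Nat.card {g : G // orderOf g = 11} = 22256640 := by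
  haveI : Fact (Nat.Prime 11) := ⟨by norm_num⟩
  obtain ⟨x, hx⟩ := exists_order (p := 11) (by norm_num)
  obtain ⟨e, he, -, hmod, hcount, -⟩ := sylow_data (fac_G (by norm_num)) hx
  rw [card_eq, big_cent (Or.inl rfl) hx] at hmod hcount
  rw [hcount, big_table.1 e (Nat.lt_succ_of_le (Nat.le_of_dvd (by norm_num) he)) he hmod]

theorem count_twentythree : Nat.card {g : G // orderOf g = 23} = 21288960 := by
  haveI : Fact (Nat.Prime 23) := ⟨by norm_num⟩
  obtain ⟨x, hx⟩ := exists_order (p := 23) (by norm_num)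
  obtain ⟨e, he, -, hmod, hcount, -⟩ := sylow_data (fac_G (by norm_num)) hx
  rw [card_eq, big_cent (Or.inr rfl) hx] at hmod hcount
  rw [hcount, big_table.2 e (Nat.lt_succ_of_le (Nat.le_of_dvd (by norm_num) he)) he hmod]

/-! ### Orders that are products of two primes -/

theorem count_five_mul {q k : ℕ} (hq : q.Prime) (h5 : 5 ≠ q)
    (hk : ∀ x : G, orderOf x = 5 →
      Nat.card {y : Subgroup.centralizer ({x} : Set G) // orderOf y = q} = k) :
    Nat.card {g : G // orderOf g = 5 * q} = 4080384 * k := by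
  obtain ⟨x, hx⟩ := exists_order (p := 5) (by norm_num)
  rw [card_orderOf_prime_mul (by norm_num) hq h5 hk, (five_data hx).2]

theorem count_seven_mul {q k : ℕ} (hq : q.Prime) (h7 : 7 ≠ q)
    (hk : ∀ x : G, orderOf x = 7 →
      Nat.card {y : Subgroup.centralizer ({x} : Set G) // orderOf y = q} = k) :
    Nat.card {g : G // orderOf g = 7 * q} = 11658240 * k := by
  obtain ⟨x, hx⟩ := exists_order (p := 7) (by norm_num)
  rw [card_orderOf_prime_mul (by norm_num) hq h7 hk, (seven_data hx).2]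

theorem div_table : (∀ n < 16, n ∣ 10 ∨ n ∣ 15 → n ∈ [1, 2, 3, 5, 10, 15]) ∧
    ∀ n < 22, n ∣ 14 ∨ n ∣ 21 → n ∈ [1, 2, 3, 7, 14, 21] := by decide +kernel

theorem otherwise {n : ℕ} (hn : n ∉ [1, 2, 3, 5, 10, 15, 7, 14, 21, 11, 23]) :
    17710 ∣ Nat.card {g : G // orderOf g = n} := by
  simp only [List.mem_cons, List.not_mem_nil, or_false, not_or] at hn
  by_cases h0 : n = 0
  · have : IsEmpty {g : G // orderOf g = n} := ⟨fun g => by
      have := orderOf_pos g.1
      rw [g.2, h0] at this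
      omega⟩
    rw [Nat.card_of_isEmpty]
    exact dvd_zero _
  have h2 : 2 ∣ Nat.card {g : G // orderOf g = n} := two_dvd_card_orderOf (by omega)
  have none_of : ∀ {p : ℕ} [Fact p.Prime] {x : G}, orderOf x = p →
      (∀ c : Subgroup.centralizer ({x} : Set G), orderOf c ≠ n) →
      p ∣ Nat.card {g : G // orderOf g = n} := by
    intro p _ x hx hnone
    have h := card_modEq_cent hx n
    have : IsEmpty {c : Subgroup.centralizer ({x} : Set G) // orderOf c = n} := ⟨fun c => hnone c.1 c.2⟩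
    rw [Nat.card_of_isEmpty (α := {c : Subgroup.centralizer ({x} : Set G) // orderOf c = n})] at h
    exact Nat.modEq_zero_iff_dvd.1 h
  have h5 : 5 ∣ Nat.card {g : G // orderOf g = n} := by
    haveI : Fact (Nat.Prime 5) := ⟨by norm_num⟩
    obtain ⟨x, hx⟩ := exists_order (p := 5) (by norm_num)
    refine none_of hx fun c hc => ?_
    have h := (five_profile hx).2.2 c
    rw [hc] at h
    have hle : n ≤ 15 := h.elim (fun h => (Nat.le_of_dvd (by norm_num) h).trans (by norm_num))
      (Nat.le_of_dvd (by norm_num))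
    have hm := div_table.1 n (by omega) h
    simp only [List.mem_cons, List.not_mem_nil, or_false] at hm
    omega
  have h7 : 7 ∣ Nat.card {g : G // orderOf g = n} := by
    haveI : Fact (Nat.Prime 7) := ⟨by norm_num⟩
    obtain ⟨x, hx⟩ := exists_order (p := 7) (by norm_num)
    refine none_of hx fun c hc => ?_
    have h := (seven_profile hx).2.2 c
    rw [hc] at h
    have hle : n ≤ 21 := h.elim (fun h => (Nat.le_of_dvd (by norm_num) h).trans (by norm_num))
      (Nat.le_of_dvd (by norm_num))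
    have hm := div_table.2 n (by omega) h
    simp only [List.mem_cons, List.not_mem_nil, or_false] at hm
    omega
  have hbig : ∀ p : ℕ, p = 11 ∨ p = 23 → p ∣ Nat.card {g : G // orderOf g = n} := by
    intro p hp
    haveI : Fact p.Prime := ⟨by rcases hp with rfl | rfl <;> norm_num⟩
    obtain ⟨x, hx⟩ := exists_order (p := p) (by omega)
    refine none_of hx fun c hc => ?_
    have h := hc ▸ orderOf_dvd_natCard c
    rw [big_cent hp hx] at h
    rcases (Nat.dvd_prime (Fact.out : p.Prime)).1 h with h | h <;> omega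
  have e : (17710 : ℕ) = 2 * 5 * 7 * 11 * 23 := by norm_num
  rw [e]
  exact (by norm_num : Nat.Coprime (2 * 5 * 7 * 11) 23).mul_dvd_of_dvd_of_dvd
    ((by norm_num : Nat.Coprime (2 * 5 * 7) 11).mul_dvd_of_dvd_of_dvd
      ((by norm_num : Nat.Coprime (2 * 5) 7).mul_dvd_of_dvd_of_dvd
        ((by norm_num : Nat.Coprime 2 5).mul_dvd_of_dvd_of_dvd h2 h5) h7) (hbig 11 (Or.inl rfl)))
    (hbig 23 (Or.inr rfl))

theorem values : Nat.card {g : G // orderOf g = 1} = 1 ∧
    Nat.card {g : G // orderOf g = 5} = 4080384 ∧ Nat.card {g : G // orderOf g = 10} = 12241152 ∧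
    Nat.card {g : G // orderOf g = 15} = 32643072 ∧ Nat.card {g : G // orderOf g = 7} = 11658240 ∧
    Nat.card {g : G // orderOf g = 14} = 34974720 ∧ Nat.card {g : G // orderOf g = 21} = 23316480 := by
  obtain ⟨x, hx⟩ := exists_order (p := 5) (by norm_num)
  obtain ⟨y, hy⟩ := exists_order (p := 7) (by norm_num)
  refine ⟨?_, (five_data hx).2, ?_, ?_, (seven_data hy).2, ?_, ?_⟩
  · rw [Nat.card_congr (Equiv.subtypeEquivRight fun g : G => orderOf_eq_one_iff), Nat.card_unique]
  · exact count_five_mul Nat.prime_two (by norm_num) fun z hz => (five_profile hz).1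
  · exact count_five_mul Nat.prime_three (by norm_num) fun z hz => (five_profile hz).2.1
  · exact count_seven_mul Nat.prime_two (by norm_num) fun z hz => (seven_profile hz).1
  · exact count_seven_mul Nat.prime_three (by norm_num) fun z hz => (seven_profile hz).2.1

end Cfsg.Agent.M24Nse.Model

namespace Cfsg.Agent.M24Nse

/-- The counts of the element orders of the largest Mathieu group. -/
theorem counts_m24 (n : ℕ) : Counts (Nat.card {g : ↥Cfsg.M24 // orderOf g = n}) := by
  obtain ⟨v1, v5, v10, v15, v7, v14, v21⟩ := Model.values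
  unfold Counts
  by_cases hn : n ∈ [1, 2, 3, 5, 10, 15, 7, 14, 21, 11, 23]
  · simp only [List.mem_cons, List.not_mem_nil, or_false] at hn
    rcases hn with rfl | rfl | rfl | rfl | rfl | rfl | rfl | rfl | rfl | rfl | rfl
    · simp only [v1]; norm_num
    · simp only [Model.count_two]; norm_num
    · simp only [Model.count_three]; norm_num
    · simp only [v5]; norm_num
    · simp only [v10]; norm_num
    · simp only [v15]; norm_num
    · simp only [v7]; norm_num
    · simp only [v14]; norm_num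
    · simp only [v21]; norm_num
    · simp only [Model.count_eleven]; norm_num
    · simp only [Model.count_twentythree]; norm_num
  · exact Or.inr <| Or.inr <| Or.inr <| Or.inr <| Or.inr <| Or.inr <| Or.inr <| Or.inr <| Or.inr <|
      Or.inr <| Or.inr <| Model.otherwise hn

end Cfsg.Agent.M24Nse
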