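import Cfsg.Agent.Fg24.M23.IdentArith

/-!
# Permutations of twenty-four points

The affine permutations of degree twenty-three with one point added, and `x ↦ -1 / x`.
-/

set_option autoImplicit false

namespace Cfsg.Agent.M24Nse

open Cfsg.Agent.Fg24.M23 (sigma23 mu23 tau23)

/-- The twenty-four points. -/
abbrev Pt : Type := Option (ZMod 23)

/-- A permutation of twenty-three points with one fixed point added. -/
def ext : Equiv.Perm (ZMod 23) →* Equiv.Perm Pt where
  toFun q := Equiv.optionCongr q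
  map_one' := Equiv.optionCongr_one
  map_mul' a b := by
    apply Equiv.ext
    rintro (_ | x) <;> rfl

theorem ext_none (q : Equiv.Perm (ZMod 23)) : ext q none = none := rfl

theorem ext_some (q : Equiv.Perm (ZMod 23)) (x : ZMod 23) : ext q (some x) = some (q x) := rfl

theorem ext_injective : Function.Injective ext := fun a b h =>
  Equiv.ext fun x => Option.some_injective _ (congrArg (fun p : Equiv.Perm Pt => p (some x)) h)

theorem exists_restrict (p : Equiv.Perm Pt) (h : p none = none) :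
    ∃ q : Equiv.Perm (ZMod 23), p = ext q := by
  refine ⟨Equiv.removeNone p, Equiv.ext fun o => ?_⟩
  rcases o with _ | x
  · rw [h, ext_none]
  · rw [ext_some]
    have hne : p (some x) ≠ none := fun e => by
      have := p.injective (e.trans h.symm)
      simp at this
    obtain ⟨y, hy⟩ := Option.ne_none_iff_exists'.1 hne
    rw [Equiv.removeNone_some p ⟨y, hy⟩]

/-- `x ↦ c / x` on the squares and `x ↦ d / x` on the nonsquares, exchanging zero and infinity. -/
def recipFun (c d : ZMod 23) : Pt → Pt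
  | none => some 0
  | some x => if x = 0 then none else if x ^ 11 = 1 then some (c * x ^ 21) else some (d * x ^ 21)

/-- The inversion `x ↦ -1 / x`. -/
def recip : Equiv.Perm Pt :=
  ⟨recipFun (-1) (-1), recipFun (-1) (-1), by unfold Function.LeftInverse; decide +kernel,
    by unfold Function.RightInverse Function.LeftInverse; decide +kernel⟩

/-- The odd candidates. -/
def cand (i : Fin 11) : Equiv.Perm Pt :=
  ⟨recipFun 1 (2 ^ (i : ℕ)), recipFun 1 (2 ^ (i : ℕ)),
    by revert i; unfold Function.LeftInverse; decide +kernel,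
    by revert i; unfold Function.RightInverse Function.LeftInverse; decide +kernel⟩

theorem sign_cand : ∀ i : Fin 11, Equiv.Perm.sign (cand i) = -1 := by decide +kernel

/-- The nonzero residues by signed powers of two. -/
theorem signed_log : ∀ x : ZMod 23, x ≠ 0 →
    ∃ i : Fin 11, x = 2 ^ (i : ℕ) ∨ x = -(2 ^ (i : ℕ)) := by decide +kernel

theorem pow_values : ∀ i : Fin 11, (2 : ZMod 23) ^ (i : ℕ) ≠ 0 ∧ -((2 : ZMod 23) ^ (i : ℕ)) ≠ 0 ∧
    ((2 : ZMod 23) ^ (i : ℕ)) ^ 11 = 1 ∧ (-((2 : ZMod 23) ^ (i : ℕ))) ^ 11 ≠ 1 ∧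
    ((2 : ZMod 23) ^ (i : ℕ)) ^ 21 = 12 ^ (i : ℕ) ∧
    (-((2 : ZMod 23) ^ (i : ℕ))) ^ 21 = -(12 ^ (i : ℕ)) ∧
    ∃ j : Fin 11, (12 : ZMod 23) ^ (j : ℕ) = 2 ^ (i : ℕ) := by decide +kernel

theorem unit_scale : ∀ a : ZMod 23, a ≠ 0 →
    ∃ j : Fin 11, (2 : ZMod 23) ^ (j : ℕ) * a = 1 ∨ (2 : ZMod 23) ^ (j : ℕ) * a = -1 := by
  decide +kernel

theorem double_fixed : ∀ p : Pt, ext mu23 p = p → p = none ∨ p = some 0 := by decide +kernel

/-- The standard generators. -/
def gens : Set (Equiv.Perm Pt) := {ext sigma23, ext mu23, ext tau23, recip}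

/-- The permutations anticommuting with the doubling and exchanging zero and infinity. -/
theorem recip_unique {f : ZMod 23 → ZMod 23} (h : ∀ x, x ≠ 0 → 2 * f (2 * x) = f x)
    (hinj : ∀ x y, x ≠ 0 → y ≠ 0 → f x = f y → x = y) (hne : ∀ x, x ≠ 0 → f x ≠ 0)
    (hinv : ∀ x, x ≠ 0 → f (f x) = x) (h1 : f 1 = 1 ∨ f 1 = -1) :
    (∃ i : Fin 11, ∀ x, x ≠ 0 → some (f x) = recipFun 1 (2 ^ (i : ℕ)) (some x)) ∨
      ∀ x, x ≠ 0 → some (f x) = recipFun (-1) (-1) (some x) := by
  have h24 : ((12 : ZMod 23) * 2) = 1 := by decide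
  have two_ne : (2 : ZMod 23) ≠ 0 := by decide
  have one_ne : (1 : ZMod 23) ≠ 0 := by decide
  have hpow : ∀ (i : ℕ) (y : ZMod 23), y ≠ 0 → f (2 ^ i * y) = 12 ^ i * f y := by
    intro i y hy
    induction i with
    | zero => simp
    | succ i ih =>
      have hy2 : (2 : ZMod 23) ^ i * y ≠ 0 := by
        haveI : Fact (Nat.Prime 23) := ⟨by norm_num⟩
        exact mul_ne_zero (pow_ne_zero _ two_ne) hy
      have := h _ hy2
      rw [ih, ← mul_assoc, ← pow_succ'] at this
      rw [pow_succ' (12 : ZMod 23), mul_assoc, ← this]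
      linear_combination (-(f (2 ^ (i + 1) * y))) * h24
  have hval : ∀ i : Fin 11, f (2 ^ (i : ℕ)) = 12 ^ (i : ℕ) * f 1 ∧
      f (-(2 ^ (i : ℕ))) = 12 ^ (i : ℕ) * f (-1) := fun i => by
    have e1 := hpow i 1 one_ne
    have e2 := hpow i (-1) (by decide)
    rw [mul_one] at e1
    rw [mul_neg_one] at e2
    exact ⟨e1, e2⟩
  rcases h1 with h1 | h1
  · left
    obtain ⟨i, hi | hi⟩ := signed_log (f (-1)) (hne _ (by decide))
    · exfalso
      obtain ⟨-, -, -, -, -, -, j, hj⟩ := pow_values i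
      have e := (hval j).1
      rw [h1, mul_one, hj, ← hi] at e
      have := hinj _ _ (pow_values j).1 (by decide) e
      have h11 := (pow_values j).2.2.1
      rw [this] at h11
      exact absurd h11 (by decide)
    · refine ⟨i, fun x hx => ?_⟩
      obtain ⟨k, rfl | rfl⟩ := signed_log x hx
      · obtain ⟨p1, -, p3, -, p5, -, -⟩ := pow_values k
        rw [(hval k).1, h1, recipFun, if_neg p1, if_pos p3, p5, mul_comm]
      · obtain ⟨-, p2, -, p4, -, p6, -⟩ := pow_values k
        rw [(hval k).2, hi, recipFun, if_neg p2, if_neg p4, p6]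
        congr 1
        ring
  · right
    have h2 : f (-1) = 1 := by rw [← h1]; exact hinv 1 one_ne
    intro x hx
    obtain ⟨k, rfl | rfl⟩ := signed_log x hx
    · obtain ⟨p1, -, p3, -, p5, -, -⟩ := pow_values k
      rw [(hval k).1, h1, recipFun, if_neg p1, if_pos p3, p5, mul_comm]
    · obtain ⟨-, p2, -, p4, -, p6, -⟩ := pow_values k
      rw [(hval k).2, h2, recipFun, if_neg p2, if_neg p4, p6]
      congr 1
      ring

end Cfsg.Agent.M24Nse
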