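import Cfsg.Agent.M24Nse.SevenClasses
import Cfsg.Agent.M24Nse.Five

/-!
# The columns at the elements with 7-part `x`, split into three integral components
-/

set_option autoImplicit false
set_option linter.unusedSectionVars false

namespace Cfsg.Agent.M24Nse

open scoped ComplexConjugate
open Cfsg.Agent Cfsg.Agent.Blocks

universe u

variable {G : Type u} [Group G] [Fintype G]

/-- The element orders on the side of seven. -/
def ords7 : Set ℕ := {7, 14, 21}

/-- The three components of the columns at elements with 7-part `x`. -/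
structure SevenParts (G : Type u) [Group G] [Fintype G] where
  /-- The first component. -/
  c1 : Cfsg.IrrCharacter G → ℤ
  /-- The second component. -/
  cs : Cfsg.IrrCharacter G → ℤ
  /-- The third component. -/
  c2 : Cfsg.IrrCharacter G → ℤ
  /-- The square of the irrational part. -/
  r : Cfsg.IrrCharacter G → ℤ
  col1 : InCol ords7 fun χ => (c1 χ : ℂ)
  colS : InCol ords7 fun χ => (cs χ : ℂ)
  col2 : InCol ords7 fun χ => (c2 χ : ℂ)
  sum1 : ∑ χ, c1 χ * c1 χ = 14
  sumS : ∑ χ, cs χ * cs χ = 14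
  sum2 : ∑ χ, c2 χ * c2 χ = 14
  sumR : ∑ χ, r χ = 42
  excl : ∀ χ, c1 χ * cs χ = 0 ∧ c1 χ * c2 χ = 0 ∧ cs χ * c2 χ = 0
  deg7 : ∀ χ, (7 : ℤ) ∣ (c1 χ + cs χ + 2 * c2 χ) - 2 * deg χ
  dvdU : ∀ χ, (deg χ : ℤ) ∣ 5829120 * (c1 χ + cs χ + 2 * c2 χ)
  dvdW : ∀ χ, (deg χ : ℤ) ∣ 11658240 * (c1 χ + cs χ - c2 χ)
  r_nonneg : ∀ χ, 0 ≤ r χ
  r7 : ∀ χ, (7 : ℤ) ∣ r χ
  r_par : ∀ χ, (2 : ℤ) ∣ r χ - (c1 χ + cs χ + c2 χ)
  r_conj : ∀ χ, r χ ≠ 0 → conjIrr χ ≠ χ ∧ c1 (conjIrr χ) = c1 χ ∧ cs (conjIrr χ) = cs χ ∧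
    c2 (conjIrr χ) = c2 χ ∧ r (conjIrr χ) = r χ
  triv : ∀ χ : Cfsg.IrrCharacter G, (∀ g, (χ : G → ℂ) g = 1) → c1 χ = 2 ∧ cs χ = 0 ∧ c2 χ = 0
  /-- An element of order seven. -/
  z : G
  z_order : orderOf z = 7
  z_index : (Subgroup.centralizer ({z} : Set G)).index = 5829120
  z_value : ∀ χ : Cfsg.IrrCharacter G,
    (χ : G → ℂ) z + (χ : G → ℂ) z⁻¹ = ((c1 χ + cs χ + 2 * c2 χ : ℤ) : ℂ)

namespace Seven

theorem counts :
    (∀ i, ((Finset.univ.filter fun b : Sym => cls b = 1).filter fun b => cls (b * 1) = i).card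
      = ![0, 3, 0] i) ∧
    (∀ i, ((Finset.univ.filter fun b : Sym => cls b = 1).filter fun b => cls (b * t) = i).card
      = ![1, 0, 2] i) ∧
    (∀ i, ((Finset.univ.filter fun b : Sym => cls b = 1).filter fun b => cls (b * w) = i).card
      = ![0, 3, 0] i) ∧
    (∀ i, ((Finset.univ.filter fun b : Sym => cls b = 1).filter fun b => cls (1 * b⁻¹) = i).card
      = ![0, 3, 0] i) ∧
    (∀ i, ((Finset.univ.filter fun b : Sym => cls b = 1).filter fun b => cls (t * b⁻¹) = i).card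
      = ![1, 0, 2] i) ∧
    ∀ i, ((Finset.univ.filter fun b : Sym => cls b = 1).filter fun b => cls (w * b⁻¹) = i).card
      = ![0, 3, 0] i := by decide +kernel

theorem card_commute : Nat.card {b : Sym // b * 1 = 1 * b} = 6 ∧
    Nat.card {b : Sym // b * t = t * b} = 2 ∧ Nat.card {b : Sym // b * w = w * b} = 3 := by
  simp only [Nat.card_eq_fintype_card]
  decide +kernel

end Seven

open Seven in
/-- The components exist. -/
theorem exists_sevenParts (hF : Facts G) : Nonempty (SevenParts G) := by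
  haveI : Fact (Nat.Prime 7) := ⟨by norm_num⟩
  obtain ⟨f, g, hinj, hrange, hgx, hno⟩ := hF.seven
  let L : Cent G 7 Sym := ⟨f, hinj, hrange, 36, by norm_num, pow_six⟩
  have hg : g * L.x * g⁻¹ = L.x ^ 2 := hgx
  have hno' : ∀ h : G, h * L.x * h⁻¹ ≠ L.x⁻¹ := hno
  have hO : Nat.card G = 244823040 := hF.card
  have hpairs : ∀ (χ : Cfsg.IrrCharacter G) (a : Sym),
      (∃ n : ℤ, (χ : G → ℂ) (L.el a) + (χ : G → ℂ) (L.el a)⁻¹ = n) ∧
        ∃ n : ℤ, (χ : G → ℂ) (L.el a) * (χ : G → ℂ) (L.el a)⁻¹ = n :=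
    fun χ a => exists_int_pair χ _ _ fun k hk => by
      rw [hO] at hk
      rw [inv_pow]
      rcases conj_pow_el L hg a (hk.coprime_dvd_right (show 42 ∣ 244823040 by norm_num)) with h | h
      · exact Or.inl ⟨h, isConj_inv' h⟩
      · refine Or.inr ⟨h, ?_⟩
        have := isConj_inv' h
        rwa [inv_inv] at this
  choose U hU using fun χ => (hpairs χ 1).1
  choose B hB using fun χ => (hpairs χ t).1
  choose W hW using fun χ => (hpairs χ w).1
  choose N hN using fun χ => (hpairs χ w).2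
  obtain ⟨M, hM⟩ := Blocks.exists_isPModular 7 (by norm_num)
  obtain ⟨M2, hM2⟩ := Blocks.exists_isPModular 2 Nat.prime_two
  obtain ⟨M3, hM3⟩ := Blocks.exists_isPModular 3 Nat.prime_three
  have hcs : ∀ (χ : Cfsg.IrrCharacter G) (u : G),
      (conjIrr χ : G → ℂ) u = (χ : G → ℂ) u⁻¹ := conjIrr_apply
  -- congruences modulo two and three
  have hUB : ∀ χ, (2 : ℤ) ∣ B χ - U χ := fun χ => by
    refine (memLocalIdeal_intCast_iff hM2 _).1 ?_
    have ht : ∃ k, orderOf t = 2 ^ k := ⟨1, by rw [orderOf_t, pow_one]⟩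
    have h1 := memLocalIdeal_add hM2 (L.el_congr_x hM2 (by norm_num) χ ht)
      (L.el_congr_x hM2 (by norm_num) (conjIrr χ) ht)
    rw [hcs, hcs, ← L.el_one] at h1
    push_cast
    rw [← hB, ← hU]
    convert h1 using 1
    ring
  have hUW : ∀ χ, (3 : ℤ) ∣ U χ - W χ := fun χ => by
    refine (memLocalIdeal_intCast_iff hM3 _).1 ?_
    have ht : ∃ k, orderOf w = 3 ^ k := ⟨1, by rw [orderOf_w, pow_one]⟩
    have h1 := memLocalIdeal_neg (memLocalIdeal_add hM3 (L.el_congr_x hM3 (by norm_num) χ ht)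
      (L.el_congr_x hM3 (by norm_num) (conjIrr χ) ht))
    rw [hcs, hcs, ← L.el_one] at h1
    push_cast
    rw [← hW, ← hU]
    convert h1 using 1
    ring
  choose c2 hc2 using hUW
  choose k hk using hUB
  set c1 : Cfsg.IrrCharacter G → ℤ := fun χ => U χ - c2 χ + k χ with hc1
  set cs : Cfsg.IrrCharacter G → ℤ := fun χ => U χ - 2 * c2 χ - c1 χ with hcsd
  have hUs : ∀ χ, U χ = c1 χ + cs χ + 2 * c2 χ := fun χ => by simp only [hcsd]; ring
  have hWs : ∀ χ, W χ = c1 χ + cs χ - c2 χ := fun χ => by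
    have := hc2 χ
    simp only [hcsd]
    linarith
  have hBs : ∀ χ, B χ = c1 χ - cs χ := fun χ => by
    have := hk χ
    simp only [hcsd, hc1]
    linarith
  set r : Cfsg.IrrCharacter G → ℤ := fun χ => 4 * N χ - W χ * W χ with hr
  have hrW : ∀ χ, (r χ : ℂ) =
      -(((χ : G → ℂ) (L.el w) - (χ : G → ℂ) (L.el w)⁻¹) *
        ((χ : G → ℂ) (L.el w) - (χ : G → ℂ) (L.el w)⁻¹)) := fun χ => by
    simp only [hr]
    push_cast
    rw [← hW, ← hN]
    ring
  have hZ : ∀ z : ℤ, Cfsg.MemLocalRing M (z : ℂ) :=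
    fun z => memLocalRing_of_isIntegral hM (Blocks.isIntegral_intCast z)
  have hem : ∀ {a b : Sym}, cls a = cls b → IsConj (L.em a) (L.em b) := fun {a b} h =>
    L.isConj_em (isConj_iff.2 (conj_of_cls a b h))
  have hsum : ∀ (χ : Cfsg.IrrCharacter G) (n : Fin 3 → ℕ),
      ∑ i, (n i : ℂ) * (χ : G → ℂ) (L.el (rep i)) =
        n 0 * (χ : G → ℂ) (L.el 1) + n 1 * (χ : G → ℂ) (L.el t) + n 2 * (χ : G → ℂ) (L.el w) :=
    fun χ n => by rw [Fin.sum_univ_three]; rfl
  have hprod : ∀ χ, (7 : ℤ) ∣ c1 χ * cs χ ∧ (7 : ℤ) ∣ c1 χ * c2 χ ∧ (7 : ℤ) ∣ cs χ * c2 χ := by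
    intro χ
    obtain ⟨ω, hω, h⟩ := L.omega_congr_pair hM χ (fun k => IsConj (L.em t) k)
      (fun k c h => h.trans (isConj_iff.2 ⟨c, rfl⟩))
      (fun k h => by rw [← orderOf_eq_of_isConj h, L.orderOf_em, orderOf_t]; norm_num)
      (Finset.univ.filter fun b : Sym => cls b = 1) (fun a => by
        simp only [Finset.mem_filter, Finset.mem_univ, true_and]
        refine ⟨fun ha => hem (by rw [ha]; decide +kernel), fun ha => ?_⟩
        have h2 : orderOf a = orderOf t := by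
          rw [← L.orderOf_em, ← orderOf_eq_of_isConj ha, L.orderOf_em]
        rw [cls_eq_of_order h2]
        decide +kernel)
    obtain ⟨d1, d2, d3, d4, d5, d6⟩ := counts
    obtain ⟨p1, q1⟩ := h 1
    obtain ⟨p2, q2⟩ := h t
    obtain ⟨p3, q3⟩ := h w
    simp only [← hcs χ] at q1 q2 q3
    rw [sum_cls L χ _ _ _ d1, hsum] at p1
    rw [sum_cls L χ _ _ _ d2, hsum] at p2
    rw [sum_cls L χ _ _ _ d3, hsum] at p3
    rw [sum_cls L (conjIrr χ) _ _ _ d4, hsum] at q1
    rw [sum_cls L (conjIrr χ) _ _ _ d5, hsum] at q2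
    rw [sum_cls L (conjIrr χ) _ _ _ d6, hsum] at q3
    simp only [hcs χ] at q1 q2 q3
    simp at p1 p2 p3 q1 q2 q3
    have e1 := memLocalIdeal_add hM p1 q1
    have e2 := memLocalIdeal_add hM p2 q2
    have e3 := memLocalIdeal_add hM p3 q3
    have hfin : ∀ (c v : ℤ), ¬ (7 : ℤ) ∣ c → Cfsg.MemLocalIdeal M ((c : ℂ) * v) → (7 : ℤ) ∣ v := by
      intro c v hc hv
      rw [← Int.cast_mul, memLocalIdeal_intCast_iff hM] at hv
      exact ((Nat.prime_iff_prime_int.1 (by norm_num : Nat.Prime 7)).dvd_or_dvd hv).resolve_left hc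
    have cU : (χ : G → ℂ) (L.el 1) + (χ : G → ℂ) (L.el 1)⁻¹ =
        (c1 χ : ℂ) + cs χ + 2 * c2 χ := by rw [hU, hUs χ]; push_cast; ring
    have cB : (χ : G → ℂ) (L.el t) + (χ : G → ℂ) (L.el t)⁻¹ = (c1 χ : ℂ) - cs χ := by
      rw [hB, hBs χ]; push_cast; ring
    have cW : (χ : G → ℂ) (L.el w) + (χ : G → ℂ) (L.el w)⁻¹ = (c1 χ : ℂ) + cs χ - c2 χ := by
      rw [hW, hWs χ]; push_cast; ring
    have i0 := memLocalIdeal_sub hM e1 e3
    have ip := memLocalIdeal_add hM (memLocalIdeal_add hM e1 (memLocalIdeal_mul_left hM (hZ 2) e3))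
      (memLocalIdeal_mul_left hM (hZ 3) e2)
    have im := memLocalIdeal_sub hM (memLocalIdeal_add hM e1 (memLocalIdeal_mul_left hM (hZ 2) e3))
      (memLocalIdeal_mul_left hM (hZ 3) e2)
    refine ⟨hfin (-36) _ (by norm_num) ?_, hfin 18 _ (by norm_num) ?_, hfin (-18) _ (by norm_num) ?_⟩
    · have := memLocalIdeal_sub hM (memLocalIdeal_mul_left hM (hZ (cs χ)) ip)
        (memLocalIdeal_mul_left hM (hZ (c1 χ)) im)
      convert this using 1
      push_cast
      linear_combination (-(cs χ : ℂ) * (ω - 3) + (c1 χ : ℂ) * (ω + 3)) * cU +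
        (-(cs χ : ℂ) * (3 * ω - 9) + (c1 χ : ℂ) * (-(3 * ω) - 9)) * cB +
        (-(cs χ : ℂ) * (2 * ω - 6) + (c1 χ : ℂ) * (2 * ω + 6)) * cW
    · have := memLocalIdeal_sub hM (memLocalIdeal_mul_left hM (hZ (2 * c1 χ)) i0)
        (memLocalIdeal_mul_left hM (hZ (c2 χ)) ip)
      convert this using 1
      push_cast
      linear_combination (-2 * (c1 χ : ℂ) * ω + (c2 χ : ℂ) * (ω - 3)) * cU +
        ((c2 χ : ℂ) * (3 * ω - 9)) * cB +
        (2 * (c1 χ : ℂ) * ω + (c2 χ : ℂ) * (2 * ω - 6)) * cW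
    · have := memLocalIdeal_sub hM (memLocalIdeal_mul_left hM (hZ (2 * cs χ)) i0)
        (memLocalIdeal_mul_left hM (hZ (c2 χ)) im)
      convert this using 1
      push_cast
      linear_combination (-2 * (cs χ : ℂ) * ω + (c2 χ : ℂ) * (ω + 3)) * cU +
        ((c2 χ : ℂ) * (-(3 * ω) - 9)) * cB +
        (2 * (cs χ : ℂ) * ω + (c2 χ : ℂ) * (2 * ω + 6)) * cW
  -- columns
  have ho : ∀ a : Sym, orderOf (L.el a) ∈ ords7 ∧ orderOf (L.el a)⁻¹ ∈ ords7 := fun a => by
    rw [orderOf_inv, L.orderOf_el, orderOf_rep, and_self]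
    generalize cls a = i
    fin_cases i <;> simp [ords7]
  have colP : ∀ (a : Sym) (V : Cfsg.IrrCharacter G → ℤ),
      (∀ χ : Cfsg.IrrCharacter G, (χ : G → ℂ) (L.el a) + (χ : G → ℂ) (L.el a)⁻¹ = V χ) →
        InCol ords7 fun χ => (V χ : ℂ) := fun a V h =>
    ((InCol.base (ho a).1).add (InCol.base (ho a).2)).congr fun χ => (h χ).symm
  have colU := colP 1 U hU
  have colB := colP t B hB
  have colW := colP w W hW
  have col2 : InCol ords7 fun χ => (c2 χ : ℂ) :=
    ((colU.sub colW).smul (1 / 3)).congr fun χ => by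
      rw [hUs χ, hWs χ]; push_cast; ring
  have col1 : InCol ords7 fun χ => (c1 χ : ℂ) :=
    (((colU.sub (col2.smul 2)).add colB).smul (1 / 2)).congr fun χ => by
      rw [hUs χ, hBs χ]; push_cast; ring
  have colS : InCol ords7 fun χ => (cs χ : ℂ) :=
    (col1.sub colB).congr fun χ => by rw [hBs χ]; push_cast; ring
  -- orthogonality
  have hz : ∀ a b : Sym, ¬ IsConj (L.el a) (L.el b)⁻¹ := not_conj_inv L hno'
  have hpair : ∀ a b : Sym, cls a ≠ cls b → ∑ χ : Cfsg.IrrCharacter G,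
      ((χ : G → ℂ) (L.el a) + (χ : G → ℂ) (L.el a)⁻¹) *
        ((χ : G → ℂ) (L.el b) + (χ : G → ℂ) (L.el b)⁻¹) = 0 := by
    intro a b hab
    have hn : ¬ IsConj (L.el a) (L.el b) := fun h => hab
      (cls_eq_of_order (orderOf_eq_of_isConj (L.isConj_of_el h)))
    have h1 := orth (hz a b)
    have h2 := orth (u := L.el a) (v := (L.el b)⁻¹) (by rwa [inv_inv])
    have h3 := orth (u := (L.el a)⁻¹) (v := L.el b) (fun h => hn (by
      have := isConj_inv' h; rwa [inv_inv, inv_inv] at this))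
    have h4 := orth (u := (L.el a)⁻¹) (v := (L.el b)⁻¹) (by
      rw [inv_inv]; exact fun h => hz b a h.symm)
    simp only [add_mul, mul_add, Finset.sum_add_distrib, h1, h2, h3, h4]
    norm_num
  have hnorm : ∀ a : Sym, (∑ χ : Cfsg.IrrCharacter G,
      (χ : G → ℂ) (L.el a) * (χ : G → ℂ) (L.el a)⁻¹ =
        ((7 * Nat.card {b : Sym // b * a = a * b} : ℕ) : ℂ)) ∧
      ∑ χ : Cfsg.IrrCharacter G,
        ((χ : G → ℂ) (L.el a) + (χ : G → ℂ) (L.el a)⁻¹) *
          ((χ : G → ℂ) (L.el a) + (χ : G → ℂ) (L.el a)⁻¹) =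
        2 * ((7 * Nat.card {b : Sym // b * a = a * b} : ℕ) : ℂ) := by
    intro a
    have h1 := orth (hz a a)
    have h4 := orth (u := (L.el a)⁻¹) (v := (L.el a)⁻¹) (by
      rw [inv_inv]; exact fun h => hz a a h.symm)
    have h2 := orth_self (u := L.el a) (v := (L.el a)⁻¹) (by rw [inv_inv])
    rw [L.card_cent_el] at h2
    refine ⟨h2, ?_⟩
    have e : ∀ χ : Cfsg.IrrCharacter G,
        ((χ : G → ℂ) (L.el a) + (χ : G → ℂ) (L.el a)⁻¹) *
          ((χ : G → ℂ) (L.el a) + (χ : G → ℂ) (L.el a)⁻¹) =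
        (χ : G → ℂ) (L.el a) * (χ : G → ℂ) (L.el a) +
          (χ : G → ℂ) (L.el a)⁻¹ * (χ : G → ℂ) (L.el a)⁻¹ +
          2 * ((χ : G → ℂ) (L.el a) * (χ : G → ℂ) (L.el a)⁻¹) := fun χ => by ring
    simp only [e, Finset.sum_add_distrib, ← Finset.mul_sum, h1, h2, h4]
    ring
  obtain ⟨k1, kt, kw⟩ := card_commute
  have sUU : ∑ χ, (U χ : ℂ) * U χ = 84 := by
    have h := (hnorm 1).2
    simp only [hU, k1] at h
    rw [h]; norm_num
  have sBB : ∑ χ, (B χ : ℂ) * B χ = 28 := by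
    have h := (hnorm t).2
    simp only [hB, kt] at h
    rw [h]; norm_num
  have sWW : ∑ χ, (W χ : ℂ) * W χ = 42 := by
    have h := (hnorm w).2
    simp only [hW, kw] at h
    rw [h]; norm_num
  have sUB : ∑ χ, (U χ : ℂ) * B χ = 0 := by
    simpa only [hU, hB] using hpair 1 t (by decide +kernel)
  have sUW : ∑ χ, (U χ : ℂ) * W χ = 0 := by
    simpa only [hU, hW] using hpair 1 w (by decide +kernel)
  have sBW : ∑ χ, (B χ : ℂ) * W χ = 0 := by
    simpa only [hB, hW] using hpair t w (by decide +kernel)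
  have hquad : ∀ (p q t : ℂ),
      ∑ χ, (p * U χ + q * B χ + t * W χ) * (p * U χ + q * B χ + t * W χ) =
        84 * p * p + 28 * q * q + 42 * t * t := by
    intro p q t
    have e : ∀ χ, (p * U χ + q * B χ + t * W χ) * (p * U χ + q * B χ + t * W χ) =
        p * p * ((U χ : ℂ) * U χ) + q * q * ((B χ : ℂ) * B χ) + t * t * ((W χ : ℂ) * W χ) +
          2 * p * q * ((U χ : ℂ) * B χ) + 2 * p * t * ((U χ : ℂ) * W χ) +
          2 * q * t * ((B χ : ℂ) * W χ) := fun χ => by ring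
    simp only [e, Finset.sum_add_distrib, ← Finset.mul_sum, sUU, sBB, sWW, sUB, sUW, sBW]
    ring
  have hsq : ∀ (v : Cfsg.IrrCharacter G → ℤ) (p q t : ℂ),
      (∀ χ, (v χ : ℂ) = p * U χ + q * B χ + t * W χ) →
      84 * p * p + 28 * q * q + 42 * t * t = 14 → ∑ χ, v χ * v χ = 14 := fun v p q t hv h =>
    sum_intCast_eq (a := fun χ => v χ * v χ) (by
      simp only [Int.cast_mul, hv]
      rw [hquad, h]
      norm_num)
  have s1 := hsq c1 (1 / 6) (1 / 2) (1 / 3)
    (fun χ => by rw [hUs χ, hBs χ, hWs χ]; push_cast; ring) (by norm_num)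
  have sS := hsq cs (1 / 6) (-1 / 2) (1 / 3)
    (fun χ => by rw [hUs χ, hBs χ, hWs χ]; push_cast; ring) (by norm_num)
  have s2 := hsq c2 (1 / 3) 0 (-1 / 3)
    (fun χ => by rw [hUs χ, hWs χ]; push_cast; ring) (by norm_num)
  have sR : ∑ χ, r χ = 42 := sum_intCast_eq (by
    simp only [hr]
    push_cast
    simp only [Finset.sum_sub_distrib, ← Finset.mul_sum, sWW, ← hN, (hnorm w).1, kw]
    norm_num)
  have small : ∀ (v : Cfsg.IrrCharacter G → ℤ), ∑ χ, v χ * v χ = 14 →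
      ∀ χ, -3 ≤ v χ ∧ v χ ≤ 3 := fun v h χ => by
    have := Finset.single_le_sum (f := fun χ => v χ * v χ) (fun i _ => mul_self_nonneg _)
      (Finset.mem_univ χ)
    simp only [h] at this
    constructor <;> nlinarith
  have key : ∀ u v : ℤ, (-3 ≤ u ∧ u ≤ 3) → (-3 ≤ v ∧ v ≤ 3) → (7 : ℤ) ∣ u * v → u * v = 0 := by
    intro u v hu hv h
    rcases Int.Prime.dvd_mul' (p := 7) (by norm_num) h with h | h
    · rw [show u = 0 by omega, zero_mul]
    · rw [show v = 0 by omega, mul_zero]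
  have hidx : ∀ a, (Subgroup.centralizer ({L.el a} : Set G)).index *
      (7 * Nat.card {b : Sym // b * a = a * b}) = 244823040 := fun a => by
    rw [← L.card_cent_el, mul_comm, Subgroup.card_mul_index, hO]
  have hinvC : ∀ u : G, Subgroup.centralizer ({u⁻¹} : Set G) = Subgroup.centralizer ({u} : Set G) :=
    fun u => Subgroup.ext fun c => by
      rw [Subgroup.mem_centralizer_singleton_iff, Subgroup.mem_centralizer_singleton_iff]
      exact ⟨fun h => Commute.inv_right_iff.1 h, fun h => Commute.inv_right_iff.2 h⟩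
  have hi1 := hidx 1
  rw [k1] at hi1
  refine ⟨{ c1 := c1, cs := cs, c2 := c2, r := r, col1 := col1, colS := colS, col2 := col2
            sum1 := s1, sumS := sS, sum2 := s2, sumR := sR
            excl := fun χ => ?_, deg7 := fun χ => ?_, dvdU := fun χ => ?_, dvdW := fun χ => ?_
            r_nonneg := fun χ => ?_, r7 := fun χ => ?_, r_par := fun χ => ?_
            r_conj := fun χ hrχ => ?_, triv := fun χ hχ => ?_
            z := L.el 1, z_order := L.orderOf_x, z_index := by omega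
            z_value := fun χ => by rw [hU, hUs χ] }⟩
  · obtain ⟨p1, p2, p3⟩ := hprod χ
    exact ⟨key _ _ (small c1 s1 χ) (small cs sS χ) p1, key _ _ (small c1 s1 χ) (small c2 s2 χ) p2,
      key _ _ (small cs sS χ) (small c2 s2 χ) p3⟩
  · refine (memLocalIdeal_intCast_iff hM _).1 ?_
    have h := memLocalIdeal_add hM
      (memLocalIdeal_char_sub_degree hM (Char.IsIrr.isCharacter χ.2) (g := L.x)
        ⟨1, by rw [L.orderOf_x, pow_one]⟩)
      (memLocalIdeal_char_sub_degree hM (Char.IsIrr.isCharacter χ.2) (g := L.x⁻¹)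
        ⟨1, by rw [orderOf_inv, L.orderOf_x, pow_one]⟩)
    rw [← L.el_one, char_one] at h
    rw [← hUs χ]
    push_cast
    rw [← hU]
    convert h using 1
    ring
  · have h := deg_dvd_index_mul_add χ (L.el 1) (L.el 1)⁻¹ (by rw [hinvC]) (hU χ)
    rw [show (Subgroup.centralizer ({L.el 1} : Set G)).index = 5829120 by omega] at h
    rw [← hUs χ]
    exact_mod_cast h
  · have h := deg_dvd_index_mul_add χ (L.el w) (L.el w)⁻¹ (by rw [hinvC]) (hW χ)
    have hi := hidx w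
    rw [kw] at hi
    rw [show (Subgroup.centralizer ({L.el w} : Set G)).index = 11658240 by omega] at h
    rw [← hWs χ]
    exact_mod_cast h
  · have h := congrArg Complex.re (hrW χ)
    rw [char_inv] at h
    simp [Complex.mul_re, Complex.sub_re, Complex.sub_im] at h
    have : (0 : ℝ) ≤ (r χ : ℝ) := by rw [h]; exact mul_self_nonneg _
    exact_mod_cast this
  · refine (memLocalIdeal_intCast_iff hM _).1 ?_
    rw [hrW]
    refine memLocalIdeal_neg (memLocalIdeal_mul_right hM ?_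
      (memLocalRing_of_isIntegral hM ((value_integral χ _).sub (value_integral χ _))))
    have := memLocalIdeal_sub hM (L.el_congr hM χ w) (L.el_congr hM (conjIrr χ) w)
    rw [hcs, hcs, show (χ : G → ℂ) (L.em w)⁻¹ = (χ : G → ℂ) (L.em w) from char_isConj χ (by
      rw [Cent.em, ← map_inv, Prod.inv_mk, inv_one]
      exact hem (by decide +kernel))] at this
    convert this using 1
    ring
  · refine ⟨2 * N χ - (W χ * (W χ + 1) / 2) - c2 χ, ?_⟩
    obtain ⟨j, hj⟩ := Int.even_mul_succ_self (W χ)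
    rw [show W χ * (W χ + 1) / 2 = j by omega]
    simp only [hr]
    have := hWs χ
    linarith
  · refine ⟨fun e => hrχ ?_, ?_⟩
    · have h := hcs χ (L.el w)
      rw [e] at h
      have h2 : (r χ : ℂ) = 0 := by rw [hrW, ← h]; ring
      exact_mod_cast h2
    · have hcc : ∀ u, (conjIrr χ : G → ℂ) u + (conjIrr χ : G → ℂ) u⁻¹ =
          (χ : G → ℂ) u + (χ : G → ℂ) u⁻¹ := fun u => by rw [hcs, hcs, inv_inv, add_comm]
      have eU : U (conjIrr χ) = U χ := by
        apply Int.cast_injective (α := ℂ); rw [← hU, ← hU, hcc]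
      have eB : B (conjIrr χ) = B χ := by
        apply Int.cast_injective (α := ℂ); rw [← hB, ← hB, hcc]
      have eW : W (conjIrr χ) = W χ := by
        apply Int.cast_injective (α := ℂ); rw [← hW, ← hW, hcc]
      have eN : N (conjIrr χ) = N χ := by
        apply Int.cast_injective (α := ℂ); rw [← hN, ← hN, hcs, hcs, inv_inv, mul_comm]
      have := hUs χ
      have := hUs (conjIrr χ)
      have := hBs χ
      have := hBs (conjIrr χ)
      have := hWs χ
      have := hWs (conjIrr χ)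
      refine ⟨by omega, by omega, by omega, ?_⟩
      simp only [hr, eW, eN]
  · have e : ∀ (V : ℤ) (u : G), (χ : G → ℂ) u + (χ : G → ℂ) u⁻¹ = V → V = 2 := fun V u h => by
      rw [hχ, hχ] at h
      norm_num at h
      exact_mod_cast h.symm
    have := e _ _ (hU χ)
    have := e _ _ (hB χ)
    have := e _ _ (hW χ)
    have := hUs χ
    have := hBs χ
    have := hWs χ
    omega

end Cfsg.Agent.M24Nse
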