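import Cfsg.Agent.M24Nse.Cent

/-!
# The classes of elements with 7-part `x`, for a centralizer of shape `7 × S₃`
-/

set_option autoImplicit false
set_option linter.unusedSectionVars false

namespace Cfsg.Agent.M24Nse.Seven

open Cfsg.Agent Cfsg.Agent.Blocks

/-- The symmetric group on three letters. -/
abbrev Sym : Type := Equiv.Perm (Fin 3)

/-- An involution. -/
def t : Sym := Equiv.swap 0 1

/-- An element of order three. -/
def w : Sym := Equiv.swap 0 1 * Equiv.swap 1 2

/-- Representatives of the classes. -/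
def rep : Fin 3 → Sym := ![1, t, w]

/-- The class of an element. -/
def cls (a : Sym) : Fin 3 := if a = 1 then 0 else if a * a = 1 then 1 else 2

theorem cls_spec : ∀ a : Sym, ∃ c : Sym, c * a * c⁻¹ = rep (cls a) := by decide +kernel

theorem pow_six : ∀ a : Sym, a ^ 36 = 1 := by decide +kernel

theorem conj_of_cls : ∀ a b : Sym, cls a = cls b → ∃ c : Sym, c * a * c⁻¹ = b := by decide +kernel

theorem orderOf_t : orderOf t = 2 :=
  orderOf_eq_prime (by decide +kernel) (by decide +kernel)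

theorem orderOf_w : orderOf w = 3 :=
  orderOf_eq_prime (hp := ⟨Nat.prime_three⟩) (by decide +kernel) (by decide +kernel)

theorem orderOf_rep (a : Sym) : orderOf a = ![1, 2, 3] (cls a) := by
  obtain ⟨c, hc⟩ := cls_spec a
  rw [← show orderOf (MulAut.conj c a) = orderOf a from (MulAut.conj c).orderOf_eq a,
    MulAut.conj_apply, hc]
  generalize cls a = i
  fin_cases i
  · simp [rep]
  · simp [rep, orderOf_t]
  · simp [rep, orderOf_w]

theorem cls_eq_of_order {a b : Sym} (h : orderOf a = orderOf b) : cls a = cls b := by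
  rw [orderOf_rep, orderOf_rep] at h
  exact (show ∀ i j : Fin 3, ![1, 2, 3] i = (![1, 2, 3] j : ℕ) → i = j by decide) _ _ h

universe u

variable {G : Type u} [Group G] [Fintype G] [Fact (Nat.Prime 7)] (L : Cent G 7 Sym)

theorem conj_rep (a : Sym) : IsConj a (rep (cls a)) := isConj_iff.2 (cls_spec a)

theorem el_conj_rep (a : Sym) : IsConj (L.el a) (L.el (rep (cls a))) :=
  L.isConj_el (conj_rep a)

theorem value (χ : Cfsg.IrrCharacter G) (a : Sym) :
    (χ : G → ℂ) (L.el a) = (χ : G → ℂ) (L.el (rep (cls a))) :=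
  char_isConj χ (el_conj_rep L a)

/-- A sum of values from the class multiplicities. -/
theorem sum_cls (χ : Cfsg.IrrCharacter G) (T : Finset Sym) (F : Sym → Sym) (n : Fin 3 → ℕ)
    (hn : ∀ i, (T.filter fun b => cls (F b) = i).card = n i) :
    ∑ b ∈ T, (χ : G → ℂ) (L.el (F b)) = ∑ i, (n i : ℂ) * (χ : G → ℂ) (L.el (rep i)) := by
  rw [← Finset.sum_fiberwise T (fun b => cls (F b))]
  refine Finset.sum_congr rfl fun i _ => ?_
  rw [Finset.sum_congr rfl fun b hb => ?_, Finset.sum_const, hn, nsmul_eq_mul]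
  rw [value L χ, (Finset.mem_filter.1 hb).2]

theorem isConj_inv' {a b : G} (h : IsConj a b) : IsConj a⁻¹ b⁻¹ := by
  obtain ⟨c, rfl⟩ := isConj_iff.1 h
  exact isConj_iff.2 ⟨c, by group⟩

/-- No element inverts `x`, so no `el a` is conjugate to its inverse. -/
theorem not_conj_inv (hno : ∀ h : G, h * L.x * h⁻¹ ≠ L.x⁻¹) (a b : Sym) :
    ¬ IsConj (L.el a) (L.el b)⁻¹ := fun h => by
  obtain ⟨c, hc⟩ := isConj_iff.1 h
  refine hno c ?_
  calc c * L.x * c⁻¹ = c * (L.el a ^ L.m) * c⁻¹ := by rw [L.pow_el]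
    _ = (c * L.el a * c⁻¹) ^ L.m := conj_pow.symm
    _ = L.x⁻¹ := by rw [hc, inv_pow, L.pow_el]

variable {g : G} (hg : g * L.x * g⁻¹ = L.x ^ 2)
include hg

/-- The powers of `el a` are conjugate to it or to its inverse. -/
theorem conj_pow_el (a : Sym) {k : ℕ} (hk : k.Coprime 42) :
    IsConj (L.el a ^ k) (L.el a) ∨ IsConj (L.el a ^ k) (L.el a)⁻¹ := by
  obtain ⟨θ, hord, -, hθ⟩ := L.exists_step (r := 2) (by norm_num) hg
  let F : ℕ → Sym → G := fun j b => L.f (Multiplicative.ofAdd (j : ZMod 7), b)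
  have hF1 : ∀ b, F 1 b = L.el b := fun b => by simp [F, Cent.el]
  have hmod : ∀ j b, F j b = F (j % 7) b := fun j b => by simp only [F, ZMod.natCast_mod]
  have hsame : ∀ j b c, cls b = cls c → IsConj (F j b) (F j c) := by
    intro j b c h
    obtain ⟨d, rfl⟩ := conj_of_cls b c h
    refine isConj_iff.2 ⟨L.f (1, d), ?_⟩
    simp only [F, ← map_inv, ← map_mul]
    congr 1
    simp
  have hstep : ∀ j b, IsConj (F (2 * j) b) (F j b) := fun j b =>
    (hθ j b).trans (hsame j _ _ (cls_eq_of_order (hord b)))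
  have h2 : ∀ b, IsConj (F 2 b) (L.el b) := fun b => hF1 b ▸ hstep 1 b
  have h4 : ∀ b, IsConj (F 4 b) (L.el b) := fun b => (hstep 2 b).trans (h2 b)
  have hinv : ∀ b j, j < 7 → F (7 - j) b = (F j b⁻¹)⁻¹ := fun b j hj => by
    simp only [F, ← map_inv, Prod.inv_mk, inv_inv, ← ofAdd_neg]
    congr 3
    rw [Nat.cast_sub hj.le, ZMod.natCast_self, zero_sub]
  have hb : ∀ b : Sym, cls b⁻¹ = cls b := by decide +kernel
  have hin : ∀ b j, j < 7 → IsConj (F j b⁻¹) (L.el b⁻¹) → IsConj (F (7 - j) b) (L.el b)⁻¹ :=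
    fun b j hj h => by
      rw [hinv b j hj]
      exact isConj_inv' (h.trans (L.isConj_el (isConj_iff.2 (conj_of_cls _ _ (hb b)))))
  have hpow : cls (a ^ k) = cls a := by
    rw [← pow_mod_orderOf, orderOf_rep]
    have h2 : k % 2 ≠ 0 := fun h => by
      have := Nat.dvd_gcd (Nat.dvd_of_mod_eq_zero h) (show 2 ∣ 42 by norm_num)
      rw [hk] at this; norm_num at this
    have h3 : k % 3 ≠ 0 := fun h => by
      have := Nat.dvd_gcd (Nat.dvd_of_mod_eq_zero h) (show 3 ∣ 42 by norm_num)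
      rw [hk] at this; norm_num at this
    have key : ∀ b : Sym, ∀ i : Fin 6, i.1 % 2 ≠ 0 → i.1 % 3 ≠ 0 →
        cls (b ^ (i.1 % ![1, 2, 3] (cls b))) = cls b := by decide +kernel
    have := key a ⟨k % 6, Nat.mod_lt _ (by norm_num)⟩ (by show k % 6 % 2 ≠ 0; omega)
      (by show k % 6 % 3 ≠ 0; omega)
    convert this using 3
    have hd : (![1, 2, 3] (cls a) : ℕ) ∣ 6 :=
      (show ∀ i : Fin 3, (![1, 2, 3] i : ℕ) ∣ 6 by decide) _
    exact (Nat.mod_mod_of_dvd k hd).symm
  have hk7 : k % 7 ≠ 0 := fun h => by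
    have := Nat.dvd_gcd (Nat.dvd_of_mod_eq_zero h) (show 7 ∣ 42 by norm_num)
    rw [hk] at this; norm_num at this
  rw [show L.el a ^ k = F k (a ^ k) by
    simp only [F, Cent.el, L.pow_pair, ← ofAdd_nsmul, nsmul_one], hmod]
  have hto : ∀ j, IsConj (F j (a ^ k)) (F j a) := fun j => hsame j _ _ hpow
  have : k % 7 < 7 := Nat.mod_lt _ (by norm_num)
  interval_cases h : k % 7
  · exact absurd rfl hk7
  · exact Or.inl (hF1 a ▸ hto 1)
  · exact Or.inl ((hto 2).trans (h2 a))
  · exact Or.inr ((hto 3).trans (hin a 4 (by norm_num) (h4 a⁻¹)))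
  · exact Or.inl ((hto 4).trans (h4 a))
  · exact Or.inr ((hto 5).trans (hin a 2 (by norm_num) (h2 a⁻¹)))
  · exact Or.inr ((hto 6).trans (hin a 1 (by norm_num) (by rw [hF1])))

end Cfsg.Agent.M24Nse.Seven
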