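import Cfsg.Agent.M24Nse.Comp
import Cfsg.Agent.M24Nse.Search.Tables

/-!
# The six components have their degree lists in the tables
-/

set_option autoImplicit false
set_option linter.unusedSectionVars false

namespace Cfsg.Agent.M24Nse

open Cfsg.Agent Search

universe u

variable {G : Type u} [Group G] [Fintype G]

theorem int_small {v : Cfsg.IrrCharacter G → ℤ} {n : ℤ} {k : ℕ} (h : ∑ χ, v χ * v χ = n)
    (hn : n < ((k : ℤ) + 1) * ((k : ℤ) + 1)) (χ : Cfsg.IrrCharacter G) : (v χ).natAbs ≤ k := by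
  have h1 := Finset.single_le_sum (f := fun χ => v χ * v χ) (fun i _ => mul_self_nonneg _)
    (Finset.mem_univ χ)
  simp only [h] at h1
  by_contra hc
  have h2 : (k : ℤ) + 1 ≤ ((v χ).natAbs : ℤ) := by omega
  have h3 := mul_le_mul h2 h2 (by omega) (by omega)
  rw [Int.natAbs_mul_self'] at h3
  omega

theorem natAbs_dvd {d : ℕ} {base : ℕ} {v x : ℤ} (hd : (d : ℤ) ∣ (base : ℤ) * x)
    (hx : x.natAbs = v.natAbs) : d ∣ base * v.natAbs := by
  have h := Int.natCast_dvd.1 hd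
  rwa [Int.natAbs_mul, Int.natAbs_natCast, hx] at h

theorem orth_deg (hB : BigFacts G) {S : Set ℕ} (h1 : Disjoint S {1}) (h11 : Disjoint S {11})
    (h23 : Disjoint S {23}) {v : Cfsg.IrrCharacter G → ℤ} (hv : InCol S fun χ => (v χ : ℂ))
    (g : ℕ → ℤ) (hg : g = (fun d : ℕ => (d : ℤ)) ∨ g = r11 ∨ g = r23) :
    ∑ χ, v χ * g (deg χ) = 0 := by
  rcases hg with rfl | rfl | rfl
  · exact InCol.int_sum_eq_zero h1 (b := fun χ => (deg χ : ℤ)) hv
      (InCol.deg.congr fun χ => by simp)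
  · exact InCol.int_sum_eq_zero h11 hv hB.col11
  · exact InCol.int_sum_eq_zero h23 hv hB.col23

theorem triv_value_small {v : Cfsg.IrrCharacter G → ℤ} {c : ℕ → ℤ} (z : ℤ)
    (h : v (trivChar G) = z) (hc : c 1 = z) : v (trivChar G) = c (deg (trivChar G)) := by
  rw [h, deg_trivChar, hc]

/-- An upper bound for a number of members. -/
theorem card_mul_le {X : Finset (Cfsg.IrrCharacter G)} {f : Cfsg.IrrCharacter G → ℤ} {k : ℤ}
    (h0 : ∀ χ, 0 ≤ f χ) (hk : ∀ χ ∈ X, k ≤ f χ) : (X.card : ℤ) * k ≤ ∑ χ, f χ := by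
  refine le_trans ?_ (Finset.sum_le_sum_of_subset_of_nonneg (Finset.subset_univ X) fun χ _ _ => h0 χ)
  rw [← nsmul_eq_mul]
  exact Finset.card_nsmul_le_sum X f k hk

namespace FiveParts

variable (P : FiveParts G)

theorem triv_vals : P.a1 (trivChar G) = 1 ∧ P.a3 (trivChar G) = 0 ∧ P.s (trivChar G) = 0 :=
  P.triv _ trivChar_apply

theorem orth5 (hB : BigFacts G) {v : Cfsg.IrrCharacter G → ℤ}
    (hv : InCol ords5 fun χ => (v χ : ℂ)) (g : ℕ → ℤ)
    (hg : g = (fun d : ℕ => (d : ℤ)) ∨ g = r11 ∨ g = r23) : ∑ χ, v χ * g (deg χ) = 0 :=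
  orth_deg hB (by simp [ords5]) (by simp [ords5]) (by simp [ords5]) hv g hg

theorem s_shape :
    ((part P.s 3).card = 0) ∧
      (((part P.s 1).card = 2 ∧ (part P.s 2).card = 2 ∧
          ∀ χ ∈ part P.s 1, conjIrr χ ≠ χ ∧ P.s (conjIrr χ) = P.s χ) ∨
        ((part P.s 1).card = 10 ∧ (part P.s 2).card = 0 ∧
          ∀ χ ∈ part P.s 1, conjIrr χ ≠ χ ∧ P.s (conjIrr χ) = P.s χ)) := by
  classical
  have hcnt := count_eq (fun χ => int_small (k := 3) P.sumS (by norm_num) χ) P.sumS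
  rw [P.triv_vals.2.2] at hcnt
  have hpair : ∀ w : ℕ, (∀ χ ∈ part P.s w, P.r χ ≠ 0) →
      ∀ χ ∈ part P.s w, conjIrr χ ≠ χ ∧ P.s (conjIrr χ) = P.s χ := fun w hr χ hχ =>
    ⟨(P.r_conj χ (hr χ hχ)).1, (P.r_conj χ (hr χ hχ)).2.2.2.1⟩
  have heven : ∀ w : ℕ, (∀ χ ∈ part P.s w, P.r χ ≠ 0) → 2 ∣ (part P.s w).card := fun w hr =>
    (even_card fun χ hχ => ⟨(hpair w hr χ hχ).1, mem_part.2 ⟨conj_ne_triv (mem_part.1 hχ).1, by
      rw [(hpair w hr χ hχ).2]; exact (mem_part.1 hχ).2⟩⟩).two_dvd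
  have hodd : ∀ w : ℕ, w % 2 = 1 → ∀ χ ∈ part P.s w, P.r χ ≠ 0 := fun w hw χ hχ h0 => by
    have h := P.r_par χ
    rw [h0, zero_sub, dvd_neg] at h
    have h2 : (2 : ℤ) ∣ P.s χ := (Int.prime_two.dvd_or_dvd h).elim id id
    have := (mem_part.1 hχ).2
    omega
  have e1 := heven 1 (hodd 1 (by norm_num))
  have e3 := heven 3 (hodd 3 (by norm_num))
  have h3 : (part P.s 3).card = 0 := by omega
  refine ⟨h3, ?_⟩
  rcases P.r_case with hc | hc
  · left
    have hle : ((part P.s 1).card : ℤ) * 15 ≤ 30 := by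
      rw [← P.sumR]
      refine card_mul_le P.r_nonneg fun χ hχ => ?_
      have := hc χ
      have := P.r3 χ
      have := P.r_nonneg χ
      have := hodd 1 (by norm_num) χ hχ
      omega
    exact ⟨by omega, by omega, hpair 1 (hodd 1 (by norm_num))⟩
  · have e2 := heven 2 fun χ hχ => hc χ fun e => by
      have := (mem_part.1 hχ).2
      rw [e] at this
      simp at this
    rcases Nat.eq_zero_or_pos (part P.s 2).card with h0 | hpos
    · exact Or.inr ⟨by omega, h0, hpair 1 (hodd 1 (by norm_num))⟩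
    · exact Or.inl ⟨by omega, by omega, hpair 1 (hodd 1 (by norm_num))⟩

theorem s_le_two (χ : Cfsg.IrrCharacter G) : (P.s χ).natAbs ≤ 2 := by
  by_cases h : χ = trivChar G
  · rw [h, P.triv_vals.2.2]; simp
  · have h3 := int_small (k := 3) P.sumS (by norm_num) χ
    by_contra hc
    have : χ ∈ part P.s 3 := mem_part.2 ⟨h, by omega⟩
    rw [Finset.card_eq_zero.1 P.s_shape.1] at this
    exact absurd this (Finset.notMem_empty _)

theorem bounds (χ : Cfsg.IrrCharacter G) :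
    (P.a1 χ).natAbs ≤ 2 ∧ (P.a3 χ).natAbs ≤ 2 ∧ (P.s χ).natAbs ≤ 2 :=
  ⟨int_small (k := 2) P.sum1 (by norm_num) χ, int_small (k := 2) P.sum3 (by norm_num) χ,
    P.s_le_two χ⟩

theorem coef (χ : Cfsg.IrrCharacter G) :
    (P.a1 χ ≠ 0 → P.a1 χ = cW (deg χ) ∧ P.a3 χ = 0 ∧ P.s χ = 0) ∧
    (P.a3 χ ≠ 0 → P.a3 χ = cQ (deg χ) ∧ P.a1 χ = 0 ∧ P.s χ = 0) ∧
    (P.s χ ≠ 0 → P.s χ = cW (deg χ) ∧ P.a1 χ = 0 ∧ P.a3 χ = 0) := by
  obtain ⟨q1, q2, q3⟩ := P.excl χ
  obtain ⟨b1, b3, bs⟩ := P.bounds χ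
  have hd := P.deg5 χ
  refine ⟨fun h => ?_, fun h => ?_, fun h => ?_⟩
  · have z3 := (mul_eq_zero.1 q1).resolve_left h
    have zs := (mul_eq_zero.1 q2).resolve_left h
    rw [z3, zs] at hd
    refine ⟨?_, z3, zs⟩
    unfold cW
    split_ifs <;> omega
  · have z1 := (mul_eq_zero.1 q1).resolve_right h
    have zs := (mul_eq_zero.1 q3).resolve_left h
    rw [z1, zs] at hd
    refine ⟨?_, z1, zs⟩
    unfold cQ
    split_ifs <;> omega
  · have z1 := (mul_eq_zero.1 q2).resolve_right h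
    have z3 := (mul_eq_zero.1 q3).resolve_right h
    rw [z1, z3] at hd
    refine ⟨?_, z1, z3⟩
    unfold cW
    split_ifs <;> omega

theorem not_dvd_iff (χ : Cfsg.IrrCharacter G) :
    ¬ 5 ∣ deg χ ↔ P.a1 χ ≠ 0 ∨ P.a3 χ ≠ 0 ∨ P.s χ ≠ 0 := by
  obtain ⟨c1, c3, cs⟩ := P.coef χ
  obtain ⟨b1, b3, bs⟩ := P.bounds χ
  have hd := P.deg5 χ
  by_cases h1 : P.a1 χ = 0
  · by_cases h3 : P.a3 χ = 0
    · by_cases hs : P.s χ = 0
      · omega
      · obtain ⟨-, -, -⟩ := cs hs; omega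
    · obtain ⟨-, -, hs⟩ := c3 h3; omega
  · obtain ⟨-, h3, hs⟩ := c1 h1; omega

theorem compP (hB : BigFacts G) : Comp P.a1 cW 4080384 where
  le_two χ := (P.bounds χ).1
  coef χ h := ((P.coef χ).1 h).1
  dvd χ h := by
    obtain ⟨-, h3, hs⟩ := (P.coef χ).1 h
    refine natAbs_dvd (x := P.a1 χ + P.s χ + 3 * P.a3 χ) (by exact_mod_cast P.dvdP χ) ?_
    rw [h3, hs]
    simp
  orth := orth5 hB P.col1

theorem compQ (hB : BigFacts G) : Comp P.a3 cQ 12241152 where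
  le_two χ := (P.bounds χ).2.1
  coef χ h := ((P.coef χ).2.1 h).1
  dvd χ h := by
    obtain ⟨-, h1, hs⟩ := (P.coef χ).2.1 h
    refine natAbs_dvd (x := P.a1 χ + P.s χ - P.a3 χ) (by exact_mod_cast P.dvdQ χ) ?_
    rw [h1, hs]
    simp
  orth := orth5 hB P.col3

theorem compW (hB : BigFacts G) : Comp P.s cW 4080384 where
  le_two χ := P.s_le_two χ
  coef χ h := ((P.coef χ).2.2 h).1
  dvd χ h := by
    obtain ⟨-, h1, h3⟩ := (P.coef χ).2.2 h
    refine natAbs_dvd (x := P.a1 χ + P.s χ + 3 * P.a3 χ) (by exact_mod_cast P.dvdP χ) ?_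
    rw [h1, h3]
    simp
  orth := orth5 hB P.colS

theorem three_empty {v : Cfsg.IrrCharacter G → ℤ} (h : ∀ χ, (v χ).natAbs ≤ 2) :
    (part v 3).card = 0 :=
  Finset.card_eq_zero.2 (Finset.eq_empty_of_forall_notMem fun χ hχ => by
    have := (mem_part.1 hχ).2
    have := h χ
    omega)

theorem listP (hF : Facts G) (hB : BigFacts G) :
    ∃ l ∈ tblP, (l : Multiset ℕ) = degsOf (supp P.a1) := by
  have hcnt := count_eq (fun χ => int_small (k := 3) P.sum1 (by norm_num) χ) P.sum1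
  rw [P.triv_vals.1, three_empty fun χ => (P.bounds χ).1] at hcnt
  have hC := P.compP hB
  rcases Nat.eq_zero_or_pos (part P.a1 2).card with h2 | h2
  · have := hC.ones_mem hF hB (k := 3) (by omega) h2
    rwa [P.triv_vals.1, tblP_eq] at this
  · exfalso
    have h1 : (part P.a1 1).card = 0 := by omega
    obtain ⟨χ, hχ⟩ := Finset.card_eq_one.1 (show (part P.a1 2).card = 1 by omega)
    have h := hC.ok.1
    rw [P.triv_vals.1, degsOf_supp fun χ _ => hC.le_two χ, Finset.card_eq_zero.1 h1, hχ] at h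
    simp [degsOf] at h
    have hm : χ ∈ part P.a1 2 := by simp [hχ]
    have hv := (mem_part.1 hm).2
    rw [hC.coef χ (fun e => by rw [e] at hv; simp at hv)] at hv
    rcases Int.natAbs_eq_iff.1 hv with e | e <;> rw [e] at h <;> omega

theorem listQ (hF : Facts G) (hB : BigFacts G) :
    ∃ l ∈ tblQ, (l : Multiset ℕ) = degsOf (supp P.a3) := by
  have hcnt := count_eq (fun χ => int_small (k := 3) P.sum3 (by norm_num) χ) P.sum3
  rw [P.triv_vals.2.1, three_empty fun χ => (P.bounds χ).2.1] at hcnt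
  have hC := P.compQ hB
  rw [← tblQ_eq]
  rcases Nat.eq_zero_or_pos (part P.a3 2).card with h2 | h2
  · obtain ⟨l, hl, he⟩ := hC.ones_mem hF hB (k := 4) (by omega) h2
    exact ⟨l, List.mem_append_left _ (P.triv_vals.2.1 ▸ hl), he⟩
  · obtain ⟨l, hl, he⟩ := hC.two_mem hF hB P.triv_vals.2.1 (by omega) (by omega)
    exact ⟨l, List.mem_append_right _ hl, he⟩

theorem listW (hF : Facts G) (hB : BigFacts G) :
    ∃ l ∈ tblW, (l : Multiset ℕ) = degsOf (supp P.s) := by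
  have hC := P.compW hB
  rw [← tblW_eq]
  rcases P.s_shape.2 with ⟨h1, h2, hp⟩ | ⟨h1, h2, hp⟩
  · obtain ⟨l, hl, he⟩ := hC.pair_mem hF hB (k := 1) hp h1 h2
    exact ⟨l, List.mem_append_left _ (P.triv_vals.2.2 ▸ hl), he⟩
  · obtain ⟨u, hu⟩ := exists_half hp
    have e : degsOf (supp P.s) = degsOf (part P.s 1) := by
      rw [degsOf_supp fun χ _ => hC.le_two χ, Finset.card_eq_zero.1 h2]
      simp [degsOf]
    have hcard : Multiset.card u = 4 + 1 := by
      have := congrArg Multiset.card hu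
      rw [degsOf, Multiset.card_map, Finset.card_val, h1, Multiset.card_add] at this
      omega
    have hok := hC.ok
    rw [P.triv_vals.2.2, e, hu] at hok
    obtain ⟨o1, o2, o3⟩ := hok
    simp only [Multiset.map_add, Multiset.sum_add, zero_add, mul_zero] at o1 o2 o3
    obtain ⟨l, hl, he⟩ := ones_complete (c := cW) (z := 0) (k := 4) (c1 := cands cW 4080384 1)
      hcard (fun x hx => hC.mem_cands hF hB one_ne_zero (hu ▸ Multiset.mem_add.2 (Or.inl hx)))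
      ⟨by omega, by omega, by omega⟩
    refine ⟨l ++ l, List.mem_append_right _ (List.mem_map.2 ⟨l, hl, rfl⟩), ?_⟩
    rw [← Multiset.coe_add, he, e, hu]

end FiveParts

namespace SevenParts

variable (P : SevenParts G)

theorem triv_vals : P.c1 (trivChar G) = 2 ∧ P.cs (trivChar G) = 0 ∧ P.c2 (trivChar G) = 0 :=
  P.triv _ trivChar_apply

theorem shapes :
    ((part P.c1 1).card = 2 ∧ (part P.c1 2).card = 2 ∧ (part P.c1 3).card = 0) ∧
    ((part P.cs 1).card = 2 ∧ (part P.cs 2).card = 3 ∧ (part P.cs 3).card = 0) ∧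
    ((part P.c2 1).card = 2 ∧ (part P.c2 2).card = 3 ∧ (part P.c2 3).card = 0) ∧
    (∀ χ ∈ part P.c1 1, conjIrr χ ≠ χ ∧ P.c1 (conjIrr χ) = P.c1 χ) ∧
    (∀ χ ∈ part P.cs 1, conjIrr χ ≠ χ ∧ P.cs (conjIrr χ) = P.cs χ) ∧
    ∀ χ ∈ part P.c2 1, conjIrr χ ≠ χ ∧ P.c2 (conjIrr χ) = P.c2 χ := by
  classical
  let odd : (Cfsg.IrrCharacter G → ℤ) → Finset (Cfsg.IrrCharacter G) := fun v =>
    Finset.univ.filter fun χ => χ ≠ trivChar G ∧ v χ % 2 = 1
  have hr : ∀ χ, (P.c1 χ % 2 = 1 ∨ P.cs χ % 2 = 1 ∨ P.c2 χ % 2 = 1) → P.r χ ≠ 0 ∧ 7 ≤ P.r χ := by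
    intro χ h
    obtain ⟨q1, q2, q3⟩ := P.excl χ
    have hpar := P.r_par χ
    have h7 := P.r7 χ
    have h0 := P.r_nonneg χ
    have : P.r χ % 2 = 1 := by
      rcases h with h | h | h
      · rw [(mul_eq_zero.1 q1).resolve_left (fun e => by rw [e] at h; simp at h),
          (mul_eq_zero.1 q2).resolve_left (fun e => by rw [e] at h; simp at h)] at hpar
        omega
      · rw [(mul_eq_zero.1 q1).resolve_right (fun e => by rw [e] at h; simp at h),
          (mul_eq_zero.1 q3).resolve_left (fun e => by rw [e] at h; simp at h)] at hpar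
        omega
      · rw [(mul_eq_zero.1 q2).resolve_right (fun e => by rw [e] at h; simp at h),
          (mul_eq_zero.1 q3).resolve_right (fun e => by rw [e] at h; simp at h)] at hpar
        omega
    omega
  have hdis : ∀ (a b : Cfsg.IrrCharacter G → ℤ), (∀ χ, a χ * b χ = 0) →
      Disjoint (odd a) (odd b) := fun a b h => Finset.disjoint_left.2 fun χ ha hb => by
    simp only [odd, Finset.mem_filter] at ha hb
    rcases mul_eq_zero.1 (h χ) with e | e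
    · rw [e] at ha; simp at ha
    · rw [e] at hb; simp at hb
  have htot : ((odd P.c1).card : ℤ) + (odd P.cs).card + (odd P.c2).card ≤ 6 := by
    have hd1 : Disjoint (odd P.c1) (odd P.cs) := hdis _ _ fun χ => (P.excl χ).1
    have hd2 : Disjoint (odd P.c1 ∪ odd P.cs) (odd P.c2) := Finset.disjoint_union_left.2
      ⟨hdis _ _ fun χ => (P.excl χ).2.1, hdis _ _ fun χ => (P.excl χ).2.2⟩
    have := card_mul_le (X := odd P.c1 ∪ odd P.cs ∪ odd P.c2) (k := 7) P.r_nonneg fun χ hχ => by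
      simp only [odd, Finset.mem_union, Finset.mem_filter] at hχ
      exact (hr χ (by tauto)).2
    rw [P.sumR, Finset.card_union_of_disjoint hd2, Finset.card_union_of_disjoint hd1] at this
    push_cast at this
    omega
  have key : ∀ (v : Cfsg.IrrCharacter G → ℤ), ∑ χ, v χ * v χ = 14 →
      (∀ χ, v χ % 2 = 1 → P.r χ ≠ 0) →
      (∀ χ, P.r χ ≠ 0 → v (conjIrr χ) = v χ) →
      ((part v 1).card : ℤ) + 4 * (part v 2).card + 9 * (part v 3).card =
          14 - v (trivChar G) * v (trivChar G) ∧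
        2 ∣ (part v 1).card ∧ 2 ∣ (part v 3).card ∧
        (odd v).card = (part v 1).card + (part v 3).card ∧
        ∀ χ ∈ part v 1, conjIrr χ ≠ χ ∧ v (conjIrr χ) = v χ := by
    intro v hv hvr hvc
    have hp : ∀ w : ℕ, w % 2 = 1 → ∀ χ ∈ part v w, conjIrr χ ≠ χ ∧ v (conjIrr χ) = v χ := by
      intro w hw χ hχ
      have hr0 : P.r χ ≠ 0 := hvr χ (by have := (mem_part.1 hχ).2; omega)
      exact ⟨(P.r_conj χ hr0).1, hvc χ hr0⟩
    have he : ∀ w : ℕ, w % 2 = 1 → 2 ∣ (part v w).card := fun w hw =>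
      (even_card fun χ hχ => ⟨(hp w hw χ hχ).1, mem_part.2 ⟨conj_ne_triv (mem_part.1 hχ).1, by
        rw [(hp w hw χ hχ).2]; exact (mem_part.1 hχ).2⟩⟩).two_dvd
    refine ⟨count_eq (fun χ => int_small (k := 3) hv (by norm_num) χ) hv, he 1 rfl, he 3 rfl, ?_,
      hp 1 rfl⟩
    rw [← Finset.card_union_of_disjoint (Finset.disjoint_left.2 fun χ h1 h3 => by
      rw [mem_part] at h1 h3; omega)]
    congr 1
    ext χ
    simp only [odd, Finset.mem_filter, Finset.mem_univ, true_and, Finset.mem_union, mem_part]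
    have := int_small (k := 3) hv (by norm_num) χ
    constructor
    · rintro ⟨h1, h2⟩
      by_cases e : (v χ).natAbs = 1
      · exact Or.inl ⟨h1, e⟩
      · exact Or.inr ⟨h1, by omega⟩
    · rintro (⟨h1, h2⟩ | ⟨h1, h2⟩) <;> exact ⟨h1, by omega⟩
  obtain ⟨a1, a2, a3, a4, a5⟩ := key P.c1 P.sum1 (fun χ h => (hr χ (Or.inl h)).1)
    fun χ h => (P.r_conj χ h).2.1
  obtain ⟨b1, b2, b3, b4, b5⟩ := key P.cs P.sumS (fun χ h => (hr χ (Or.inr (Or.inl h))).1)
    fun χ h => (P.r_conj χ h).2.2.1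
  obtain ⟨d1, d2, d3, d4, d5⟩ := key P.c2 P.sum2 (fun χ h => (hr χ (Or.inr (Or.inr h))).1)
    fun χ h => (P.r_conj χ h).2.2.2.1
  rw [P.triv_vals.1] at a1
  rw [P.triv_vals.2.1] at b1
  rw [P.triv_vals.2.2] at d1
  exact ⟨⟨by omega, by omega, by omega⟩, ⟨by omega, by omega, by omega⟩,
    ⟨by omega, by omega, by omega⟩, a5, b5, d5⟩

theorem bounds (χ : Cfsg.IrrCharacter G) :
    (P.c1 χ).natAbs ≤ 2 ∧ (P.cs χ).natAbs ≤ 2 ∧ (P.c2 χ).natAbs ≤ 2 := by
  obtain ⟨s1, ss, s2, -⟩ := P.shapes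
  obtain ⟨t1, ts, t2⟩ := P.triv_vals
  have key : ∀ (v : Cfsg.IrrCharacter G → ℤ), ∑ χ, v χ * v χ = 14 →
      (v (trivChar G)).natAbs ≤ 2 → (part v 3).card = 0 → (v χ).natAbs ≤ 2 := by
    intro v hv ht h3
    by_cases h : χ = trivChar G
    · rwa [h]
    · by_contra hc
      have := int_small (k := 3) hv (by norm_num) χ
      have : χ ∈ part v 3 := mem_part.2 ⟨h, by omega⟩
      rw [Finset.card_eq_zero.1 h3] at this
      exact absurd this (Finset.notMem_empty _)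
  exact ⟨key _ P.sum1 (by rw [t1]; rfl) s1.2.2, key _ P.sumS (by rw [ts]; simp) ss.2.2,
    key _ P.sum2 (by rw [t2]; simp) s2.2.2⟩

theorem coef (χ : Cfsg.IrrCharacter G) :
    (P.c1 χ ≠ 0 → P.c1 χ = cS (deg χ) ∧ P.cs χ = 0 ∧ P.c2 χ = 0) ∧
    (P.cs χ ≠ 0 → P.cs χ = cS (deg χ) ∧ P.c1 χ = 0 ∧ P.c2 χ = 0) ∧
    (P.c2 χ ≠ 0 → P.c2 χ = cT (deg χ) ∧ P.c1 χ = 0 ∧ P.cs χ = 0) := by
  obtain ⟨q1, q2, q3⟩ := P.excl χ
  obtain ⟨b1, bs, b2⟩ := P.bounds χ
  have hd := P.deg7 χ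
  refine ⟨fun h => ?_, fun h => ?_, fun h => ?_⟩
  · have zs := (mul_eq_zero.1 q1).resolve_left h
    have z2 := (mul_eq_zero.1 q2).resolve_left h
    rw [zs, z2] at hd
    refine ⟨?_, zs, z2⟩
    unfold cS
    split_ifs <;> omega
  · have z1 := (mul_eq_zero.1 q1).resolve_right h
    have z2 := (mul_eq_zero.1 q3).resolve_left h
    rw [z1, z2] at hd
    refine ⟨?_, z1, z2⟩
    unfold cS
    split_ifs <;> omega
  · have z1 := (mul_eq_zero.1 q2).resolve_right h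
    have zs := (mul_eq_zero.1 q3).resolve_right h
    rw [z1, zs] at hd
    refine ⟨?_, z1, zs⟩
    unfold cT
    split_ifs <;> omega

theorem not_dvd_iff (χ : Cfsg.IrrCharacter G) :
    ¬ 7 ∣ deg χ ↔ P.c1 χ ≠ 0 ∨ P.cs χ ≠ 0 ∨ P.c2 χ ≠ 0 := by
  obtain ⟨k1, ks, k2⟩ := P.coef χ
  obtain ⟨b1, bs, b2⟩ := P.bounds χ
  have hd := P.deg7 χ
  by_cases h1 : P.c1 χ = 0
  · by_cases hs : P.cs χ = 0
    · by_cases h2 : P.c2 χ = 0
      · omega
      · obtain ⟨-, -, -⟩ := k2 h2; omega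
    · obtain ⟨-, -, h2⟩ := ks hs; omega
  · obtain ⟨-, hs, h2⟩ := k1 h1; omega

theorem orth7 (hB : BigFacts G) {v : Cfsg.IrrCharacter G → ℤ}
    (hv : InCol ords7 fun χ => (v χ : ℂ)) (g : ℕ → ℤ)
    (hg : g = (fun d : ℕ => (d : ℤ)) ∨ g = r11 ∨ g = r23) : ∑ χ, v χ * g (deg χ) = 0 :=
  orth_deg hB (by simp [ords7]) (by simp [ords7]) (by simp [ords7]) hv g hg

theorem comp1 (hB : BigFacts G) : Comp P.c1 cS 5829120 where
  le_two χ := (P.bounds χ).1
  coef χ h := ((P.coef χ).1 h).1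
  dvd χ h := by
    obtain ⟨-, hs, h2⟩ := (P.coef χ).1 h
    refine natAbs_dvd (x := P.c1 χ + P.cs χ + 2 * P.c2 χ) (by exact_mod_cast P.dvdU χ) ?_
    rw [hs, h2]
    simp
  orth := orth7 hB P.col1

theorem compS (hB : BigFacts G) : Comp P.cs cS 5829120 where
  le_two χ := (P.bounds χ).2.1
  coef χ h := ((P.coef χ).2.1 h).1
  dvd χ h := by
    obtain ⟨-, h1, h2⟩ := (P.coef χ).2.1 h
    refine natAbs_dvd (x := P.c1 χ + P.cs χ + 2 * P.c2 χ) (by exact_mod_cast P.dvdU χ) ?_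
    rw [h1, h2]
    simp
  orth := orth7 hB P.colS

theorem comp2 (hB : BigFacts G) : Comp P.c2 cT 11658240 where
  le_two χ := (P.bounds χ).2.2
  coef χ h := ((P.coef χ).2.2 h).1
  dvd χ h := by
    obtain ⟨-, h1, hs⟩ := (P.coef χ).2.2 h
    refine natAbs_dvd (x := P.c1 χ + P.cs χ - P.c2 χ) (by exact_mod_cast P.dvdW χ) ?_
    rw [h1, hs]
    simp
  orth := orth7 hB P.col2

theorem listT0 (hF : Facts G) (hB : BigFacts G) :
    ∃ l ∈ tblT0, (l : Multiset ℕ) = degsOf (supp P.c1) := by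
  obtain ⟨⟨h1, h2, -⟩, -, -, hp, -, -⟩ := P.shapes
  have := (P.comp1 hB).pair_mem hF hB (k := 1) hp h1 h2
  rwa [P.triv_vals.1, tblT0_eq] at this

theorem listS (hF : Facts G) (hB : BigFacts G) :
    ∃ l ∈ tblS, (l : Multiset ℕ) = degsOf (supp P.cs) := by
  obtain ⟨-, ⟨h1, h2, -⟩, -, -, hp, -⟩ := P.shapes
  have := (P.compS hB).pair_mem hF hB (k := 2) hp h1 h2
  rwa [P.triv_vals.2.1, tblS_eq] at this

theorem listT (hF : Facts G) (hB : BigFacts G) :
    ∃ l ∈ tblT, (l : Multiset ℕ) = degsOf (supp P.c2) := by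
  obtain ⟨-, -, ⟨h1, h2, -⟩, -, -, hp⟩ := P.shapes
  have := (P.comp2 hB).pair_mem hF hB (k := 2) hp h1 h2
  rwa [P.triv_vals.2.2, tblT_eq] at this

end SevenParts

end Cfsg.Agent.M24Nse
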