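import Mathlib
import Cfsg.Agent.Blocks.ClassAlgebra
import Cfsg.Agent.Blocks.FixedPoints
import Cfsg.Agent.Blocks.Idempotent
import Cfsg.Agent.Blocks.Congr
import Cfsg.Agent.Char.Zero

/-!
# Columns of the character table and congruences at an element of prime order
-/

set_option autoImplicit false
set_option linter.unusedSectionVars false

namespace Cfsg.Agent.M24Nse

open scoped ComplexConjugate
open Cfsg.Agent Cfsg.Agent.Blocks

universe u

variable {G : Type u} [Group G] [Fintype G]

/-- The degree of an irreducible character. -/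
noncomputable abbrev deg (χ : Cfsg.IrrCharacter G) : ℕ := Cfsg.charDegree (χ : G → ℂ)

theorem char_one (χ : Cfsg.IrrCharacter G) : (χ : G → ℂ) 1 = (deg χ : ℂ) :=
  (charDegree_cast (Char.IsIrr.isCharacter χ.2)).symm

theorem deg_pos (χ : Cfsg.IrrCharacter G) : 0 < deg χ := charDegree_pos χ.2

theorem deg_dvd (χ : Cfsg.IrrCharacter G) : deg χ ∣ Nat.card G :=
  Char.IsIrr.degree_dvd_card χ.2 (char_one χ)

theorem char_conj (χ : Cfsg.IrrCharacter G) (u c : G) :
    (χ : G → ℂ) (c * u * c⁻¹) = (χ : G → ℂ) u :=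
  Char.isClassFunction_of_isIrr χ.2 u c

theorem char_isConj (χ : Cfsg.IrrCharacter G) {u v : G} (h : IsConj u v) :
    (χ : G → ℂ) u = (χ : G → ℂ) v := by
  obtain ⟨c, rfl⟩ := isConj_iff.1 h
  exact (char_conj χ u c).symm

theorem char_inv (χ : Cfsg.IrrCharacter G) (u : G) :
    (χ : G → ℂ) u⁻¹ = conj ((χ : G → ℂ) u) :=
  Char.IsChar.inv_eq_conj (Char.IsIrr.isCharacter χ.2) u

theorem orderOf_eq_of_isConj {u v : G} (h : IsConj u v) : orderOf u = orderOf v := by
  obtain ⟨c, rfl⟩ := isConj_iff.1 h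
  exact ((MulAut.conj c).orderOf_eq u).symm

/-- Two columns at elements that are not conjugate to the inverse of each other are orthogonal. -/
theorem orth {u v : G} (h : ¬ IsConj u v⁻¹) :
    ∑ χ : Cfsg.IrrCharacter G, (χ : G → ℂ) u * (χ : G → ℂ) v = 0 := by
  classical
  have h1 := Char.second_orthogonality u v⁻¹
  rw [if_neg h] at h1
  simpa [char_inv] using h1

/-- A column against its inverse. -/
theorem orth_self {u v : G} (h : IsConj u v⁻¹) :
    ∑ χ : Cfsg.IrrCharacter G, (χ : G → ℂ) u * (χ : G → ℂ) v =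
      (Nat.card (Subgroup.centralizer ({u} : Set G)) : ℂ) := by
  classical
  have h1 := Char.second_orthogonality u v⁻¹
  rw [if_pos h] at h1
  simpa [char_inv] using h1

theorem sum_sq_deg : ∑ χ : Cfsg.IrrCharacter G, deg χ * deg χ = Nat.card G := by
  have h := orth_self (u := (1 : G)) (v := 1) (by rw [inv_one])
  simp only [char_one] at h
  have e : Nat.card (Subgroup.centralizer ({1} : Set G)) = Nat.card G :=
    Nat.card_congr (Equiv.subtypeUnivEquiv fun g => by
      rw [Subgroup.mem_centralizer_singleton_iff, one_mul, mul_one])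
  rw [e] at h
  exact_mod_cast h

/-- A combination of columns at elements whose orders lie in `S`. -/
def InCol (S : Set ℕ) (a : Cfsg.IrrCharacter G → ℂ) : Prop :=
  a ∈ Submodule.span ℂ
    {b : Cfsg.IrrCharacter G → ℂ | ∃ u : G, orderOf u ∈ S ∧ b = fun χ : Cfsg.IrrCharacter G => (χ : G → ℂ) u}

theorem InCol.base {S : Set ℕ} {u : G} (h : orderOf u ∈ S) :
    InCol S fun χ : Cfsg.IrrCharacter G => (χ : G → ℂ) u :=
  Submodule.subset_span ⟨u, h, rfl⟩

theorem InCol.add {S : Set ℕ} {a b : Cfsg.IrrCharacter G → ℂ} (ha : InCol S a)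
    (hb : InCol S b) : InCol S fun χ => a χ + b χ :=
  Submodule.add_mem _ ha hb

theorem InCol.sub {S : Set ℕ} {a b : Cfsg.IrrCharacter G → ℂ} (ha : InCol S a)
    (hb : InCol S b) : InCol S fun χ => a χ - b χ :=
  Submodule.sub_mem _ ha hb

theorem InCol.smul {S : Set ℕ} {a : Cfsg.IrrCharacter G → ℂ} (c : ℂ) (ha : InCol S a) :
    InCol S fun χ => c * a χ :=
  Submodule.smul_mem _ c ha

theorem InCol.congr {S : Set ℕ} {a b : Cfsg.IrrCharacter G → ℂ} (ha : InCol S a)
    (h : ∀ χ, b χ = a χ) : InCol S b :=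
  (funext h : b = a) ▸ ha

theorem InCol.deg : InCol {1} fun χ : Cfsg.IrrCharacter G => (deg χ : ℂ) :=
  (InCol.base (S := {1}) (u := (1 : G)) (by simp)).congr fun χ => (char_one χ).symm

theorem InCol.sum_mul_eq_zero {S T : Set ℕ} (hd : Disjoint S T)
    {a b : Cfsg.IrrCharacter G → ℂ} (ha : InCol S a) (hb : InCol T b) :
    ∑ χ, a χ * b χ = 0 := by
  unfold InCol at ha
  induction ha using Submodule.span_induction with
  | mem x hx =>
    obtain ⟨u, hu, rfl⟩ := hx
    unfold InCol at hb
    induction hb using Submodule.span_induction with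
    | mem y hy =>
      obtain ⟨v, hv, rfl⟩ := hy
      refine orth fun h => Set.disjoint_left.1 hd hu ?_
      rwa [orderOf_eq_of_isConj h, orderOf_inv]
    | zero => simp
    | add y z _ _ hy hz => simp [mul_add, Finset.sum_add_distrib, hy, hz]
    | smul c y _ hy =>
      rw [Finset.sum_congr rfl fun (χ : Cfsg.IrrCharacter G) _ => show (χ : G → ℂ) u * (c • y) χ =
        c * ((χ : G → ℂ) u * y χ) from mul_left_comm _ _ _, ← Finset.mul_sum, hy, mul_zero]
  | zero => simp
  | add x y _ _ hx hy => simp [add_mul, Finset.sum_add_distrib, hx, hy]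
  | smul c x _ hx => simp [mul_assoc, ← Finset.mul_sum, hx]

/-- Integer valued version of the orthogonality. -/
theorem InCol.int_sum_eq_zero {S T : Set ℕ} (hd : Disjoint S T)
    {a b : Cfsg.IrrCharacter G → ℤ} (ha : InCol S fun χ => (a χ : ℂ))
    (hb : InCol T fun χ => (b χ : ℂ)) : ∑ χ, a χ * b χ = 0 := by
  have h := InCol.sum_mul_eq_zero hd ha hb
  exact_mod_cast h

/-- An algebraic integer in the field of character values fixed by the Galois automorphisms. -/
theorem exists_int_of_fixed {z : ℂ} (hz : IsIntegral ℤ z) (hmem : z ∈ Char.cycField (Nat.card G))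
    (h : ∀ (k : ℕ) (σ : ℂ →+* ℂ), k.Coprime (Nat.card G) →
      (∀ (χ : Cfsg.IrrCharacter G) (g : G), σ ((χ : G → ℂ) g) = (χ : G → ℂ) (g ^ k)) → σ z = z) :
    ∃ n : ℤ, z = n := by
  obtain ⟨q, hq⟩ := Char.exists_rat_of_fixed Nat.card_pos.ne' hmem fun k σ hk hσ =>
    h k σ hk fun χ g => Char.galois_apply_pow σ hσ (Char.IsIrr.isCharacter χ.2) (orderOf_dvd_natCard g)
  exact Blocks.exists_int_of_isIntegral_rat hz q hq

theorem value_mem (χ : Cfsg.IrrCharacter G) (g : G) :
    (χ : G → ℂ) g ∈ Char.cycField (Nat.card G) :=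
  Char.IsChar.mem_cycField (Char.IsIrr.isCharacter χ.2) g

theorem value_integral (χ : Cfsg.IrrCharacter G) (g : G) : IsIntegral ℤ ((χ : G → ℂ) g) :=
  Char.IsChar.isIntegral (Char.IsIrr.isCharacter χ.2) g

/-- A character value fixed by the powers prime to the order of the group is an integer. -/
theorem exists_int_value (χ : Cfsg.IrrCharacter G) (g : G)
    (h : ∀ k : ℕ, k.Coprime (Nat.card G) → IsConj (g ^ k) g) :
    ∃ n : ℤ, (χ : G → ℂ) g = n :=
  exists_int_of_fixed (value_integral χ g) (value_mem χ g) fun k σ hk hσ => by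
    rw [hσ, char_isConj χ (h k hk)]

/-- A sum and product of two values permuted by the Galois automorphisms are integers. -/
theorem exists_int_pair (χ : Cfsg.IrrCharacter G) (g g' : G)
    (h : ∀ k : ℕ, k.Coprime (Nat.card G) →
      (IsConj (g ^ k) g ∧ IsConj (g' ^ k) g') ∨ (IsConj (g ^ k) g' ∧ IsConj (g' ^ k) g)) :
    (∃ n : ℤ, (χ : G → ℂ) g + (χ : G → ℂ) g' = n) ∧
      ∃ n : ℤ, (χ : G → ℂ) g * (χ : G → ℂ) g' = n := by
  refine ⟨exists_int_of_fixed ((value_integral χ g).add (value_integral χ g'))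
      (add_mem (value_mem χ g) (value_mem χ g')) fun k σ hk hσ => ?_,
    exists_int_of_fixed ((value_integral χ g).mul (value_integral χ g'))
      (mul_mem (value_mem χ g) (value_mem χ g')) fun k σ hk hσ => ?_⟩
  · rcases h k hk with ⟨h1, h2⟩ | ⟨h1, h2⟩ <;>
      rw [map_add, hσ, hσ, char_isConj χ h1, char_isConj χ h2]
    exact add_comm _ _
  · rcases h k hk with ⟨h1, h2⟩ | ⟨h1, h2⟩ <;>
      rw [map_mul, hσ, hσ, char_isConj χ h1, char_isConj χ h2]
    exact mul_comm _ _

/-- The degree divides the class length times an integral value. -/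
theorem deg_dvd_index_mul (χ : Cfsg.IrrCharacter G) (g : G) {v : ℤ}
    (hv : (χ : G → ℂ) g = v) :
    (deg χ : ℤ) ∣ ((Subgroup.centralizer ({g} : Set G)).index : ℤ) * v := by
  have h := isIntegral_centralChar χ.2 g
  rw [Cfsg.centralChar, hv, char_one] at h
  obtain ⟨k, hk⟩ := Char.exists_int_of_isIntegral_rat
    (q := (((Subgroup.centralizer ({g} : Set G)).index : ℚ) * v) / deg χ) (by
      push_cast; exact h)
  refine ⟨k, ?_⟩
  rw [eq_div_iff (Nat.cast_ne_zero.2 (deg_pos χ).ne')] at hk
  have : k * (deg χ : ℤ) = ((Subgroup.centralizer ({g} : Set G)).index : ℤ) * v := by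
    exact_mod_cast hk
  linarith

/-- The same for a sum of two values at elements with equally many conjugates. -/
theorem deg_dvd_index_mul_add (χ : Cfsg.IrrCharacter G) (g g' : G) {v : ℤ}
    (hi : (Subgroup.centralizer ({g'} : Set G)).index = (Subgroup.centralizer ({g} : Set G)).index)
    (hv : (χ : G → ℂ) g + (χ : G → ℂ) g' = v) :
    (deg χ : ℤ) ∣ ((Subgroup.centralizer ({g} : Set G)).index : ℤ) * v := by
  have h := (isIntegral_centralChar χ.2 g).add (isIntegral_centralChar χ.2 g')
  rw [Cfsg.centralChar, Cfsg.centralChar, hi, ← add_div, ← mul_add, hv, char_one] at h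
  obtain ⟨k, hk⟩ := Char.exists_int_of_isIntegral_rat
    (q := (((Subgroup.centralizer ({g} : Set G)).index : ℚ) * v) / deg χ) (by
      push_cast; exact h)
  refine ⟨k, ?_⟩
  rw [eq_div_iff (Nat.cast_ne_zero.2 (deg_pos χ).ne')] at hk
  have : k * (deg χ : ℤ) = ((Subgroup.centralizer ({g} : Set G)).index : ℤ) * v := by
    exact_mod_cast hk
  linarith

open scoped Classical in
/-- The congruences at an element `x` of `p`-power order from a union of classes. -/
theorem exists_omega_congr {p : ℕ} {M : Ideal Cfsg.AlgInt} (hM : Cfsg.IsPModular p M)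
    (χ : Cfsg.IrrCharacter G) (S : G → Prop) (hS : ∀ k c, S k → S (c * k * c⁻¹)) {x : G}
    (hx : IsPGroup p (Subgroup.zpowers x)) (F : Finset G)
    (hF : ∀ k, k ∈ F ↔ S k ∧ Commute x k) :
    ∃ ω : ℂ, Cfsg.MemLocalRing M ω ∧ ∀ g : G, Commute x g →
      Cfsg.MemLocalIdeal M (ω * (χ : G → ℂ) g - ∑ k ∈ F, (χ : G → ℂ) (k * g)) := by
  let e : G → ℂ := fun k => if S k then 1 else 0
  have hS' : ∀ k c, S (c * k * c⁻¹) ↔ S k := fun k c => ⟨fun h => by
    have := hS _ c⁻¹ h
    rwa [inv_inv, ← mul_assoc, ← mul_assoc, inv_mul_cancel, one_mul, inv_mul_cancel_right] at this,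
    hS k c⟩
  have he : Cfsg.IsClassFunction G e := fun k c => by
    simp only [e, hS' k c]
  refine ⟨omega (χ : G → ℂ) e, memLocalRing_omega hM χ.2 he fun k => ?_, fun g hg => ?_⟩
  · simp only [e]
    split
    · exact memLocalRing_of_isIntegral hM isIntegral_one
    · exact memLocalRing_of_isIntegral hM isIntegral_zero
  obtain ⟨n, ρ, hρ, hχ⟩ := χ.2
  have h1 : omega (χ : G → ℂ) e * (χ : G → ℂ) g = ∑ k, e k * (χ : G → ℂ) (k * g) := by
    have h := congrArg (fun T : Module.End ℂ (Fin n → ℂ) => LinearMap.trace ℂ _ (T * ρ g))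
      (sum_smul_rep_eq_omega ρ hρ he)
    simp only [Finset.sum_mul, smul_mul_assoc, ← map_mul, map_sum, map_smul, smul_eq_mul] at h
    rw [show (LinearMap.id : (Fin n → ℂ) →ₗ[ℂ] (Fin n → ℂ)) * ρ g = ρ g from rfl] at h
    rw [← hχ]
    exact h.symm
  let P := Subgroup.zpowers x
  letI : MulAction P G := MulAction.compHom G ((MulAut.conj : G →* MulAut G).comp P.subtype)
  have key := memLocalIdeal_sum_sub_fixed hM hx (fun k : G => e k * (χ : G → ℂ) (k * g))
    (fun k => (localRing hM).mul_mem (by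
      show Cfsg.MemLocalRing M (e k)
      simp only [e]
      split
      · exact memLocalRing_of_isIntegral hM isIntegral_one
      · exact memLocalRing_of_isIntegral hM isIntegral_zero)
      (memLocalRing_of_isIntegral hM (value_integral χ _)))
    (fun u k => by
      show e ((u : G) * k * (u : G)⁻¹) * (χ : G → ℂ) ((u : G) * k * (u : G)⁻¹ * g) =
        e k * (χ : G → ℂ) (k * g)
      obtain ⟨j, hj⟩ := Subgroup.mem_zpowers_iff.1 u.2
      have hc : Commute (u : G) g := hj ▸ hg.zpow_left j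
      rw [he k u, mul_assoc ((u : G) * k), hc.inv_left.eq, ← mul_assoc,
        mul_assoc (u : G) k g, char_conj])
  have hfix : ∀ k : G, k ∈ MulAction.fixedPoints P G ↔ Commute x k := by
    intro k
    constructor
    · intro h
      exact mul_inv_eq_iff_eq_mul.1 (h ⟨x, Subgroup.mem_zpowers x⟩)
    · intro h u
      obtain ⟨j, hj⟩ := Subgroup.mem_zpowers_iff.1 u.2
      show (u : G) * k * (u : G)⁻¹ = k
      exact mul_inv_eq_iff_eq_mul.2 (hj ▸ h.zpow_left j).eq
  rw [← h1] at key
  convert key using 2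
  simp only [e, ite_mul, one_mul, zero_mul, ← Finset.sum_filter, Finset.filter_filter]
  refine Finset.sum_congr ?_ fun _ _ => rfl
  ext k
  rw [Finset.mem_filter]
  simp [hF, hfix, P, and_comm]

end Cfsg.Agent.M24Nse
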